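import Groth.Agent.PlaneBlow.CurveSub
import Groth.Agent.Nakai.CurveConfig
import Groth.Agent.Castel.StepDiv
import Groth.Agent.SurfRR.Components
import Groth.Agent.ConnDiv.Basic
import Groth.Agent.H1Triv.Basic
import Groth.Agent.PtPush.StrictChi
import Groth.Agent.RatBlow.Modif

/-!
# Reduced unions of curves on a surface
-/

set_option autoImplicit false
set_option backward.isDefEq.respectTransparency false
set_option backward.isDefEq.respectTransparency.types false
set_option linter.style.haveILetI false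
set_option linter.unusedSectionVars false

universe u

open CategoryTheory CategoryTheory.Limits AlgebraicGeometry TopologicalSpace

noncomputable section

namespace Groth.Agent.PlaneBlow

variable {X : Scheme.{u}}

theorem eq_vanishingIdeal_support (C : X.IdealSheafData) [IsReduced C.subscheme] :
    C = Scheme.IdealSheafData.vanishingIdeal C.support := by
  have h := Nakai.ker_eq_vanishingIdeal C.subschemeι
  rwa [Scheme.IdealSheafData.ker_subschemeι] at h

/-- An invertible ideal and a prime divisor outside of it. -/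
theorem inf_eq_mul {I : X.IdealSheafData} (hI : BlowUp.IsEffCartierIdeal I) (C : X.IdealSheafData)
    [IsIntegral C.subscheme] (hγ : C.subschemeι (genericPoint C.subscheme) ∉ (I.support : Set X)) :
    I ⊓ C = I * C := by
  refine le_antisymm ?_ (le_inf (fun U => by
    rw [Scheme.IdealSheafData.ideal_mul, Pi.mul_apply]; exact Ideal.mul_le_left) (fun U => by
    rw [Scheme.IdealSheafData.ideal_mul, Pi.mul_apply]; exact Ideal.mul_le_right))
  choose U hxU a ha he using hI
  refine Scheme.IdealSheafData.le_of_iSup_eq_top U (eq_top_iff.2 fun x _ => Opens.mem_iSup.2 ⟨x, hxU x⟩) fun x => ?_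
  intro z hz
  rw [Scheme.IdealSheafData.ideal_inf, Pi.inf_apply, Ideal.mem_inf] at hz
  rw [Scheme.IdealSheafData.ideal_mul, Pi.mul_apply]
  obtain ⟨hz1, hz2⟩ := hz
  rw [he x] at hz1 ⊢
  obtain ⟨r, rfl⟩ := Ideal.mem_span_singleton'.1 hz1
  rw [mul_comm r]
  refine Ideal.mul_mem_mul (Ideal.mem_span_singleton_self _) ?_
  rw [eq_vanishingIdeal_support C, Scheme.IdealSheafData.vanishingIdeal_ideal, PrimeSpectrum.mem_vanishingIdeal] at hz2 ⊢
  intro z hz
  let γ := C.subschemeι (genericPoint C.subscheme)
  have hsp : γ ⤳ (U x).2.fromSpec z := by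
    rw [specializes_iff_mem_closure, Nakai.closure_genericPoint_subscheme]
    exact hz
  have hzU : (U x).2.fromSpec z ∈ ((U x).1 : Set X) := (U x).2.range_fromSpec ▸ Set.mem_range_self z
  have hγU : γ ∈ (U x).1 := hsp.mem_open (U x).1.2 hzU
  let w := (U x).2.primeIdealOf ⟨γ, hγU⟩
  have hwγ : (U x).2.fromSpec w = γ := (U x).2.fromSpec_primeIdealOf ⟨γ, hγU⟩
  have hw : w.asIdeal ≤ z.asIdeal := by
    rw [PrimeSpectrum.asIdeal_le_asIdeal, PrimeSpectrum.le_iff_specializes,
      ← (U x).2.fromSpec.isOpenEmbedding.isInducing.specializes_iff, hwγ]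
    exact hsp
  have hwC : r * a x ∈ w.asIdeal := hz2 w (show (U x).2.fromSpec w ∈ (C.support : Set X) by
    rw [hwγ, ← Nakai.closure_genericPoint_subscheme]; exact subset_closure rfl)
  refine hw ((w.2.mem_or_mem hwC).resolve_right fun haw => hγ ?_)
  rw [SetLike.mem_coe, Scheme.IdealSheafData.mem_support_iff_of_mem (U := U x) hγU, he x, Scheme.zeroLocus_span]
  rw [← hwγ, ← Set.mem_preimage, (U x).2.fromSpec_preimage_zeroLocus, PrimeSpectrum.mem_zeroLocus]
  simpa using haw

variable (k : Type u) [Field k] [X.Over (Spec (CommRingCat.of k))] [IsProper (X ↘ Spec (CommRingCat.of k))]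
  [IsAlgClosed k] [IsIntegral X] [Smooth (X ↘ Spec (CommRingCat.of k))] (hdim : topologicalKrullDim X = 2)
  {n : ℕ} (C : Fin n → X.IdealSheafData) (hCi : ∀ i, IsIntegral (C i).subscheme)
  (hCd : ∀ i, topologicalKrullDim ((C i).support : Set X) = 1)
  (hCinj : Function.Injective fun i => ((C i).support : Set X))

include hdim in
theorem euler_quot_mul {I J : X.IdealSheafData} (hI : BlowUp.IsEffCartierIdeal I) (hJ : BlowUp.IsEffCartierIdeal J) :
    Curv2.euler k X (ClSub.quotMod (I * J)) = Curv2.euler k X (ClSub.quotMod I) + Curv2.euler k X (ClSub.quotMod J) -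
      FGA.intNum k X 2 ![ClSub.idealMod I, ClSub.idealMod J] (Coh.structureModule X) := by
  haveI := CurveRR.isNoetherian_of_proper k X
  obtain ⟨e⟩ := Nakai.nonempty_idealMod_mul hI hJ
  have h := fun D : X.IdealSheafData => CurveRR.euler_add (k := k) (CurveRR.ideal_shortExact D)
    (CurveRR.isCoh_idealMod D).1 RefStalk.isCoh_structureModule (CurveRR.isCoh_idealMod D).2
  have h1 := h I
  have h2 := h J
  have h3 := h (I * J)
  have h4 := CurveRR.euler_eq_of_iso (k := k) e
  have h5 := SurfRR.intNum_two k hdim.le (ClSub.idealMod I) (ClSub.idealMod J)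
  dsimp only [ClSub.quotMod] at h1 h2 h3 ⊢
  omega

include hCi hCd hCinj in
theorem genericPoint_notMem {i j : Fin n} (h : i ≠ j) :
    (C i).subschemeι (genericPoint (C i).subscheme) ∉ ((C j).support : Set X) := fun hm => by
  haveI := hCi i
  haveI := hCi j
  refine h (hCinj (congrArg (fun D : X.IdealSheafData => (D.support : Set X)) (Nakai.eq_of_genericPoint
    (Intersect.eq_of_dim (d := 1) (y := (C j).subschemeι (genericPoint (C j).subscheme)) ?_ ?_ ?_).symm)))
  · rw [specializes_iff_mem_closure, Nakai.closure_genericPoint_subscheme]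
    exact hm
  · rw [Nakai.closure_genericPoint_subscheme, hCd j]
    exact le_rfl
  · rw [Nakai.closure_genericPoint_subscheme, hCd i]
    rfl

include k hdim hCi hCd hCinj in
theorem finset_prod (s : Finset (Fin n)) :
    BlowUp.IsEffCartierIdeal (∏ i ∈ s, C i) ∧ ∏ i ∈ s, C i = s.inf C ∧
      (∀ i ∉ s, (C i).subschemeι (genericPoint (C i).subscheme) ∉ ((∏ j ∈ s, C j).support : Set X)) ∧
      (∀ D : X.IdealSheafData, BlowUp.IsEffCartierIdeal D →
        FGA.intNum k X 2 ![ClSub.idealMod (∏ i ∈ s, C i), ClSub.idealMod D] (Coh.structureModule X) =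
          ∑ i ∈ s, FGA.intNum k X 2 ![ClSub.idealMod (C i), ClSub.idealMod D] (Coh.structureModule X)) ∧
      Curv2.euler k X (ClSub.quotMod (∏ i ∈ s, C i)) = ∑ i ∈ s, Curv2.euler k X (ClSub.quotMod (C i)) -
        ∑ i ∈ s, ∑ j ∈ s,
          if i < j then FGA.intNum k X 2 ![ClSub.idealMod (C i), ClSub.idealMod (C j)] (Coh.structureModule X) else 0 := by
  classical
  haveI := CurveRR.isNoetherian_of_proper k X
  induction s using Finset.induction_on with
  | empty =>
    obtain ⟨e⟩ := RatBlow.nonempty_idealMod_top (X := X)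
    simp only [Finset.prod_empty, Finset.inf_empty, Scheme.IdealSheafData.one_eq_top, Finset.sum_empty,
      Scheme.IdealSheafData.support_top, sub_zero]
    refine ⟨BlowUpLib.cartier_top, trivial, fun i _ h => h, fun D _ => ?_, ?_⟩
    · have h1 := SurfRR.intNum_two k hdim.le (ClSub.idealMod (⊤ : X.IdealSheafData)) (ClSub.idealMod D)
      rw [CurveRR.euler_eq_of_iso (k := k) e, CurveRR.euler_eq_of_iso (k := k)
        (PicGrp.tensorModIso e (Iso.refl (ClSub.idealMod D)) ≪≫ TMul.leftUnitIso _)] at h1
      omega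
    · have h := CurveRR.euler_add (k := k) (CurveRR.ideal_shortExact (⊤ : X.IdealSheafData))
        (CurveRR.isCoh_idealMod ⊤).1 RefStalk.isCoh_structureModule (CurveRR.isCoh_idealMod ⊤).2
      dsimp only [ClSub.quotMod] at h ⊢
      rw [CurveRR.euler_eq_of_iso (k := k) e] at h
      omega
  | insert a s has ih =>
    obtain ⟨hc, hinf, hgen, hint, heul⟩ := ih
    haveI := hCi a
    have hca := Nakai.cartier_of_curve k hdim (C a) (hCd a)
    have hprod : ∏ i ∈ insert a s, C i = (∏ i ∈ s, C i) * C a := by
      rw [Finset.prod_insert has, mul_comm]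
    have hsym : ∀ i j, FGA.intNum k X 2 ![ClSub.idealMod (C i), ClSub.idealMod (C j)] (Coh.structureModule X) =
        FGA.intNum k X 2 ![ClSub.idealMod (C j), ClSub.idealMod (C i)] (Coh.structureModule X) :=
      fun i j => Nakai.intNum_comm' k hdim _ _
    rw [hprod]
    refine ⟨BlowUpLib.cartier_mul hc hca, ?_, ?_, ?_, ?_⟩
    · rw [Finset.inf_insert, ← inf_eq_mul hc (C a) (hgen a has), hinf, inf_comm]
    · intro i hi
      rw [Finset.mem_insert, not_or] at hi
      rw [Scheme.IdealSheafData.support_mul, Closeds.coe_sup, Set.mem_union, not_or]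
      exact ⟨hgen i hi.2, genericPoint_notMem C hCi hCd hCinj hi.1⟩
    · intro D hD
      obtain ⟨e⟩ := Nakai.nonempty_idealMod_mul hc hca
      rw [Finset.sum_insert has, ← hint D hD, PtPush.intNum_congr_left k hdim.le e.symm,
        PtPush.intNum_tensor_left k hdim.le _ _ _ ((Groth.Agent.S8914.result _).2 hc)
          ((Groth.Agent.S8914.result _).2 hca) ((Groth.Agent.S8914.result _).2 hD), add_comm]
    · rw [euler_quot_mul k hdim hc hca, heul, hint _ hca, Finset.sum_insert has]
      simp only [Finset.sum_insert has, lt_irrefl, if_false, zero_add, Finset.sum_add_distrib]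
      have hsplit : ∀ i ∈ s, FGA.intNum k X 2 ![ClSub.idealMod (C i), ClSub.idealMod (C a)] (Coh.structureModule X) =
          (if a < i then FGA.intNum k X 2 ![ClSub.idealMod (C a), ClSub.idealMod (C i)] (Coh.structureModule X) else 0) +
          (if i < a then FGA.intNum k X 2 ![ClSub.idealMod (C i), ClSub.idealMod (C a)] (Coh.structureModule X) else 0) := by
        intro i hi
        rcases lt_trichotomy i a with h | h | h
        · rw [if_neg (lt_asymm h), if_pos h, zero_add]
        · exact absurd (h ▸ hi) has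
        · rw [if_pos h, if_neg (lt_asymm h), add_zero, hsym]
      rw [Finset.sum_congr rfl hsplit, Finset.sum_add_distrib]
      ring

include k hdim hCi hCd hCinj in
theorem iInf_eq_prod : ⨅ i, C i = ∏ i, C i := by
  rw [(finset_prod k hdim C hCi hCd hCinj Finset.univ).2.1, Finset.inf_univ_eq_iInf]

include k hdim hCi hCd hCinj in
theorem h2_quot_union : CurveRR.h k (ClSub.quotMod (⨅ i, C i)) 2 = 0 ∧
    ∀ M : X.Modules, Coh.IsCoh M → CohB1.support M ⊆ ((⨅ i, C i).support : Set X) → Subsingleton (Coh.HH X M 2) := by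
  haveI := CurveRR.isNoetherian_of_proper k X
  obtain ⟨hc, -, -⟩ := finset_prod k hdim C hCi hCd hCinj Finset.univ
  rw [← iInf_eq_prod k hdim C hCi hCd hCinj] at hc
  have hgen : genericPoint X ∉ ((⨅ i, C i).support : Set X) := W7Fib.genericPoint_notMem_support fun hbot => by
    obtain ⟨U, hxU, a, ha, he⟩ := hc (genericPoint X)
    haveI : Nonempty U.1 := ⟨⟨_, hxU⟩⟩
    rw [hbot, Scheme.IdealSheafData.ideal_bot, Pi.bot_apply, eq_comm, Ideal.span_singleton_eq_bot] at he
    exact zero_notMem_nonZeroDivisors (he ▸ ha)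
  have hd : topologicalKrullDim ((⨅ i, C i).support : Set X) ≤ ((1 : ℕ) : WithBot ℕ∞) := by
    refine Order.le_of_lt_succ ?_
    refine (FreeJ.dim_lt_of_proper (n := 2) (by rw [hdim]; norm_cast) _ (⨅ i, C i).support.isClosed
      fun hu => hgen (hu ▸ Set.mem_univ _)).trans_le ?_
    norm_cast
  have main : ∀ M : X.Modules, Coh.IsCoh M → CohB1.support M ⊆ ((⨅ i, C i).support : Set X) →
      Subsingleton (Coh.HH X M 2) := fun M hM h =>
    Nakai.subsingleton_of_support_le k 1 hM ((Topology.IsEmbedding.inclusion h).topologicalKrullDim_le.trans hd) 2 one_lt_two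
  exact ⟨CurveRR.h_eq_zero (main _ (CurveRR.isCoh_idealMod _).2 (CurveRR.support_quotMod _)), main⟩

end Groth.Agent.PlaneBlow
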