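import Groth.Agent.PlaneBlow.NefBC
import Groth.Agent.Castel.PicDescent
import Groth.Agent.Castel.BlowLine
import Groth.Agent.Castel.Surface
import Groth.Agent.PtBlow.Universal
import Groth.Agent.PicPn.Main
import Groth.Agent.Nakai.RealClass
import Groth.Agent.PicBdd.NumBdd
import Groth.Agent.W7Hull.InvDual
import Groth.Agent.SurfAdj.Basic
import Mathlib.LinearAlgebra.TensorProduct.Prod

/-!
# The real Néron–Severi space of a blown-up point
-/

set_option autoImplicit false
set_option backward.isDefEq.respectTransparency false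
set_option backward.isDefEq.respectTransparency.types false
set_option linter.style.haveILetI false
set_option linter.unusedSectionVars false

universe u

open CategoryTheory CategoryTheory.Limits AlgebraicGeometry TopologicalSpace
open Groth.Agent.Intersect Groth.Agent.Nakai
open scoped TensorProduct

noncomputable section

namespace Groth.Agent.PlaneBlow

section Num

variable (k : Type u) [Field k] {X : Scheme.{u}} [X.Over (Spec (CommRingCat.of k))]
  [IsProper (X ↘ Spec (CommRingCat.of k))] [PicGrp.Law X]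

theorem cls_tensor' {L M : X.Modules} (hL : PicF.IsInvertible L) (hM : PicF.IsInvertible M)
    (hLM : PicF.IsInvertible (CohB1.tensorMod L M)) :
    PicGrp.cls (CohB1.tensorMod L M) hLM = PicGrp.cls L hL * PicGrp.cls M hM :=
  Subtype.ext (PicGrp.cls_mul_cls_val hL hM).symm

theorem cls_pow' {L : X.Modules} (hL : PicF.IsInvertible L) (n : ℕ) :
    PicGrp.cls (CohB1.tensorPow L n) (TMul.isInvertible_tensorPow hL n) = PicGrp.cls L hL ^ n :=
  Subtype.ext (PicGrp.cls_pow_val hL n).symm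

theorem numTriv_congr {L M : X.Modules} (hL : PicF.IsInvertible L) (hM : PicF.IsInvertible M) (e : L ≅ M)
    (h : Pic13.IsNumEquivZero k X L) : Pic13.IsNumEquivZero k X M := by
  refine isNumEquivZero_of_degFlat k hM fun F hF hd => ?_
  rw [D_one, ← CurveRR.euler_eq_of_iso (PicGrp.tensorModIso (Iso.refl F) e), ← D_one]
  exact PicBdd.degFlat_of_num k hL h F hF hd

/-- The classes of numerically trivial modules form the subgroup they generate. -/
theorem mem_subCl_iff {L : X.Modules} (hL : PicF.IsInvertible L) :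
    PicGrp.cls L hL ∈ PicGrp.subCl (Y := X) (Pic13.IsNumEquivZero k X) ↔ Pic13.IsNumEquivZero k X L := by
  refine ⟨fun h => ?_, PicGrp.cls_mem_subCl hL⟩
  suffices ∀ c ∈ PicGrp.subCl (Y := X) (Pic13.IsNumEquivZero k X),
      ∃ (M : X.Modules) (hM : PicF.IsInvertible M), c = PicGrp.cls M hM ∧ Pic13.IsNumEquivZero k X M by
    obtain ⟨M, hM, e, hn⟩ := this _ h
    obtain ⟨i⟩ := (PicGrp.cls_eq_cls_iff hL hM).1 e
    exact numTriv_congr k hM hL i.symm hn
  intro c hc
  induction hc using Subgroup.closure_induction with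
  | mem x hx =>
    obtain ⟨M, hM, hn, rfl⟩ := hx
    exact ⟨M, hM, rfl, hn⟩
  | one => exact ⟨_, PicLoc.isInvertible_structureModule X, PicGrp.cls_structureModule_eq_one.symm,
      isNumEquivZero_of_degFlat k (PicLoc.isInvertible_structureModule X) (degFlat_one k)⟩
  | mul a b _ _ ha hb =>
    obtain ⟨A, hA, rfl, hAn⟩ := ha
    obtain ⟨B, hB, rfl, hBn⟩ := hb
    have hAB := TMul.isInvertible_tensorMod hA hB
    refine ⟨_, hAB, (cls_tensor' hA hB hAB).symm, isNumEquivZero_of_degFlat k hAB fun F hF hd => ?_⟩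
    rw [PicBdd.D1_tensor k hA hB hF hd, PicBdd.degFlat_of_num k hA hAn F hF hd,
      PicBdd.degFlat_of_num k hB hBn F hF hd, add_zero]
  | inv a _ ha =>
    obtain ⟨A, hA, rfl, hAn⟩ := ha
    obtain ⟨A', hA', ⟨e⟩⟩ := W7Hull.exists_tensor_inverse hA
    exact ⟨A', hA', PicGrp.cls_inv_eq_cls hA hA' ⟨e⟩,
      (numTriv_iff_nef k hA' hA ⟨TMul.commIso _ _ ≪≫ e⟩).2 ((numTriv_iff_nef k hA hA' ⟨e⟩).1 hAn).symm⟩

/-- Vanishing in `N¹` is numerical triviality. -/
theorem cl_eq_zero_iff' {L : X.Modules} (hL : PicF.IsInvertible L) :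
    NumR.cl k X L hL = 0 ↔ Pic13.IsNumEquivZero k X L :=
  (QuotientGroup.eq_one_iff _).trans (mem_subCl_iff k hL)

end Num

/-- Numerical triviality and pullback along a surjection of proper schemes. -/
theorem numTriv_pullback_iff (k : Type u) [Field k] {X Y : Scheme.{u}} [X.Over (Spec (CommRingCat.of k))]
    [IsProper (X ↘ Spec (CommRingCat.of k))] [Y.Over (Spec (CommRingCat.of k))]
    [IsProper (Y ↘ Spec (CommRingCat.of k))] (g : Y ⟶ X) [IsProper g] [Surjective g]
    (hg : g ≫ (X ↘ Spec (CommRingCat.of k)) = Y ↘ Spec (CommRingCat.of k)) {L : X.Modules}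
    (hL : PicF.IsInvertible L) :
    Pic13.IsNumEquivZero k Y ((Scheme.Modules.pullback g).obj L) ↔ Pic13.IsNumEquivZero k X L := by
  obtain ⟨L', hL', ⟨e⟩⟩ := W7Hull.exists_tensor_inverse hL
  obtain ⟨t⟩ := TMul.nonempty_pullTensorIso g L L'
  rw [numTriv_iff_nef k (PicLoc.isInvertible_pullback g hL) (PicLoc.isInvertible_pullback g hL')
    ⟨t ≪≫ (Scheme.Modules.pullback g).mapIso e ≪≫ DerPerf.pullUnitIso g⟩, numTriv_iff_nef k hL hL' ⟨e⟩]
  exact ⟨fun h => ⟨nef_of_pullback k g hg hL h.1, nef_of_pullback k g hg hL' h.2⟩,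
    fun h => ⟨nef_pullback k g hg hL h.1, nef_pullback k g hg hL' h.2⟩⟩

/-- A module of degree zero on a line is trivial there. -/
theorem twist_eq_zero_of_numTriv (k : Type u) [Field k] {X : Scheme.{u}} [X.Over (Spec (CommRingCat.of k))]
    (j : CohB1.ProjSpace 1 k ⟶ X) [IsClosedImmersion j]
    (hj : j ≫ (X ↘ Spec (CommRingCat.of k)) = CohB1.ProjSpace.toSpec 1 k) {G : X.Modules}
    (hG : Pic13.IsNumEquivZero k X G) {d : ℤ}
    (e : (Scheme.Modules.pullback j).obj G ≅ Twist.twistProjSpace 1 k d) : d = 0 := by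
  haveI : IsIntegral (CohB1.ProjSpace 1 k) := Horrocks.isIntegral_projSpace
  haveI : IsProper (CohB1.ProjSpace 1 k ↘ Spec (CommRingCat.of k)) := ProjMor.isProper_toSpec 1 k
  have hd := Groth.Agent.S10829.result k 1
  have h := hG _ j inferInstance (hd.trans (by norm_cast))
  rw [hj, Pic13.curveDeg] at h
  change FGA.eulerCharLE k (CohB1.ProjSpace 1 k) ((Scheme.Modules.pullback j).obj G) 1 -
    FGA.eulerCharLE k (CohB1.ProjSpace 1 k) (Coh.structureModule _) 1 = 0 at h
  rw [eulerCharLE_eq k 1 hd.le, eulerCharLE_eq k 1 hd.le, CurveRR.euler_eq_of_iso e] at h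
  have := Castel.deg_twist_line k d
  rw [Curv2.deg, Nat.cast_one, one_mul] at this
  linarith

/-- Invertible modules on a one-point scheme are trivial. -/
theorem nonempty_iso_structure_of_subsingleton {Z : Scheme.{u}} [Subsingleton Z] [Nonempty Z] {L : Z.Modules}
    (hL : PicF.IsInvertible L) : Nonempty (L ≅ Coh.structureModule Z) := by
  obtain ⟨z⟩ := (inferInstance : Nonempty Z)
  obtain ⟨D, g, hzD, hg⟩ := TMul.exists_isGen hL z
  obtain rfl : D = ⊤ := top_le_iff.mp fun y _ => (Subsingleton.elim z y) ▸ hzD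
  haveI := PicPn.isIso_homOf hg
  exact ⟨(asIso (TMul.homOf g)).symm⟩

/-- The classes of twists are the powers of the class of `O(1)`. -/
theorem cls_twist_zpow (n : ℕ) (K : Type u) [Field K] [PicGrp.Law (CohB1.ProjSpace n K)] (a : ℤ) :
    PicGrp.cls _ (CohFinite.isInvertible_twist n K 1) ^ a = PicGrp.cls _ (CohFinite.isInvertible_twist n K a) := by
  have hadd : ∀ b c : ℤ, PicGrp.cls _ (CohFinite.isInvertible_twist n K b) *
      PicGrp.cls _ (CohFinite.isInvertible_twist n K c) = PicGrp.cls _ (CohFinite.isInvertible_twist n K (b + c)) :=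
    fun b c => by
      rw [← cls_tensor' _ _ (TMul.isInvertible_tensorMod (CohFinite.isInvertible_twist n K b)
        (CohFinite.isInvertible_twist n K c)), PicGrp.cls_eq_cls_iff]
      exact RegCx.twist_twist b c (b + c) rfl
  have h0 : PicGrp.cls _ (CohFinite.isInvertible_twist n K 0) = 1 :=
    (PicGrp.cls_eq_one_iff _).2 Horrocks.Om_zero
  induction a using Int.induction_on with
  | zero => rw [zpow_zero, h0]
  | succ m ih => rw [zpow_add_one, ih, hadd]
  | pred m ih =>
    rw [zpow_sub_one, ih, mul_inv_eq_iff_eq_mul, hadd, sub_add_cancel]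

variable (k : Type u) [Field k] [IsAlgClosed k] (X : Scheme.{u})
  [X.Over (Spec (CommRingCat.of k))] [IsProper (X ↘ Spec (CommRingCat.of k))]
  [Smooth (X ↘ Spec (CommRingCat.of k))] [IsIntegral X] (hdim : topologicalKrullDim X = 2)
  (x : X) (hx : IsClosed ({x} : Set X))
  (X' : Scheme.{u}) [X'.Over (Spec (CommRingCat.of k))] [IsProper (X' ↘ Spec (CommRingCat.of k))] (π : X' ⟶ X)
  (hover : X' ↘ Spec (CommRingCat.of k) = π ≫ (X ↘ Spec (CommRingCat.of k)))
  (hπ : BlowUp.IsBlowUp π (Scheme.IdealSheafData.vanishingIdeal ⟨{x}, hx⟩))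
  [PicGrp.Law X] [PicGrp.Law X'] (hπm : PicGrp.PullMul π)

include hdim hover hπ hπm

/-- `N¹` of the blown-up surface. -/
theorem exists_addEquiv : Nonempty ((NumR.N1 k X × ℤ) ≃+ NumR.N1 k X') := by
  haveI := CurveRR.isNoetherian_of_proper k X
  have hpt : PtBlow.IsRegPt X x := ⟨hx, SurfAdj.regular k hdim x, (Intersect.dim_stalk_closed k hx).trans hdim⟩
  have hb : BlowUp.IsBlowUp π (PtBlow.pt hpt) := hπ
  haveI := PtBlow.isProper_blowUp hpt hb
  haveI : Surjective π := ⟨PtBlow.surjective_blowUp hpt hb⟩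
  obtain ⟨k', _, ι, hι, hexc, -, -, hrange, i, hi, -, hcomp⟩ := PtBlow.exists_contraction'' hpt hb
  haveI := hι
  haveI := hi
  obtain ⟨hI, k₁, _, e', ⟨c⟩⟩ := hexc
  have hE : PicF.IsInvertible (ClSub.idealMod ι.ker) := (Groth.Agent.S8914.result _).2 hI
  -- the base field is the residue field
  let σ := i ≫ (X ↘ Spec (CommRingCat.of k))
  haveI : IsIso σ := by
    haveI : IsFinite σ := by
      rw [IsFinite.iff_isProper_and_isAffineHom]
      exact ⟨inferInstance, inferInstance⟩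
    have hs := Spec.map_preimage σ
    have hf : (Spec.preimage σ).hom.Finite := by
      have : IsFinite (Spec.map (Spec.preimage σ)) := by rw [hs]; infer_instance
      rwa [IsFinite.SpecMap_iff] at this
    letI := (Spec.preimage σ).hom.toAlgebra
    haveI : Module.Finite k k' := hf
    haveI : Algebra.IsIntegral k k' := Algebra.IsIntegral.of_finite k k'
    have hb' : Function.Bijective (algebraMap k k') := IsAlgClosed.algebraMap_bijective_of_isIntegral
    haveI : IsIso (Spec.preimage σ) := (ConcreteCategory.isIso_iff_bijective _).2 hb'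
    rw [← hs]
    infer_instance
  obtain ⟨l, hl⟩ := Castel.exists_line_iso (asIso σ)
  let j := l.inv ≫ ι
  have hj : j ≫ (X' ↘ Spec (CommRingCat.of k)) = CohB1.ProjSpace.toSpec 1 k := by
    rw [hover, Category.assoc, reassoc_of% hcomp, show i ≫ (X ↘ Spec (CommRingCat.of k)) = (asIso σ).hom from rfl,
      ← hl, Iso.inv_hom_id_assoc]
  -- exponent of the conormal sheaf on the line
  obtain ⟨m, ⟨cm⟩⟩ := PicPn.exists_iso (k := k) (n := 1) le_rfl _ (PicLoc.isInvertible_pullback j hE)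
  have hm : m ≠ 0 := by
    rintro rfl
    obtain ⟨o⟩ := Horrocks.Om_zero (k := k) (d := 1)
    obtain ⟨o₁⟩ := Horrocks.Om_zero (k := k₁) (d := 1)
    let f := e'.hom ≫ l.hom
    have hf : f ≫ j = e'.hom ≫ ι := by simp [f, j]
    have t1 : (Scheme.Modules.pullback (e'.hom ≫ ι)).obj (ClSub.idealMod ι.ker) ≅
        Coh.structureModule (CohB1.ProjSpace 1 k₁) :=
      (Scheme.Modules.pullbackCongr hf.symm).app _ ≪≫ ((Scheme.Modules.pullbackComp f j).app _).symm ≪≫
        (Scheme.Modules.pullback f).mapIso (cm ≪≫ o) ≪≫ DerPerf.pullUnitIso f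
    obtain ⟨d, -, hd⟩ := PicPn.existsUnique_iso (K := k₁) (n := 1) le_rfl _
      (PicLoc.isInvertible_pullback (e'.hom ≫ ι) hE)
    have h1 := hd 1 ⟨c⟩
    have h0 := hd 0 ⟨t1 ≪≫ o₁.symm⟩
    omega
  -- the maps
  let P := PicGrp.pullHom π hπm
  have hsub : PicGrp.subCl (Y := X) (Pic13.IsNumEquivZero k X) ≤
      (PicGrp.subCl (Y := X') (Pic13.IsNumEquivZero k X')).comap P := by
    intro c hc
    obtain ⟨L, hL, rfl⟩ := PicGrp.exists_eq_cls c
    rw [Subgroup.mem_comap, PicGrp.pullHom_cls, mem_subCl_iff]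
    exact (numTriv_pullback_iff k π hover.symm hL).2 ((mem_subCl_iff k hL).1 hc)
  let f : NumR.N1 k X →+ NumR.N1 k X' := MonoidHom.toAdditive (QuotientGroup.map _ _ P hsub)
  have hf : ∀ (L : X.Modules) (hL : PicF.IsInvertible L),
      f (NumR.cl k X L hL) = NumR.cl k X' ((Scheme.Modules.pullback π).obj L) (PicLoc.isInvertible_pullback π hL) :=
    fun L hL => by
      show Additive.ofMul (QuotientGroup.mk (P (PicGrp.cls L hL))) = _
      rw [PicGrp.pullHom_cls]
      rfl
  let ε : NumR.N1 k X' := NumR.cl k X' _ hE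
  let Φ : (NumR.N1 k X × ℤ) →+ NumR.N1 k X' := f.coprod (zmultiplesHom _ ε)
  have hεcls : ∀ a : ℤ, a • ε = NumR.toN1 k X' (Additive.ofMul (PicGrp.cls _ hE ^ a)) := fun a => by
    rw [ofMul_zpow, map_zsmul]
    rfl
  refine ⟨AddEquiv.ofBijective Φ ⟨(injective_iff_map_eq_zero Φ).2 ?_, fun y => ?_⟩⟩
  · rintro ⟨z, a⟩ hz
    obtain ⟨L, hL, rfl⟩ := NumR.exists_eq_cl z
    change f (NumR.cl k X L hL) + a • ε = 0 at hz
    obtain ⟨E', hE', ⟨eE⟩⟩ := W7Hull.exists_tensor_inverse hE
    have hp := PicLoc.isInvertible_pullback π hL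
    obtain ⟨N, hN, hNc, b, ⟨bi⟩, hb⟩ : ∃ (N : X'.Modules) (hN : PicF.IsInvertible N),
        PicGrp.cls N hN = PicGrp.cls _ hE ^ a ∧ ∃ b : ℤ,
          Nonempty ((Scheme.Modules.pullback j).obj N ≅ Twist.twistProjSpace 1 k b) ∧ (b = 0 → a = 0) := by
      obtain ⟨N, hN, hNc⟩ := PicGrp.exists_eq_cls (PicGrp.cls _ hE ^ a)
      obtain ⟨b, hbi⟩ := PicPn.exists_iso (k := k) (n := 1) le_rfl _ (PicLoc.isInvertible_pullback j hN)
      refine ⟨N, hN, hNc.symm, b, hbi, fun hb0 => ?_⟩
      letI := W7Cube.law (Y := CohB1.ProjSpace 1 k)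
      by_contra ha
      have hcl : PicGrp.cls _ (PicLoc.isInvertible_pullback j hE) ^ a = (1 : PicLoc.PicSet (CohB1.ProjSpace 1 k)) := by
        have h := congrArg (PicGrp.pullHom j (W7Cube.pullMul j)) hNc
        rw [map_zpow, PicGrp.pullHom_cls, PicGrp.pullHom_cls] at h
        rw [h, PicGrp.cls_eq_one_iff]
        obtain ⟨o⟩ := Horrocks.Om_zero (k := k) (d := 1)
        subst hb0
        exact ⟨hbi.some ≪≫ o⟩
      have hpow : PicGrp.cls _ (PicLoc.isInvertible_pullback j hE) ^ a.natAbs =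
          (1 : PicLoc.PicSet (CohB1.ProjSpace 1 k)) := by
        rcases Int.natAbs_eq a with h | h <;> rw [h] at hcl
        · simpa using hcl
        · simpa using hcl
      rw [← cls_pow', PicGrp.cls_eq_one_iff] at hpow
      haveI : IsProper (CohB1.ProjSpace 1 k ↘ Spec (CommRingCat.of k)) := ProjMor.isProper_toSpec 1 k
      haveI : IsIntegral (CohB1.ProjSpace 1 k) := Horrocks.isIntegral_projSpace
      have h1 := CurveRR.deg_tensorPow (k := k) (X := CohB1.ProjSpace 1 k) (Groth.Agent.S10829.result k 1).le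
        (PicLoc.isInvertible_pullback j hE) a.natAbs
      have h2 := Castel.deg_twist_line k m
      simp only [Curv2.deg, Nat.cast_one, one_mul, CurveRR.euler_eq_of_iso hpow.some,
        CurveRR.euler_eq_of_iso cm, sub_self] at h1 h2
      rw [h2] at h1
      have : (a.natAbs : ℤ) * m = 0 := h1.symm
      exact (mul_ne_zero (by omega) hm) this
    have hTi := TMul.isInvertible_tensorMod hp hN
    have hnum : Pic13.IsNumEquivZero k X' (CohB1.tensorMod ((Scheme.Modules.pullback π).obj L) N) := by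
      rw [← cl_eq_zero_iff' k hTi, ← NumR.toN1_ofMul_cls, cls_tensor' hp hN hTi, ofMul_mul, map_add]
      rw [hεcls, hf, ← hNc] at hz
      exact hz
    obtain ⟨t⟩ := TMul.nonempty_pullTensorIso j ((Scheme.Modules.pullback π).obj L) N
    have hfac : j ≫ π = (l.inv ≫ CohB1.ProjSpace.toSpec 1 k') ≫ i := by
      rw [Category.assoc, hcomp, Category.assoc]
    obtain ⟨triv⟩ : Nonempty ((Scheme.Modules.pullback i).obj L ≅ Coh.structureModule (Spec (CommRingCat.of k'))) :=
      nonempty_iso_structure_of_subsingleton (PicLoc.isInvertible_pullback i hL)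
    have q : (Scheme.Modules.pullback j).obj ((Scheme.Modules.pullback π).obj L) ≅
        Coh.structureModule (CohB1.ProjSpace 1 k) :=
      (Scheme.Modules.pullbackComp j π).app L ≪≫ (Scheme.Modules.pullbackCongr hfac).app L ≪≫
        ((Scheme.Modules.pullbackComp _ i).app L).symm ≪≫ (Scheme.Modules.pullback _).mapIso triv ≪≫
        DerPerf.pullUnitIso _
    have ha : a = 0 := hb (twist_eq_zero_of_numTriv k j hj hnum
      (t.symm ≪≫ PicGrp.tensorModIso q bi ≪≫ TMul.leftUnitIso _))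
    subst ha
    rw [zero_zsmul, add_zero, hf, cl_eq_zero_iff'] at hz
    rw [(cl_eq_zero_iff' k hL).2 ((numTriv_pullback_iff k π hover.symm hL).1 hz)]
    rfl
  · obtain ⟨G, hG, rfl⟩ := NumR.exists_eq_cl y
    let ι₀ := e'.hom ≫ ι
    obtain ⟨a, ⟨ea⟩⟩ := PicPn.exists_iso (k := k₁) (n := 1) le_rfl _ (PicLoc.isInvertible_pullback ι₀ hG)
    obtain ⟨F, hF, hFc⟩ := PicGrp.exists_eq_cls (PicGrp.cls G hG * (PicGrp.cls _ hE ^ a)⁻¹)
    letI := W7Cube.law (Y := CohB1.ProjSpace 1 k₁)
    have hFtriv : Nonempty ((Scheme.Modules.pullback ι₀).obj F ≅ Coh.structureModule _) := by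
      let Q := PicGrp.pullHom ι₀ (W7Cube.pullMul ι₀)
      have hI1 : PicGrp.cls _ (PicLoc.isInvertible_pullback ι₀ hE) ^ a =
          PicGrp.cls _ (CohFinite.isInvertible_twist 1 k₁ a) := by
        rw [(PicGrp.cls_eq_cls_iff _ (CohFinite.isInvertible_twist 1 k₁ 1)).2 ⟨c⟩]
        exact cls_twist_zpow 1 k₁ a
      have h := congrArg Q hFc.symm
      rw [map_mul, map_inv, map_zpow, PicGrp.pullHom_cls, PicGrp.pullHom_cls, PicGrp.pullHom_cls, hI1,
        (PicGrp.cls_eq_cls_iff _ (CohFinite.isInvertible_twist 1 k₁ a)).2 ⟨ea⟩, mul_inv_cancel] at h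
      exact (PicGrp.cls_eq_one_iff _).1 h
    have hker : ι₀.ker = ι.ker := Scheme.Hom.ker_comp_of_isIso e'.hom ι
    have hfib : π ⁻¹' {x} = Set.range ι₀ := by
      refine hrange.symm.trans (subset_antisymm ?_ ?_)
      · rintro _ ⟨z, rfl⟩
        obtain ⟨w, rfl⟩ := e'.hom.surjective z
        exact ⟨w, rfl⟩
      · rintro _ ⟨z, rfl⟩
        exact ⟨e'.hom z, rfl⟩
    obtain ⟨L, hL, ⟨eL⟩⟩ := Castel.exists_descent_blowUp hpt hb ι₀ hfib (hker ▸ hI) (m := 1) (by norm_num)
      ((Scheme.Modules.pullback ι₀).mapIso (eqToIso (by rw [hker])) ≪≫ c) hF hFtriv.some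
    refine ⟨(NumR.cl k X L hL, a), ?_⟩
    show f (NumR.cl k X L hL) + a • ε = _
    rw [hεcls, hf, ← NumR.toN1_ofMul_cls, ← map_add, ← ofMul_mul,
      (PicGrp.cls_eq_cls_iff _ hF).2 ⟨eL⟩, ← hFc, inv_mul_cancel_right]
    rfl

/-- The Picard number goes up by one. -/
theorem finrank_blowUp [Module.Finite ℝ (NumR.N1R k X)] :
    Module.Finite ℝ (NumR.N1R k X') ∧
      Module.finrank ℝ (NumR.N1R k X') = Module.finrank ℝ (NumR.N1R k X) + 1 := by
  obtain ⟨Φ⟩ := exists_addEquiv k X hdim x hx X' π hover hπ hπm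
  haveI : Module.Finite ℝ (ℝ ⊗[ℤ] NumR.N1 k X) := inferInstanceAs (Module.Finite ℝ (NumR.N1R k X))
  let e : (ℝ ⊗[ℤ] NumR.N1 k X') ≃ₗ[ℝ] (ℝ ⊗[ℤ] NumR.N1 k X) × ℝ :=
    (TensorProduct.AlgebraTensorModule.congr (LinearEquiv.refl ℝ ℝ) Φ.symm.toIntLinearEquiv) ≪≫ₗ
      TensorProduct.prodRight ℤ ℝ ℝ (NumR.N1 k X) ℤ ≪≫ₗ
        (LinearEquiv.refl ℝ _).prodCongr (TensorProduct.AlgebraTensorModule.rid ℤ ℝ ℝ)
  refine ⟨Module.Finite.equiv e.symm, ?_⟩
  show Module.finrank ℝ (ℝ ⊗[ℤ] NumR.N1 k X') = Module.finrank ℝ (ℝ ⊗[ℤ] NumR.N1 k X) + 1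
  rw [e.finrank_eq, Module.finrank_prod, Module.finrank_self]

end Groth.Agent.PlaneBlow
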