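import Groth.Agent.Nakai.NumPull
import Groth.Agent.Nakai.NefAmple
import Groth.Agent.Nakai.NefApps
import Groth.Agent.Nakai.ProjCover
import Groth.Agent.S1152
import Groth.Agent.TMul.RelAmple
import Groth.Agent.S14812

/-!
# Nefness and field extensions
-/

set_option autoImplicit false
set_option backward.isDefEq.respectTransparency false
set_option linter.style.haveILetI false
set_option linter.unusedSectionVars false

universe u

open CategoryTheory CategoryTheory.Limits AlgebraicGeometry TopologicalSpace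
open Groth.Agent.Intersect Groth.Agent.Nakai

noncomputable section

namespace Groth.Agent.PlaneBlow

section Range

variable (k : Type u) [Field k] {X Y : Scheme.{u}} [X.Over (Spec (CommRingCat.of k))]
  [IsProper (X ↘ Spec (CommRingCat.of k))] [Y.Over (Spec (CommRingCat.of k))]
  [IsProper (Y ↘ Spec (CommRingCat.of k))]

/-- A module nef upstairs has nonnegative degree on the curves met by the image. -/
theorem le_of_nef_pullback_range (g : Y ⟶ X) [IsProper g]
    (hg : g ≫ (X ↘ Spec (CommRingCat.of k)) = Y ↘ Spec (CommRingCat.of k))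
    {L : X.Modules} (hL : PicF.IsInvertible L) (h : Nef k ((Scheme.Modules.pullback g).obj L))
    {ξ : X} (hξ : topologicalKrullDim (closure ({ξ} : Set X)) = ((1 : ℕ) : WithBot ℕ∞)) (hr : ξ ∈ Set.range g) :
    Curv2.euler k X (Devissage.A ξ) ≤ Curv2.euler k X (CohB1.tensorMod (Devissage.A ξ) L) := by
  let i := Devissage.Zi ξ
  letI : ((Scheme.IdealSheafData.vanishingIdeal (Devissage.Zc ξ)).subscheme).Over (Spec (CommRingCat.of k)) :=
    ⟨i ≫ (X ↘ Spec (CommRingCat.of k))⟩
  let W := (Scheme.IdealSheafData.vanishingIdeal (Devissage.Zc ξ)).subscheme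
  haveI : IsProper (W ↘ Spec (CommRingCat.of k)) := inferInstanceAs (IsProper (i ≫ _))
  haveI : IsClosedImmersion (pullback.fst g i) := MorphismProperty.pullback_fst _ _ inferInstance
  letI : (pullback g i).Over (Spec (CommRingCat.of k)) := ⟨pullback.fst g i ≫ (Y ↘ Spec (CommRingCat.of k))⟩
  haveI : IsProper (pullback g i ↘ Spec (CommRingCat.of k)) :=
    inferInstanceAs (IsProper (pullback.fst g i ≫ _))
  haveI : IsProper (pullback.snd g i) := MorphismProperty.pullback_snd _ _ inferInstance
  haveI : Surjective (pullback.snd g i) := ⟨fun w => by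
    obtain ⟨a, ha⟩ : i w ∈ Set.range g := by
      have h1 : closure {ξ} ⊆ Set.range g :=
        closure_minimal (Set.singleton_subset_iff.2 hr) g.isClosedMap.isClosed_range
      exact h1 (by rw [← Devissage.range_Zi ξ]; exact ⟨w, rfl⟩)
    obtain ⟨z, -, hz⟩ := Scheme.Pullback.exists_preimage_pullback a w ha
    exact ⟨z, hz⟩⟩
  have hgs : pullback.snd g i ≫ (W ↘ Spec (CommRingCat.of k)) = pullback g i ↘ Spec (CommRingCat.of k) := by
    show pullback.snd g i ≫ i ≫ _ = pullback.fst g i ≫ _
    rw [← pullback.condition_assoc, hg]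
  have h2 := nef_pullback k (pullback.fst g i) rfl (PicLoc.isInvertible_pullback g hL) h
  have e : (Scheme.Modules.pullback (pullback.fst g i)).obj ((Scheme.Modules.pullback g).obj L) ≅
      (Scheme.Modules.pullback (pullback.snd g i)).obj ((Scheme.Modules.pullback i).obj L) :=
    (Scheme.Modules.pullbackComp _ g).app L ≪≫ (Scheme.Modules.pullbackCongr pullback.condition).app L ≪≫
      ((Scheme.Modules.pullbackComp _ i).app L).symm
  have h3 : Nef k ((Scheme.Modules.pullback (pullback.snd g i)).obj ((Scheme.Modules.pullback i).obj L)) :=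
    fun F hF hd => by
      rw [← CurveRR.euler_eq_of_iso (PicGrp.tensorModIso (Iso.refl F) e)]
      exact h2 F hF hd
  have h4 := nef_of_pullback k (pullback.snd g i) hgs (PicLoc.isInvertible_pullback i hL) h3
  haveI := CurveRR.isNoetherian_of_proper k W
  have h5 := h4 (Coh.structureModule W) RefStalk.isCoh_structureModule (by
    rw [Intersect.dim_support_structure, ← hξ, ← Devissage.range_Zi ξ]
    exact (IsHomeomorph.topologicalKrullDim_eq _ i.isClosedEmbedding.isEmbedding.toHomeomorph.isHomeomorph).le)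
  rw [CurveRR.euler_eq_of_iso (TMul.leftUnitIso ((Scheme.Modules.pullback i).obj L))] at h5
  have e1 := euler_quot_twist k i hL
  have e2 := euler_quot_twist k i (A := Coh.structureModule X) TMul.isInvertible_structureModule
  rw [Scheme.IdealSheafData.ker_subschemeι] at e1 e2
  rw [CurveRR.euler_eq_of_iso (TMul.commIso (Devissage.A ξ) (Coh.structureModule X) ≪≫ TMul.leftUnitIso _),
    CurveRR.euler_eq_of_iso (DerPerf.pullUnitIso i)] at e2
  rw [show Curv2.euler k X (CohB1.tensorMod (Devissage.A ξ) L) =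
    Curv2.euler k W ((Scheme.Modules.pullback i).obj L) from e1,
    show Curv2.euler k X (Devissage.A ξ) = Curv2.euler k W (Coh.structureModule W) from e2]
  exact h5

end Range

variable (k : Type u) [Field k] (K : Type u) [Field K] [Algebra k K]

local notation "gK" => Spec.map (CommRingCat.ofHom (algebraMap k K))

local instance overSnd (X : Scheme.{u}) [X.Over (Spec (CommRingCat.of k))] :
    (pullback (X ↘ Spec (CommRingCat.of k)) gK).Over (Spec (CommRingCat.of K)) := ⟨pullback.snd _ _⟩

instance isProper_snd (X : Scheme.{u}) [X.Over (Spec (CommRingCat.of k))] [IsProper (X ↘ Spec (CommRingCat.of k))] :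
    IsProper (pullback (X ↘ Spec (CommRingCat.of k)) gK ↘ Spec (CommRingCat.of K)) :=
  MorphismProperty.pullback_snd (P := @IsProper) _ _ inferInstance

/-- On a projective scheme nefness does not depend on the base field. -/
theorem nef_iff_projective {Y : Scheme.{u}} [Y.Over (Spec (CommRingCat.of k))]
    [IsProper (Y ↘ Spec (CommRingCat.of k))] {H L : Y.Modules} (hH : CohB1.IsAmple H) (hL : PicF.IsInvertible L) :
    Nef k L ↔ Nef K ((Scheme.Modules.pullback (pullback.fst (Y ↘ Spec (CommRingCat.of k)) gK)).obj L) := by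
  let p := pullback.fst (Y ↘ Spec (CommRingCat.of k)) gK
  haveI : IsAffineHom p := MorphismProperty.pullback_fst _ _ inferInstance
  have hiso : ∀ ν : ℕ, Nonempty ((Scheme.Modules.pullback p).obj (CohB1.tensorMod (CohB1.tensorPow L ν) H) ≅
      CohB1.tensorMod (CohB1.tensorPow ((Scheme.Modules.pullback p).obj L) ν) ((Scheme.Modules.pullback p).obj H)) := fun ν => by
    obtain ⟨a⟩ := TMul.nonempty_pullTensorIso p (CohB1.tensorPow L ν) H
    obtain ⟨b⟩ := TMul.nonempty_pullPowIso p L ν
    exact ⟨a.symm ≪≫ PicGrp.tensorModIso b.symm (Iso.refl _)⟩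
  have h1 : ∀ {Z : Scheme.{u}} (A : Z.Modules), Nonempty (CohB1.tensorPow A 1 ≅ A) := fun A => ⟨TMul.leftUnitIso A⟩
  refine ⟨fun h => nef_of_forall_ample K (PicLoc.isInvertible_pullback p hH.1) (PicLoc.isInvertible_pullback p hL)
    fun ν hν => TMul.isAmple_congr (hiso ν).some (TMul.isAmple_pullback_of_isAffineHom p
      (TMul.isAmple_congr (PicGrp.tensorModIso (Iso.refl _) (h1 H).some)
        (isAmple_nef_tensor k hH hL h hν (q := 1) one_pos))), fun h => ?_⟩
  refine nef_of_forall_ample k hH.1 hL fun ν hν => ?_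
  have h2 := TMul.isAmple_congr (PicGrp.tensorModIso (Iso.refl _) (h1 ((Scheme.Modules.pullback p).obj H)).some)
    (isAmple_nef_tensor K (TMul.isAmple_pullback_of_isAffineHom p hH) (PicLoc.isInvertible_pullback p hL) h hν
      (q := 1) one_pos)
  have h3 := TMul.isAmple_congr (hiso ν).some.symm h2
  haveI : Surjective gK := ⟨fun y => ⟨⟨⊥, Ideal.isPrime_bot⟩, Subsingleton.elim _ _⟩⟩
  haveI : Flat gK := by
    rw [HasRingHomProperty.Spec_iff (P := @Flat)]
    exact RingHom.flat_algebraMap_iff.mpr inferInstance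
  exact TMul.isRelAmple_iff_isAmple.1 (Groth.Agent.S1152.result (Y ↘ Spec (CommRingCat.of k)) _
    (TMul.isInvertible_tensorMod (TMul.isInvertible_tensorPow hL ν) hH.1) gK
    (TMul.isRelAmple_iff_isAmple.2 h3))

/-- Nefness on a proper scheme does not depend on the base field. -/
theorem nef_iff_baseChange {X : Scheme.{u}} [X.Over (Spec (CommRingCat.of k))]
    [IsProper (X ↘ Spec (CommRingCat.of k))] {L : X.Modules} (hL : PicF.IsInvertible L) :
    Nef k L ↔ Nef K ((Scheme.Modules.pullback (pullback.fst (X ↘ Spec (CommRingCat.of k)) gK)).obj L) := by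
  let p := pullback.fst (X ↘ Spec (CommRingCat.of k)) gK
  have cover : ∀ x : X, ∃ (Y : Scheme.{u}) (g : Y ⟶ X) (_ : IsProper g) (H : Y.Modules),
      CohB1.IsAmple H ∧ x ∈ Set.range g := fun x => by
    let i := Devissage.Zi x
    letI : (Scheme.IdealSheafData.vanishingIdeal (Devissage.Zc x)).subscheme.Over (Spec (CommRingCat.of k)) :=
      ⟨i ≫ (X ↘ Spec (CommRingCat.of k))⟩
    haveI : IsProper ((Scheme.IdealSheafData.vanishingIdeal (Devissage.Zc x)).subscheme ↘ Spec (CommRingCat.of k)) :=
      inferInstanceAs (IsProper (i ≫ _))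
    haveI := Devissage.Zi_isIntegral x
    obtain ⟨Y, g, hgp, hgs, -, -, H, hH⟩ := exists_proj_cover k (Scheme.IdealSheafData.vanishingIdeal (Devissage.Zc x)).subscheme
    obtain ⟨z, hz⟩ : x ∈ Set.range i := by rw [Devissage.range_Zi]; exact subset_closure rfl
    obtain ⟨y, hy⟩ := g.surjective z
    exact ⟨Y, g ≫ i, inferInstance, H, hH, y, by rw [Scheme.Hom.comp_apply, hy, hz]⟩
  have hmove : ∀ (Y : Scheme.{u}) (g : Y ⟶ X) [IsProper g],
      letI : Y.Over (Spec (CommRingCat.of k)) := ⟨g ≫ (X ↘ Spec (CommRingCat.of k))⟩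
      ∃ (gY : pullback (Y ↘ Spec (CommRingCat.of k)) gK ⟶ pullback (X ↘ Spec (CommRingCat.of k)) gK),
        IsProper gY ∧ gY ≫ pullback.snd _ _ = pullback.snd _ _ ∧
          Nonempty ((Scheme.Modules.pullback gY).obj ((Scheme.Modules.pullback p).obj L) ≅
            (Scheme.Modules.pullback (pullback.fst (Y ↘ Spec (CommRingCat.of k)) gK)).obj
              ((Scheme.Modules.pullback g).obj L)) ∧
          ∀ ξ, p ξ ∈ Set.range g → ξ ∈ Set.range gY := by
    intro Y g _
    letI : Y.Over (Spec (CommRingCat.of k)) := ⟨g ≫ (X ↘ Spec (CommRingCat.of k))⟩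
    let q := pullback.fst (Y ↘ Spec (CommRingCat.of k)) gK
    let gY : pullback (Y ↘ Spec (CommRingCat.of k)) gK ⟶ pullback (X ↘ Spec (CommRingCat.of k)) gK :=
      pullback.lift (q ≫ g) (pullback.snd _ _) (by
        rw [Category.assoc, show g ≫ (X ↘ Spec (CommRingCat.of k)) = Y ↘ Spec (CommRingCat.of k) from rfl]
        exact pullback.condition)
    have hsq : IsPullback q gY g p := by
      refine IsPullback.of_bot ?_ (pullback.lift_fst _ _ _).symm
        (IsPullback.of_hasPullback (X ↘ Spec (CommRingCat.of k)) gK)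
      rw [show gY ≫ pullback.snd _ _ = pullback.snd (Y ↘ Spec (CommRingCat.of k)) gK from pullback.lift_snd _ _ _]
      exact IsPullback.of_hasPullback (Y ↘ Spec (CommRingCat.of k)) gK
    refine ⟨gY, MorphismProperty.of_isPullback hsq inferInstance, pullback.lift_snd _ _ _,
      ⟨(Scheme.Modules.pullbackComp gY p).app L ≪≫
        (Scheme.Modules.pullbackCongr (pullback.lift_fst _ _ _)).app L ≪≫
        ((Scheme.Modules.pullbackComp q g).app L).symm⟩, fun ξ hξ => ?_⟩
    obtain ⟨y, hy⟩ := hξ
    obtain ⟨z, -, hz⟩ := Scheme.exists_preimage_of_isPullback hsq y ξ hy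
    exact ⟨z, hz⟩
  constructor
  · intro h
    refine nef_of_pieces K (PicLoc.isInvertible_pullback p hL) fun ξ hξ => ?_
    obtain ⟨Y, g, hgp, H, hH, hr⟩ := cover (p ξ)
    letI : Y.Over (Spec (CommRingCat.of k)) := ⟨g ≫ (X ↘ Spec (CommRingCat.of k))⟩
    haveI : IsProper (Y ↘ Spec (CommRingCat.of k)) := inferInstanceAs (IsProper (g ≫ _))
    obtain ⟨gY, hgY, hgYs, ⟨e⟩, hrange⟩ := hmove Y g
    haveI := hgY
    have h2 := (nef_iff_projective k K hH (PicLoc.isInvertible_pullback g hL)).1 (nef_pullback k g rfl hL h)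
    refine le_of_nef_pullback_range K gY hgYs (PicLoc.isInvertible_pullback p hL) (fun F hF hd => ?_) hξ (hrange ξ hr)
    rw [CurveRR.euler_eq_of_iso (PicGrp.tensorModIso (Iso.refl F) e)]
    exact h2 F hF hd
  · intro h
    refine nef_of_pieces k hL fun ξ hξ => ?_
    obtain ⟨Y, g, hgp, H, hH, hr⟩ := cover ξ
    letI : Y.Over (Spec (CommRingCat.of k)) := ⟨g ≫ (X ↘ Spec (CommRingCat.of k))⟩
    haveI : IsProper (Y ↘ Spec (CommRingCat.of k)) := inferInstanceAs (IsProper (g ≫ _))
    obtain ⟨gY, hgY, hgYs, ⟨e⟩, -⟩ := hmove Y g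
    haveI := hgY
    have h1 := nef_pullback K gY hgYs (PicLoc.isInvertible_pullback p hL) h
    refine le_of_nef_pullback_range k g rfl hL
      ((nef_iff_projective k K hH (PicLoc.isInvertible_pullback g hL)).2 fun F hF hd => ?_) hξ hr
    rw [← CurveRR.euler_eq_of_iso (PicGrp.tensorModIso (Iso.refl F) e)]
    exact h1 F hF hd

/-- Numerical triviality is nefness of a module and of its inverse. -/
theorem numTriv_iff_nef {X : Scheme.{u}} [X.Over (Spec (CommRingCat.of k))] [IsProper (X ↘ Spec (CommRingCat.of k))]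
    {L L' : X.Modules} (hL : PicF.IsInvertible L) (hL' : PicF.IsInvertible L')
    (e : Nonempty (CohB1.tensorMod L L' ≅ Coh.structureModule X)) :
    Pic13.IsNumEquivZero k X L ↔ Nef k L ∧ Nef k L' := by
  haveI := CurveRR.isNoetherian_of_proper k X
  have hneg : ∀ F : X.Modules, Coh.IsCoh F → topologicalKrullDim (CohB1.support F) ≤ ((1 : ℕ) : WithBot ℕ∞) →
      D k [L'] F = - D k [L] F := fun F hF hd => by
    have h := alt_inverse k 1 (fun _ => L) (fun _ => L') (fun _ => hL) (fun _ => hL') (fun _ => e) F hF hd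
    simp only [← D_replicate, List.replicate_one] at h
    rw [h]
    norm_num
  constructor
  · intro h
    have h0 : ∀ F : X.Modules, Coh.IsCoh F → topologicalKrullDim (CohB1.support F) ≤ ((1 : ℕ) : WithBot ℕ∞) →
        D k [L] F = 0 := fun F hF hd => D_one_of_numTriv k hL h hF hd
    refine ⟨fun F hF hd => ?_, fun F hF hd => ?_⟩
    · have h1 := h0 F hF hd
      rw [D_one, sub_eq_zero] at h1
      exact le_of_eq (by exact_mod_cast h1)
    · have h1 := hneg F hF hd
      rw [h0 F hF hd, neg_zero, D_one, sub_eq_zero] at h1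
      exact le_of_eq (by exact_mod_cast h1)
  · rintro ⟨h1, h2⟩
    refine isNumEquivZero_of_degFlat k hL fun F hF hd => ?_
    have e1 : D k [L] F ≤ 0 := by rw [D_one, sub_nonpos]; exact_mod_cast h1 F hF hd
    have e2 : D k [L'] F ≤ 0 := by rw [D_one, sub_nonpos]; exact_mod_cast h2 F hF hd
    rw [hneg F hF hd] at e2
    linarith

end Groth.Agent.PlaneBlow
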