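import Groth.Agent.BlowPn.Points
import Groth.Agent.BlowPn.Twists
import Groth.Agent.BlowP2.Euler
import Groth.Agent.SurfAdj.Sections
import Groth.Agent.Nakai.HodgeNef
import Groth.Agent.Nakai.Big
import Groth.Agent.PnHodge.Coh
import Groth.Agent.ProjMor.ProjSpaceBase
import Groth.Agent.FreeLite.Basic

/-!
# Surfaces: duality consequences, and numbers on blown up planes
-/

set_option autoImplicit false
set_option backward.isDefEq.respectTransparency false
set_option backward.isDefEq.respectTransparency.types false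
set_option linter.style.haveILetI false
set_option linter.unusedSectionVars false

universe u

open CategoryTheory CategoryTheory.Limits AlgebraicGeometry TopologicalSpace

noncomputable section

namespace Groth.Agent.PlaneBlow

section

variable (k : Type u) [Field k] {X : Scheme.{u}} [X.Over (Spec (CommRingCat.of k))]
  [IsProper (X ↘ Spec (CommRingCat.of k))]

theorem subsingleton_iff_h {L : X.Modules} (hL : PicF.IsInvertible L) (i : ℕ) :
    Subsingleton (Coh.HH X L i) ↔ CurveRR.h k L i = 0 := by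
  haveI : Module.Finite k (Coh.HH X L i) :=
    Groth.Agent.CohFinite.finite_proper k X _ (Groth.Agent.Nakai.isCoh_inv k hL) i
  exact (Module.finrank_zero_iff (R := k) (M := Coh.HH X L i)).symm

theorem nontrivial_iff_h {L : X.Modules} (hL : PicF.IsInvertible L) (i : ℕ) :
    Nontrivial (Coh.HH X L i) ↔ 0 < CurveRR.h k L i := by
  rw [← not_subsingleton_iff_nontrivial, subsingleton_iff_h k hL i, Nat.pos_iff_ne_zero]

end

section

variable (k : Type u) [Field k] [IsAlgClosed k] {r : ℕ} (P : Fin r → ↥(CohB1.ProjSpace 2 k))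
  (hP : Function.Injective P) (hPc : ∀ i, IsClosed ({P i} : Set ↥(CohB1.ProjSpace 2 k)))
  (hZ : IsClosed (Set.range P)) {X : Scheme.{u}} [X.Over (Spec (CommRingCat.of k))]
  (σ : X ⟶ CohB1.ProjSpace 2 k) (hσk : σ ≫ CohB1.ProjSpace.toSpec 2 k = X ↘ Spec (CommRingCat.of k))
  (hσ : BlowUp.IsBlowUp σ (Scheme.IdealSheafData.vanishingIdeal ⟨Set.range P, hZ⟩))
  [IsIntegral X] [IsProper (X ↘ Spec (CommRingCat.of k))] [Smooth (X ↘ Spec (CommRingCat.of k))]

/-- the pullback of `O(a)` -/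
abbrev T (a : ℤ) : X.Modules := (Scheme.Modules.pullback σ).obj (Twist.twistProjSpace 2 k a)

theorem inv_T (a : ℤ) : PicF.IsInvertible (T k σ a) :=
  PicLoc.isInvertible_pullback σ (CohFinite.isInvertible_twist 2 k a)

theorem nonempty_T_zero : Nonempty (T k σ 0 ≅ Coh.structureModule X) := by
  obtain ⟨o⟩ := PnHodge.nonempty_twist_zero_iso (n := 2) (A := k)
  let u := FreeLite.pullUnitIso σ
  exact ⟨(Scheme.Modules.pullback σ).mapIso o ≪≫ u⟩

include hP hPc hσk hσ in
theorem euler_T (a : ℤ) : 2 * Curv2.euler k X (T k σ a) = (a + 1) * (a + 2) := by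
  letI : (CohB1.ProjSpace 2 k).Over (Spec (CommRingCat.of k)) := ⟨CohB1.ProjSpace.toSpec 2 k⟩
  haveI : IsProper (CohB1.ProjSpace.toSpec 2 k) := ProjMor.isProper_toSpec 2 k
  haveI : IsProper (CohB1.ProjSpace 2 k ↘ Spec (CommRingCat.of k)) := ProjMor.isProper_toSpec 2 k
  rw [BlowP2.euler_pullback (k := k) (σ := σ) hσk (BlowPn.locData_jz P hP hPc hZ (by norm_num)) hσ
    (ResDesc.isFinLocFree_of_isInvertible (CohFinite.isInvertible_twist 2 k a))]
  exact BlowP2.euler_twist a

variable (hdim : topologicalKrullDim X = 2) {W : X.Modules}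
  (hW : ExtPow.IsExtPow 2 (Omega.sheaf (X ↘ Spec (CommRingCat.of k))) W)

include hP hPc hσk hσ in
theorem euler_one : Curv2.euler k X (Coh.structureModule X) = 1 := by
  have h := euler_T k P hP hPc hZ σ hσk hσ 0
  obtain ⟨o⟩ := nonempty_T_zero k σ
  rw [Groth.Agent.CurveRR.euler_eq_of_iso (k := k) o] at h
  omega

include hP hPc hσk hσ hdim hW in
theorem inter_W_H : Nakai.inter k W (T k σ 1) = -3 := by
  have hH := inv_T k σ 1
  have hH' := inv_T k σ (-1)
  obtain ⟨θ⟩ := BlowPn.nonempty_pull_add σ 1 (-1) 0 (by norm_num)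
  obtain ⟨o⟩ := nonempty_T_zero k σ
  have e : Nonempty (CohB1.tensorMod (T k σ 1) (T k σ (-1)) ≅ Coh.structureModule X) := ⟨θ ≪≫ o⟩
  have hWi := SurfAdj.isInvertible_W k hdim hW
  have h1 := SurfAdj.riemann_roch k hdim hW hH
  have h2 := SurfAdj.riemann_roch k hdim hW hH'
  rw [euler_T k P hP hPc hZ σ hσk hσ] at h1 h2
  rw [euler_one k P hP hPc hZ σ hσk hσ] at h1 h2
  have q1 := congrArg (fun z : ℤ => (z : ℚ)) h1
  have q2 := congrArg (fun z : ℤ => (z : ℚ)) h2
  push_cast [SurfAdj.intNum_inter k hdim] at q1 q2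
  have i1 := Nakai.inter_inv (k := k) hdim.le hH e hH'
  have i2 := Nakai.inter_inv_right (k := k) hdim.le hH e hH
  have i3 := Nakai.inter_inv (k := k) hdim.le hH e hWi
  rw [Nakai.inter_comm k W] at *
  linarith

include hP hPc hσk hσ hdim in
theorem h2_eq_zero {L : X.Modules} (hL : PicF.IsInvertible L) (hLH : -2 ≤ Nakai.inter k L (T k σ 1)) :
    CurveRR.h k L 2 = 0 := by
  haveI : IsProper (CohB1.ProjSpace.toSpec 2 k) := ProjMor.isProper_toSpec 2 k
  letI : (CohB1.ProjSpace 2 k).Over (Spec (CommRingCat.of k)) := ⟨CohB1.ProjSpace.toSpec 2 k⟩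
  haveI : IsProper (CohB1.ProjSpace 2 k ↘ Spec (CommRingCat.of k)) := ProjMor.isProper_toSpec 2 k
  haveI : IsProper (σ ≫ CohB1.ProjSpace.toSpec 2 k) := hσk ▸ inferInstance
  haveI : IsProper σ := IsProper.of_comp σ (CohB1.ProjSpace.toSpec 2 k)
  haveI := SurfAdj.smooth2 k hdim
  obtain ⟨W, hW⟩ := ExtFund.exists_topPower (k := k) (X := X)
  have hWi := SurfAdj.isInvertible_W k hdim hW
  obtain ⟨L', hL', ⟨e⟩⟩ := W7Hull.exists_tensor_inverse hL
  have eL : Nonempty (CohB1.tensorMod L L' ≅ Coh.structureModule X) := ⟨e⟩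
  rw [SurfAdj.h_eq_dual k hdim hW hL (L' := L') ⟨TMul.commIso _ _ ≪≫ e⟩ 2 le_rfl]
  have hT := Groth.Agent.Intersect.isAmple_twistProj_one 2 k
  have hn := Groth.Agent.Nakai.nef_pullback k σ hσk hT.1 (Groth.Agent.Nakai.nef_of_isAmple k hT)
  refine Nakai.h0_eq_zero_of_degree_neg k hdim (inv_T k σ 1) hn (TMul.isInvertible_tensorMod hWi hL') ?_
  rw [Nakai.inter_tensor k hdim.le hWi hL' (inv_T k σ 1), inter_W_H k P hP hPc hZ σ hσk hσ hdim hW,
    Nakai.inter_inv (k := k) hdim.le hL eL (inv_T k σ 1)]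
  linarith

end

end Groth.Agent.PlaneBlow
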