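import Groth.Agent.PlaneBlow.CurveSub
import Groth.Agent.Nakai.PullIdeal
import Groth.Agent.NegTwist.Sections
import Groth.Agent.AsympCoh.BaseLocus
import Groth.Agent.SurfAdj.Nef
import Groth.Agent.ThickSys.Sys

/-!
# Euler characteristics of line bundles under a modification over finitely many points
-/

set_option autoImplicit false
set_option backward.isDefEq.respectTransparency false
set_option backward.isDefEq.respectTransparency.types false
set_option linter.style.haveILetI false
set_option linter.unusedSectionVars false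

universe u

open CategoryTheory CategoryTheory.Limits AlgebraicGeometry TopologicalSpace

noncomputable section

namespace Groth.Agent.PlaneBlow

variable {X Y : Scheme.{u}}

theorem cartier_comap_generic [IsIntegral Y] (φ : Y ⟶ X) {D : X.IdealSheafData} (hD : BlowUp.IsEffCartierIdeal D)
    (h : φ (genericPoint Y) ∉ (D.support : Set X)) : BlowUp.IsEffCartierIdeal (D.comap φ) := fun y => by
  obtain ⟨U, hyU, f, hf, he⟩ := hD (φ y)
  obtain ⟨W, hW, hyW, hle⟩ := exists_isAffineOpen_mem_and_subset (X := Y) (U := φ ⁻¹ᵁ U.1) hyU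
  haveI : Nonempty W := ⟨⟨y, hyW⟩⟩
  have hideal : (D.comap φ).ideal ⟨W, hW⟩ = Ideal.span {(φ.appLE U.1 W hle).hom f} := by
    rw [FpqcDescent.ideal_comap_appLE D φ U ⟨W, hW⟩ hle, he, Ideal.map_span, Set.image_singleton]
  refine ⟨⟨W, hW⟩, hyW, _, mem_nonZeroDivisors_of_ne_zero fun h0 => h ?_, hideal⟩
  have hgW : genericPoint Y ∈ W :=
    ((genericPoint_spec Y).mem_open_set_iff W.2).2 ⟨y, trivial, hyW⟩
  have hs : genericPoint Y ∈ ((D.comap φ).support : Set Y) := by
    rw [SetLike.mem_coe, Scheme.IdealSheafData.mem_support_iff_of_mem (U := ⟨W, hW⟩) hgW, hideal,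
      Scheme.zeroLocus_span, h0]
    simp [Scheme.mem_zeroLocus_iff]
  rw [Scheme.IdealSheafData.support_comap] at hs
  exact hs

variable (k : Type u) [Field k] [X.Over (Spec (CommRingCat.of k))] [IsProper (X ↘ Spec (CommRingCat.of k))]
  [Y.Over (Spec (CommRingCat.of k))] [IsProper (Y ↘ Spec (CommRingCat.of k))] [IsIntegral Y]
  (φ : Y ⟶ X) (hφ : φ ≫ (X ↘ Spec (CommRingCat.of k)) = Y ↘ Spec (CommRingCat.of k))
  (U : X.Opens) [IsIso (φ ∣_ U)]

/-- the change of the Euler characteristic -/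
abbrev eulerGap (L : X.Modules) : ℤ :=
  Curv2.euler k Y ((Scheme.Modules.pullback φ).obj L) - Curv2.euler k X L

include hφ in
/-- Twisting by a divisor inside the iso locus does not change the gap. -/
theorem eulerGap_twist {D : X.IdealSheafData} (hD : BlowUp.IsEffCartierIdeal D) (hDU : (D.support : Set X) ⊆ U)
    (hgen : φ (genericPoint Y) ∉ (D.support : Set X)) {L : X.Modules} (hL : PicF.IsInvertible L) :
    eulerGap k φ (CohB1.tensorMod (ClSub.idealMod D) L) = eulerGap k φ L := by
  haveI := CurveRR.isNoetherian_of_proper k X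
  haveI := CurveRR.isNoetherian_of_proper k Y
  have hD' := cartier_comap_generic φ hD hgen
  have hr : Set.range D.subschemeι ⊆ (U : Set X) := D.range_subschemeι.le.trans hDU
  let j : D.subscheme ⟶ U := IsOpenImmersion.lift U.ι D.subschemeι (by rw [Scheme.Opens.range_ι]; exact hr)
  have hj : j ≫ U.ι = D.subschemeι := IsOpenImmersion.lift_fac _ _ _
  let i : D.subscheme ⟶ Y := (j ≫ inv (φ ∣_ U)) ≫ (φ ⁻¹ᵁ U).ι
  have sq : IsPullback i (𝟙 D.subscheme) φ (j ≫ U.ι) :=
    IsPullback.paste_horiz (IsPullback.of_vert_isIso ⟨by simp⟩) (isPullback_morphismRestrict φ U).flip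
  rw [hj] at sq
  haveI : IsClosedImmersion i := MorphismProperty.of_isPullback sq.flip inferInstance
  have hker : i.ker = D.comap φ := by
    rw [ThickSys.ker_of_isPullback sq, Scheme.IdealSheafData.ker_subschemeι]
  have hw : i ≫ φ = D.subschemeι := by simpa using sq.w
  obtain ⟨eI⟩ := Nakai.nonempty_pullback_idealMod φ hD hD'
  obtain ⟨eT⟩ := TMul.nonempty_pullTensorIso φ (ClSub.idealMod D) L
  have hL' := PicLoc.isInvertible_pullback φ hL
  have hc := CurveRR.isCoh_of_inv hL
  have hc' := CurveRR.isCoh_of_inv hL'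
  have hX := CurveRR.euler_add (k := k) (CohFinite.shortExact_tmap hL (CurveRR.ideal_shortExact D))
    (CurveRR.isCoh_tensor' (CurveRR.isCoh_idealMod D).1 hc)
    (CurveRR.isCoh_tensor' RefStalk.isCoh_structureModule hc)
    (CurveRR.isCoh_tensor' (CurveRR.isCoh_idealMod D).2 hc)
  have hY := CurveRR.euler_add (k := k) (CohFinite.shortExact_tmap hL' (CurveRR.ideal_shortExact (D.comap φ)))
    (CurveRR.isCoh_tensor' (CurveRR.isCoh_idealMod (D.comap φ)).1 hc')
    (CurveRR.isCoh_tensor' RefStalk.isCoh_structureModule hc')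
    (CurveRR.isCoh_tensor' (CurveRR.isCoh_idealMod (D.comap φ)).2 hc')
  have hq : Curv2.euler k Y (CohB1.tensorMod (ClSub.quotMod (D.comap φ)) ((Scheme.Modules.pullback φ).obj L)) =
      Curv2.euler k X (CohB1.tensorMod (ClSub.quotMod D) L) := by
    rw [← hker, Intersect.euler_quot_twist k i hL',
      show ClSub.quotMod D = ClSub.quotMod D.subschemeι.ker by rw [Scheme.IdealSheafData.ker_subschemeι],
      Intersect.euler_quot_twist k D.subschemeι hL]
    have ho : i ≫ (Y ↘ Spec (CommRingCat.of k)) = D.subschemeι ≫ (X ↘ Spec (CommRingCat.of k)) := by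
      rw [← hφ, ← Category.assoc, hw]
    rw [show (⟨i ≫ (Y ↘ Spec (CommRingCat.of k))⟩ : D.subscheme.Over (Spec (CommRingCat.of k))) =
      ⟨D.subschemeι ≫ (X ↘ Spec (CommRingCat.of k))⟩ from by rw [ho]]
    letI : D.subscheme.Over (Spec (CommRingCat.of k)) := ⟨D.subschemeι ≫ (X ↘ Spec (CommRingCat.of k))⟩
    exact CurveRR.euler_eq_of_iso (k := k) (X := D.subscheme)
      ((Scheme.Modules.pullbackComp i φ).app L ≪≫ (Scheme.Modules.pullbackCongr hw).app L)
  have e1 := CurveRR.euler_eq_of_iso (k := k) (eT.symm)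
  have e2 := CurveRR.euler_eq_of_iso (k := k) (TMul.leftUnitIso L)
  have e3 := CurveRR.euler_eq_of_iso (k := k) (TMul.leftUnitIso ((Scheme.Modules.pullback φ).obj L))
  have e4 := CurveRR.euler_eq_of_iso (k := k) (PicGrp.tensorModIso eI (Iso.refl ((Scheme.Modules.pullback φ).obj L)))
  dsimp only [eulerGap, ClSub.quotMod] at hX hY hq ⊢
  rw [e2] at hX
  rw [e3] at hY
  omega

include hφ in
/-- The gap is that of the structure sheaf. -/
theorem eulerGap_eq [IsIntegral X] [Infinite k] {H : X.Modules} (hH : CohB1.IsAmple H) (hU : ((U : Set X)ᶜ).Finite)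
    {L : X.Modules} (hL : PicF.IsInvertible L) : eulerGap k φ L = eulerGap k φ (Coh.structureModule X) := by
  haveI := CurveRR.isNoetherian_of_proper k X
  let F : Set X := (U : Set X)ᶜ ∪ {φ (genericPoint Y)}
  have hF : F.Finite := hU.union (Set.finite_singleton _)
  have key : ∀ N : X.Modules, PicF.IsInvertible N → ∀ {m : ℕ} (t : Fin m → (Coh.structureModule X ⟶ N)),
      (∀ w ∈ F, ∃ j, w ∈ CohB1.genLocus N (t j)) → ∀ {M : X.Modules}, PicF.IsInvertible M →
      eulerGap k φ (CohB1.tensorMod N M) = eulerGap k φ M := by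
    intro N hN m t ht M hM
    obtain ⟨s, hs⟩ := AsympCoh.exists_section_avoid k hN t hF ht
    have hgen : genericPoint X ∈ CohB1.genLocus N s :=
      ((genericPoint_spec X).mem_open_set_iff (CohB1.genLocus N s).2).2 ⟨φ (genericPoint Y), by
        exact ⟨trivial, hs (Or.inr rfl)⟩⟩
    obtain ⟨D, hD, hsupp, ⟨e⟩⟩ := NegTwist.exists_cartier_of_section_support hN s fun y hy =>
      (SurfAdj.eq_genericPoint_of_isAssPoint hy) ▸ hgen
    have hNM := TMul.isInvertible_tensorMod hN hM
    have h := eulerGap_twist k φ hφ U hD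
      (hsupp ▸ fun x hx => by_contra fun hxU => hx (hs (Or.inl hxU)))
      (hsupp ▸ fun hx => hx (hs (Or.inr rfl))) hNM
    have e' : CohB1.tensorMod (ClSub.idealMod D) (CohB1.tensorMod N M) ≅ M :=
      (TMul.assocIso _ _ _).symm ≪≫ PicGrp.tensorModIso e (Iso.refl M) ≪≫ TMul.leftUnitIso M
    obtain ⟨p⟩ := TMul.nonempty_pullTensorIso φ (ClSub.idealMod D) (CohB1.tensorMod N M)
    have h1 : eulerGap k φ (CohB1.tensorMod (ClSub.idealMod D) (CohB1.tensorMod N M)) = eulerGap k φ M := by
      simp only [eulerGap, CurveRR.euler_eq_of_iso (k := k) e',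
        CurveRR.euler_eq_of_iso (k := k) ((Scheme.Modules.pullback φ).mapIso e')]
    rw [← h, h1]
  have hO := TMul.isInvertible_structureModule (X := X)
  haveI hq : L.IsQuasicoherent := TMul.isQCoh_of_isInvertible hL
  haveI : (Coh.structureModule X).IsQuasicoherent := TMul.isQCoh_of_isInvertible hO
  obtain ⟨n₁, h₁⟩ := TMul.exists_forall_genOn hH (F := L) (TMul.isFT_of_isInvertible hL)
  obtain ⟨n₂, h₂⟩ := TMul.exists_forall_genOn hH (F := Coh.structureModule X) (TMul.isFT_of_isInvertible hO)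
  have secs : ∀ {N : X.Modules}, PicF.IsInvertible N →
      (∀ x : X, ∃ D : X.Opens, IsAffineOpen D ∧ x ∈ D ∧ TMul.GenOn N D) →
      ∃ (m : ℕ) (t : Fin m → (Coh.structureModule X ⟶ N)), ∀ w ∈ F, ∃ j, w ∈ CohB1.genLocus N (t j) := by
    intro N hN hg
    haveI := hF.fintype
    have hex : ∀ w : F, ∃ t : Coh.structureModule X ⟶ N, (w : X) ∈ CohB1.genLocus N t := fun w => by
      obtain ⟨D, hD, hwD, hgen⟩ := hg w
      exact TMul.exists_mem_genLocus_of_genOn hN hD hgen hwD
    choose t ht using hex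
    exact ⟨Fintype.card F, fun j => t ((Fintype.equivFin F).symm j), fun w hw =>
      ⟨Fintype.equivFin F ⟨w, hw⟩, by simpa using ht ⟨w, hw⟩⟩⟩
  let P := CohB1.tensorPow H (n₁ + n₂)
  have hP := TMul.isInvertible_tensorPow hH.1 (n₁ + n₂)
  have hA := TMul.isInvertible_tensorMod hL hP
  have hB := TMul.isInvertible_tensorMod hO hP
  obtain ⟨m₁, t₁, ht₁⟩ := secs hA (h₁ _ (Nat.le_add_right _ _))
  obtain ⟨m₂, t₂, ht₂⟩ := secs hB (h₂ _ (Nat.le_add_left _ _))
  have g1 := key _ hA t₁ ht₁ hO
  have g2 := key _ hB t₂ ht₂ hL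
  have e : CohB1.tensorMod (CohB1.tensorMod L P) (Coh.structureModule X) ≅
      CohB1.tensorMod (CohB1.tensorMod (Coh.structureModule X) P) L :=
    SecTwist.unitorR _ ≪≫ TMul.commIso _ _ ≪≫ PicGrp.tensorModIso (TMul.leftUnitIso P).symm (Iso.refl L)
  rw [← g1, ← g2]
  have c1 := CurveRR.euler_eq_of_iso (k := k) e
  have c2 := CurveRR.euler_eq_of_iso (k := k) ((Scheme.Modules.pullback φ).mapIso e)
  simp only [eulerGap, P] at *
  omega

end Groth.Agent.PlaneBlow
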