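import Groth.Agent.PlaneBlow.Fundamental
import Groth.Agent.PlaneBlow.ResolEuler
import Groth.Agent.PlaneBlow.CurveUnion
import Groth.Agent.NegTwist.Sections
import Groth.Agent.Chow.Pieces
import Groth.Agent.GrpAct.DimClosed
import Groth.Agent.Castel.InterNeg
import Groth.Agent.SurfAdj.Nef
import Groth.Agent.ThickSys.Sys

/-!
# Negativity of contracted configurations of curves
-/

set_option autoImplicit false
set_option backward.isDefEq.respectTransparency false
set_option backward.isDefEq.respectTransparency.types false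
set_option linter.style.haveILetI false
set_option linter.unusedSectionVars false

universe u

open CategoryTheory CategoryTheory.Limits AlgebraicGeometry TopologicalSpace

noncomputable section

namespace Groth.Agent.PlaneBlow

/-! ### Affine vanishing near a point of codimension two -/

/-- A function whose zeros near a point with local ring of dimension at least two are only that point
is invertible at the point. -/
theorem not_only_zero {Y : Scheme.{u}} [IsLocallyNoetherian Y] {y : Y}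
    (hd : (2 : WithBot ℕ∞) ≤ ringKrullDim (Y.presheaf.stalk y)) {U : Y.Opens} (hU : IsAffineOpen U) (hyU : y ∈ U)
    (f : Γ(Y, U)) (hf : y ∉ Y.basicOpen f) : ∃ p ∈ U, p ≠ y ∧ p ∉ Y.basicOpen f := by
  by_contra hcon
  push Not at hcon
  haveI : IsNoetherianRing Γ(Y, U) := IsLocallyNoetherian.component_noetherian ⟨U, hU⟩
  let m := hU.primeIdealOf ⟨y, hyU⟩
  letI := TopCat.Presheaf.algebra_section_stalk Y.presheaf (⟨y, hyU⟩ : U)
  haveI : IsLocalization.AtPrime (Y.presheaf.stalk y) m.asIdeal := hU.isLocalization_stalk ⟨y, hyU⟩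
  have hh : ringKrullDim (Y.presheaf.stalk y) = m.asIdeal.height :=
    IsLocalization.AtPrime.ringKrullDim_eq_height m.asIdeal _
  have hmem : ∀ q : PrimeSpectrum Γ(Y, U), hU.fromSpec q ∈ Y.basicOpen f ↔ f ∉ q.asIdeal := fun q => by
    change q ∈ hU.fromSpec ⁻¹ᵁ Y.basicOpen f ↔ _
    rw [hU.fromSpec_preimage_basicOpen]
    rfl
  have hfm : f ∈ m.asIdeal := by
    by_contra h
    exact hf ((hU.fromSpec_primeIdealOf ⟨y, hyU⟩).subst (motive := fun z => z ∈ Y.basicOpen f) ((hmem m).2 h))
  have hmin : m.asIdeal ∈ (Ideal.span {f}).minimalPrimes := by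
    refine ⟨⟨m.isPrime, (Ideal.span_singleton_le_iff_mem _).2 hfm⟩, fun q hq _ => ?_⟩
    have hq1 : hU.fromSpec ⟨q, hq.1⟩ = y := by
      by_contra hne
      exact (hmem ⟨q, hq.1⟩).1 (hcon _ (hU.range_fromSpec.le ⟨_, rfl⟩) hne)
        ((Ideal.span_singleton_le_iff_mem _).1 hq.2)
    have h2 : (⟨q, hq.1⟩ : PrimeSpectrum Γ(Y, U)) = m := hU.fromSpec.isOpenEmbedding.injective
      (hq1.trans (hU.fromSpec_primeIdealOf ⟨y, hyU⟩).symm)
    exact (congrArg PrimeSpectrum.asIdeal h2).ge
  have h1 := Ideal.height_le_one_of_isPrincipal_of_mem_minimalPrimes (Ideal.span {f}) m.asIdeal hmin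
  rw [hh] at hd
  have h21 : (2 : ℕ∞) ≤ 1 := (WithBot.coe_le_coe.1 hd).trans h1
  exact absurd h21 (by decide)

/-! ### Degrees on curves through an open -/

section Deg

variable {X : Scheme.{u}} (k : Type u) [Field k] [X.Over (Spec (CommRingCat.of k))] [IsProper (X ↘ Spec (CommRingCat.of k))]
  [IsAlgClosed k]

/-- A module trivialised by a divisor not containing a curve has nonnegative degree on the curve, and
degree zero only if the divisor misses the curve. -/
theorem deg_nonneg_of_factor (C : X.IdealSheafData) [IsIntegral C.subscheme]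
    (hC1 : topologicalKrullDim (C.support : Set X) = 1) {W : Scheme.{u}} (ι : W ⟶ X) (j : C.subscheme ⟶ W)
    (hj : j ≫ ι = C.subschemeι) {A : W.IdealSheafData} (hA : BlowUp.IsEffCartierIdeal A)
    (hgen : j (genericPoint C.subscheme) ∉ (A.support : Set W)) {M : X.Modules} (hM : PicF.IsInvertible M)
    (e : CohB1.tensorMod ((Scheme.Modules.pullback ι).obj M) (ClSub.idealMod A) ≅ Coh.structureModule W) :
    0 ≤ deg k C M ∧ (deg k C M = 0 → ∀ z, j z ∉ (A.support : Set W)) := by
  letI : C.subscheme.Over (Spec (CommRingCat.of k)) := ⟨C.subschemeι ≫ (X ↘ Spec (CommRingCat.of k))⟩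
  haveI : IsProper (C.subscheme ↘ Spec (CommRingCat.of k)) :=
    inferInstanceAs (IsProper (C.subschemeι ≫ (X ↘ Spec (CommRingCat.of k))))
  haveI : IsNoetherian C.subscheme := CurveRR.isNoetherian_of_proper k C.subscheme
  obtain ⟨hd, he⟩ := Nakai.deg_quot_eq k C hC1 hM
  have hA' := cartier_comap_generic j hA hgen
  obtain ⟨eA⟩ := Nakai.nonempty_pullback_idealMod j hA hA'
  obtain ⟨eT⟩ := TMul.nonempty_pullTensorIso j ((Scheme.Modules.pullback ι).obj M) (ClSub.idealMod A)
  let P := (Scheme.Modules.pullback C.subschemeι).obj M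
  let eP : P ≅ (Scheme.Modules.pullback j).obj ((Scheme.Modules.pullback ι).obj M) :=
    ((Scheme.Modules.pullbackCongr hj).app M).symm ≪≫ ((Scheme.Modules.pullbackComp j ι).app M).symm
  have hinv : ClSub.IsInverseOf P (ClSub.idealMod (A.comap j)) :=
    ⟨PicGrp.tensorModIso eP eA.symm ≪≫ eT ≪≫ (Scheme.Modules.pullback j).mapIso e ≪≫ PicLoc.pullbackStructureIso j⟩
  have hP : PicF.IsInvertible P := PicLoc.isInvertible_pullback _ hM
  have hO : FlatMod.IsFinLocFreeOfRank 1 (Coh.structureModule C.subscheme) :=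
    CurveRR.isFinLocFreeOfRank_one TMul.isInvertible_structureModule
  have h := CurveRR.deg_tensor_cartier (k := k) (n := 1) hd hA' hP hinv hO
  have h0 : Curv2.deg k C.subscheme (Coh.structureModule C.subscheme) 1 = 0 := by simp [Curv2.deg]
  have h1 : Curv2.deg k C.subscheme (CohB1.tensorMod (Coh.structureModule C.subscheme) P) 1 =
      Curv2.deg k C.subscheme P 1 := by
    simp only [Curv2.deg]
    rw [CurveRR.euler_eq_of_iso (TMul.leftUnitIso P)]
  rw [h1, h0, he, Nat.cast_one, one_mul, add_zero] at h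
  refine ⟨le_of_le_of_eq (Nat.cast_nonneg _) h.symm, fun h2 z hz => ?_⟩
  have htop : A.comap j = ⊤ := by
    by_contra hne
    have h3 := one_le_h0_quot k hne
    have h4 : CurveRR.h k (ClSub.quotMod (A.comap j)) 0 = 0 := by exact_mod_cast (h.symm.trans h2)
    omega
  have h5 : z ∈ ((A.comap j).support : Set C.subscheme) := by
    rw [Scheme.IdealSheafData.support_comap]
    exact hz
  rw [htop, Scheme.IdealSheafData.support_top] at h5
  exact h5

variable [IsIntegral X] [Smooth (X ↘ Spec (CommRingCat.of k))] (hdim : topologicalKrullDim X = 2)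

include hdim in
/-- Distinct curves meet nonnegatively, and positively when they meet. -/
theorem disjoint_of_intNum_zero (C D : X.IdealSheafData) [IsIntegral C.subscheme]
    (hC1 : topologicalKrullDim (C.support : Set X) = 1) (hD : BlowUp.IsEffCartierIdeal D)
    (hgen : C.subschemeι (genericPoint C.subscheme) ∉ (D.support : Set X)) :
    0 ≤ FGA.intNum k X 2 ![ClSub.idealMod C, ClSub.idealMod D] (Coh.structureModule X) ∧
      (FGA.intNum k X 2 ![ClSub.idealMod C, ClSub.idealMod D] (Coh.structureModule X) = 0 →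
        Disjoint (C.support : Set X) (D.support : Set X)) := by
  have hI := (Groth.Agent.S8914.result D).2 hD
  obtain ⟨L, hL, ⟨eL⟩⟩ := Castel.exists_inverse_module hI
  obtain ⟨e1⟩ : Nonempty (CohB1.tensorMod ((Scheme.Modules.pullback (𝟙 X)).obj L) (ClSub.idealMod D) ≅
      Coh.structureModule X) := ⟨PicGrp.tensorModIso ((Scheme.Modules.pullbackId X).app L) (Iso.refl _) ≪≫ eL⟩
  obtain ⟨h1, h2⟩ := deg_nonneg_of_factor k C hC1 (𝟙 X) C.subschemeι (Category.comp_id _) hD hgen hL e1
  have h3 : (deg k C L : ℚ) = ((FGA.intNum k X 2 ![ClSub.idealMod C, ClSub.idealMod D] (Coh.structureModule X) : ℤ) : ℚ) := by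
    rw [deg_eq_inter k hdim C hC1 hL, SurfAdj.intNum_inter k hdim,
      Nakai.inter_inv_right k hdim.le hI ⟨TMul.commIso _ _ ≪≫ eL⟩ ((Groth.Agent.S8914.result C).2 (Nakai.cartier_of_curve k hdim C hC1)),
      neg_neg]
  have h4 : deg k C L = FGA.intNum k X 2 ![ClSub.idealMod C, ClSub.idealMod D] (Coh.structureModule X) := by
    exact_mod_cast h3
  refine ⟨h4 ▸ h1, fun h0 => Set.disjoint_left.2 fun x hx hxD => ?_⟩
  rw [← C.range_subschemeι] at hx
  obtain ⟨z, rfl⟩ := hx
  exact h2 (h4.trans h0) z hxD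

include hdim in
/-- Degrees of products of powers of curves. -/
theorem inter_prod_pow {r : ℕ} (C : Fin r → X.IdealSheafData) (hc : ∀ i, BlowUp.IsEffCartierIdeal (C i))
    (n : Fin r → ℕ) {M : X.Modules} (hM : PicF.IsInvertible M) (s : Finset (Fin r)) :
    BlowUp.IsEffCartierIdeal (∏ i ∈ s, C i ^ n i) ∧
      Nakai.inter k (ClSub.idealMod (∏ i ∈ s, C i ^ n i)) M = ∑ i ∈ s, (n i : ℚ) * Nakai.inter k (ClSub.idealMod (C i)) M := by
  classical
  have hone : Nakai.inter k (ClSub.idealMod (⊤ : X.IdealSheafData)) M = 0 := by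
    obtain ⟨e⟩ := RatBlow.nonempty_idealMod_top (X := X)
    rw [Nakai.inter_iso k ((PicGrp.cl_eq_cl_iff _ _).2 ⟨e⟩), Nakai.inter_one]
  have hmul : ∀ I J : X.IdealSheafData, BlowUp.IsEffCartierIdeal I → BlowUp.IsEffCartierIdeal J →
      Nakai.inter k (ClSub.idealMod (I * J)) M =
        Nakai.inter k (ClSub.idealMod I) M + Nakai.inter k (ClSub.idealMod J) M := fun I J hI hJ => by
    obtain ⟨e⟩ := Nakai.nonempty_idealMod_mul hI hJ
    rw [← Nakai.inter_tensor k hdim.le ((Groth.Agent.S8914.result I).2 hI) ((Groth.Agent.S8914.result J).2 hJ) hM]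
    exact Nakai.inter_iso k ((PicGrp.cl_eq_cl_iff _ _).2 ⟨e.symm⟩) M
  have hpow : ∀ i (m : ℕ), Nakai.inter k (ClSub.idealMod (C i ^ m)) M = (m : ℚ) * Nakai.inter k (ClSub.idealMod (C i)) M := by
    intro i m
    induction m with
    | zero => rw [pow_zero, Scheme.IdealSheafData.one_eq_top, hone, Nat.cast_zero, zero_mul]
    | succ m ih => rw [pow_succ, hmul _ _ (DivPart.cartier_pow (hc i) m) (hc i), ih, Nat.cast_succ, add_mul, one_mul]
  induction s using Finset.induction with
  | empty => exact ⟨by simpa [Scheme.IdealSheafData.one_eq_top] using BlowUpLib.cartier_top, by simp [Scheme.IdealSheafData.one_eq_top, hone]⟩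
  | insert i s hi ih =>
    have h1 := DivPart.cartier_pow (hc i) (n i)
    rw [Finset.prod_insert hi, Finset.sum_insert hi]
    exact ⟨BlowUpLib.cartier_mul h1 ih.1, by rw [hmul _ _ h1 ih.1, hpow, ih.2]⟩

end Deg

/-- Supports of products of powers. -/
theorem mem_support_prod_pow {X : Scheme.{u}} {r : ℕ} (C : Fin r → X.IdealSheafData) (n : Fin r → ℕ) {x : X}
    (hx : x ∈ ((∏ i, C i ^ n i).support : Set X)) : ∃ i, n i ≠ 0 ∧ x ∈ ((C i).support : Set X) := by
  classical
  have hp : ∀ i m, x ∈ ((C i ^ m).support : Set X) → m ≠ 0 ∧ x ∈ ((C i).support : Set X) := by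
    intro i m h
    induction m with
    | zero =>
      rw [pow_zero, Scheme.IdealSheafData.one_eq_top, Scheme.IdealSheafData.support_top] at h
      exact h.elim
    | succ m ih =>
      refine ⟨m.succ_ne_zero, ?_⟩
      rw [pow_succ, Scheme.IdealSheafData.support_mul] at h
      rcases h with h | h
      · exact (ih h).2
      · exact h
  have key : ∀ s : Finset (Fin r), x ∈ ((∏ i ∈ s, C i ^ n i).support : Set X) →
      ∃ i, n i ≠ 0 ∧ x ∈ ((C i).support : Set X) := by
    intro s h
    induction s using Finset.induction with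
    | empty =>
      rw [Finset.prod_empty, Scheme.IdealSheafData.one_eq_top, Scheme.IdealSheafData.support_top] at h
      exact h.elim
    | insert i s hi ih =>
      rw [Finset.prod_insert hi, Scheme.IdealSheafData.support_mul] at h
      rcases h with h | h
      · exact ⟨i, hp i _ h⟩
      · exact ih h
  exact key _ hx

/-- A proper divisor of a Cartier ideal by a Cartier ideal with nonempty support is strictly bigger. -/
theorem lt_of_mul_eq {W : Scheme.{u}} {A K J : W.IdealSheafData} (hA : BlowUp.IsEffCartierIdeal A)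
    (h : A = K * J) {x : W} (hx : x ∈ (J.support : Set W)) : A < K := by
  refine lt_of_le_of_ne (h.trans_le fun U => by
    rw [Scheme.IdealSheafData.ideal_mul, Pi.mul_apply]; exact Ideal.mul_le_left) fun hEq => ?_
  obtain ⟨U, hxU, a, ha, he⟩ := hA x
  have h1 : A.ideal U = A.ideal U * J.ideal U := by
    conv_lhs => rw [h]
    rw [Scheme.IdealSheafData.ideal_mul, Pi.mul_apply, hEq]
  rw [he] at h1
  obtain ⟨z, hz, hza⟩ := Ideal.mem_span_singleton_mul.1 (h1 ▸ Ideal.mem_span_singleton_self a :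
    a ∈ Ideal.span {a} * J.ideal U)
  have hz1 : z = 1 := mul_cancel_left_mem_nonZeroDivisors ha |>.1 (hza.trans (mul_one a).symm)
  subst hz1
  rw [SetLike.mem_coe, Scheme.IdealSheafData.mem_support_iff_of_mem hxU] at hx
  rw [(Ideal.eq_top_iff_one (J.ideal U)).2 hz, Scheme.mem_zeroLocus_iff] at hx
  exact hx 1 Submodule.mem_top (by rw [Scheme.basicOpen_of_isUnit _ isUnit_one]; exact hxU)

end Groth.Agent.PlaneBlow

namespace Groth.Agent.PlaneBlow

section Main

variable (k : Type u) [Field k] [IsAlgClosed k] {X : Scheme.{u}} [X.Over (Spec (CommRingCat.of k))]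
  [IsProper (X ↘ Spec (CommRingCat.of k))] [Smooth (X ↘ Spec (CommRingCat.of k))] [IsIntegral X]
  (hdim : topologicalKrullDim X = 2) {Y : Scheme.{u}} [IsIntegral Y] [IsLocallyNoetherian Y] (π : X ⟶ Y)
  [IsProper π] {y : Y} (hyd : (2 : WithBot ℕ∞) ≤ ringKrullDim (Y.presheaf.stalk y))
  (hsurj : ∀ p : Y, p ≠ y → ∃ x, π x = p)
  {r : ℕ} (C : Fin r → X.IdealSheafData) (hC : Function.Injective C)
  (hCi : ∀ i, IsIntegral (C i).subscheme) (hCd : ∀ i, topologicalKrullDim ((C i).support : Set X) = 1)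
  (hfib : (π.base : X → Y) ⁻¹' {y} = ⋃ i, ((C i).support : Set X))

include hdim hyd hsurj hC hCi hCd hfib in
/-- A function vanishing at the image point gives a positive combination of the contracted curves with
nonpositive degree on each and negative degree on one of them. -/
theorem exists_cycle :
    ∃ n : Fin r → ℕ, (∀ i, 0 < n i) ∧
      (∀ i, ∑ l, (n l : ℤ) * FGA.intNum k X 2 ![ClSub.idealMod (C i), ClSub.idealMod (C l)] (Coh.structureModule X) ≤ 0) ∧
      ∃ i, ∑ l, (n l : ℤ) * FGA.intNum k X 2 ![ClSub.idealMod (C i), ClSub.idealMod (C l)] (Coh.structureModule X) < 0 := by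
  classical
  haveI := CurveRR.isNoetherian_of_proper k X
  -- a function vanishing at `y`
  obtain ⟨V, hV, hyV, -⟩ := exists_isAffineOpen_mem_and_subset (show y ∈ (⊤ : Y.Opens) from trivial)
  haveI : Nonempty V := ⟨⟨y, hyV⟩⟩
  let m := hV.primeIdealOf ⟨y, hyV⟩
  letI := TopCat.Presheaf.algebra_section_stalk Y.presheaf (⟨y, hyV⟩ : V)
  haveI : IsLocalization.AtPrime (Y.presheaf.stalk y) m.asIdeal := hV.isLocalization_stalk ⟨y, hyV⟩
  obtain ⟨f, hfm, hf0⟩ : ∃ f ∈ m.asIdeal, f ≠ 0 := by
    refine Submodule.exists_mem_ne_zero_of_ne_bot fun hbot => ?_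
    have h := IsLocalization.AtPrime.ringKrullDim_eq_height m.asIdeal (Y.presheaf.stalk y)
    rw [h, hbot, Ideal.height_bot] at hyd
    exact absurd hyd (by decide)
  have hfy : y ∉ Y.basicOpen f := fun h => by
    have h' : m ∈ hV.fromSpec ⁻¹ᵁ Y.basicOpen f := by
      show hV.fromSpec m ∈ Y.basicOpen f
      rw [hV.fromSpec_primeIdealOf]
      exact h
    rw [hV.fromSpec_preimage_basicOpen] at h'
    exact h' hfm
  have hgY : genericPoint Y ∈ Y.basicOpen f := by
    have hne : Y.basicOpen f ≠ ⊥ := fun h => hf0 ((basicOpen_eq_bot_iff f).1 h)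
    refine ((genericPoint_spec Y).mem_open_set_iff (Y.basicOpen f).2).2 ?_
    obtain ⟨p, hp⟩ := (Opens.ne_bot_iff_nonempty _).1 hne
    exact ⟨p, trivial, hp⟩
  have hCy : ∀ i, ∀ x ∈ ((C i).support : Set X), π x = y := fun i x hx =>
    hfib.ge (Set.mem_iUnion.2 ⟨i, hx⟩)
  have hgne : genericPoint Y ≠ y := fun h => hfy (h ▸ hgY)
  obtain ⟨x₀, hx₀⟩ := hsurj _ hgne
  have hgX : π (genericPoint X) = genericPoint Y := by
    have h1 : π (genericPoint X) ⤳ genericPoint Y := hx₀ ▸ (genericPoint_specializes x₀).map π.continuous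
    exact (h1.antisymm (genericPoint_specializes _)).eq
  -- the pulled back function
  let W : X.Opens := π ⁻¹ᵁ V
  have hgW : genericPoint X ∈ W := show π (genericPoint X) ∈ V from hgX ▸ Y.basicOpen_le f hgY
  haveI : Nonempty W := ⟨⟨_, hgW⟩⟩
  haveI : IsIntegral W.toScheme := isIntegral_of_isOpenImmersion W.ι
  haveI : NoetherianSpace W.toScheme := W.ι.isOpenEmbedding.toIsEmbedding.isInducing.noetherianSpace
  haveI : IsNoetherian W.toScheme := {}
  let φ : W.toScheme ⟶ Y := W.ι ≫ π
  let g : Γ(W.toScheme, ⊤) := φ.appLE V ⊤ (fun w _ => w.2) f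
  have hbg : ∀ w : W.toScheme, w ∈ W.toScheme.basicOpen g ↔ π (W.ι w) ∈ Y.basicOpen f := fun w => by
    rw [show W.toScheme.basicOpen g = ⊤ ⊓ φ ⁻¹ᵁ Y.basicOpen f from Scheme.basicOpen_appLE φ ⊤ V _ f, top_inf_eq]
    rfl
  obtain ⟨G, hGc, hGs, ⟨eG⟩⟩ := NegTwist.exists_cartier_of_section_support
    (X := W.toScheme) TMul.isInvertible_structureModule (TMul.homOf (L := Coh.structureModule W.toScheme) g) fun w hw => by
      rw [Chow.genLocus_unit, SetLike.mem_coe.symm]
      show w ∈ W.toScheme.basicOpen g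
      rw [hbg, SurfAdj.eq_genericPoint_of_isAssPoint hw, genericPoint_eq_of_isOpenImmersion, hgX]
      exact hgY
  have hGs' : ∀ w : W.toScheme, w ∈ (G.support : Set W.toScheme) ↔ π (W.ι w) ∉ Y.basicOpen f := fun w => by
    rw [hGs, Chow.genLocus_unit, Set.mem_compl_iff, SetLike.mem_coe, hbg]
  let eG' : ClSub.idealMod G ≅ Coh.structureModule W.toScheme :=
    (TMul.leftUnitIso _).symm ≪≫ TMul.commIso _ _ ≪≫ eG
  -- the curves in the open
  have hcc : ∀ i, BlowUp.IsEffCartierIdeal (C i) := fun i => haveI := hCi i; Nakai.cartier_of_curve k hdim _ (hCd i)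
  have hgnot : ∀ i, genericPoint X ∉ ((C i).support : Set X) := fun i h => hgne (hgX ▸ hCy i _ h)
  have hKc : ∀ i, BlowUp.IsEffCartierIdeal ((C i).comap W.ι) := fun i => cartier_comap_generic W.ι (hcc i)
    (by rw [genericPoint_eq_of_isOpenImmersion]; exact hgnot i)
  have hrange : ∀ i, Set.range (C i).subschemeι ⊆ Set.range W.ι := fun i x hx => by
    rw [(C i).range_subschemeι] at hx
    rw [Scheme.Opens.range_ι]
    show π x ∈ V
    rw [hCy i x hx]
    exact hyV
  let j : ∀ i, (C i).subscheme ⟶ W.toScheme := fun i => IsOpenImmersion.lift W.ι (C i).subschemeι (hrange i)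
  have hjι : ∀ i, j i ≫ W.ι = (C i).subschemeι := fun i => IsOpenImmersion.lift_fac _ _ _
  have hjx : ∀ i z, W.ι (j i z) = (C i).subschemeι z := fun i z => by
    rw [← Scheme.Hom.comp_apply, hjι]
  -- removing the curves
  let P : (Fin r → ℕ) → X.IdealSheafData := fun n => ∏ i, C i ^ n i
  let T : Set W.toScheme.IdealSheafData :=
    {A | BlowUp.IsEffCartierIdeal A ∧ ∃ n, G = (P n).comap W.ι * A}
  haveI := Groth.Agent.S4362.result W.toScheme
  obtain ⟨A, ⟨hAc, n, hGn⟩, hmax⟩ := wellFounded_gt.has_min T ⟨G, hGc, fun _ => 0, by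
    show G = (∏ i, C i ^ 0).comap W.ι * G
    rw [Finset.prod_congr rfl fun i _ => pow_zero (C i), Finset.prod_const_one, Scheme.IdealSheafData.one_eq_top,
      Scheme.IdealSheafData.comap_top, ← Scheme.IdealSheafData.one_eq_top, one_mul]⟩
  have hout : ∀ i, j i (genericPoint (C i).subscheme) ∉ (A.support : Set W.toScheme) := fun i hm => by
    haveI := hCi i
    haveI : IsClosedImmersion (j i ≫ W.ι) := by rw [hjι]; infer_instance
    haveI : IsClosedImmersion (j i) := IsClosedImmersion.of_comp (j i) W.ι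
    have hker : (j i).ker = (C i).comap W.ι := by
      rw [ThickSys.ker_of_isPullback (IsOpenImmersion.isPullback_lift_id (C i).subschemeι W.ι (hrange i)),
        Scheme.IdealSheafData.ker_subschemeι]
    have hle : A ≤ (C i).comap W.ι := by
      rw [← hker, SpCartier.ker_eq_vanishingIdeal (j i)]
      refine (Scheme.IdealSheafData.le_radical _).trans ?_
      rw [← Scheme.IdealSheafData.vanishingIdeal_support]
      refine Scheme.IdealSheafData.vanishingIdeal_antimono ?_
      show ((j i).ker.support : Set W.toScheme) ⊆ _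
      rw [Scheme.Hom.support_ker, (j i).isClosedEmbedding.isClosed_range.closure_eq]
      rintro _ ⟨z, rfl⟩
      exact ((genericPoint_specializes z).map (j i).continuous).mem_closed A.support.isClosed hm
    obtain ⟨K, hK, -⟩ := PtPush.exists_mul_of_le (hKc i) hle
    have hKc' : BlowUp.IsEffCartierIdeal K := BlowUpLib.cartier_of_mul_left (hK ▸ hAc)
    refine hmax K ⟨hKc', n + Pi.single i 1, ?_⟩ (lt_of_mul_eq hAc hK (x := j i (genericPoint _)) ?_)
    · have hP : P (n + Pi.single i 1) = P n * C i := by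
        simp only [P, Pi.add_apply, pow_add, Finset.prod_mul_distrib]
        congr 1
        rw [Fintype.prod_eq_single i fun l hl => by rw [Pi.single_eq_of_ne hl, pow_zero], Pi.single_eq_same, pow_one]
      rw [hGn, hK, hP, BlowUpLib.comap_mul, mul_assoc, mul_comm K]
    · rw [Scheme.IdealSheafData.support_comap]
      show W.ι (j i _) ∈ ((C i).support : Set X)
      rw [hjx, ← (C i).range_subschemeι]
      exact ⟨_, rfl⟩
  have hPc : BlowUp.IsEffCartierIdeal ((P n).comap W.ι) := BlowUpLib.cartier_of_mul_left (hGn ▸ hGc)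
  have hPX : ∀ {M : X.Modules}, PicF.IsInvertible M → BlowUp.IsEffCartierIdeal (P n) ∧
      Nakai.inter k (ClSub.idealMod (P n)) M = ∑ i, (n i : ℚ) * Nakai.inter k (ClSub.idealMod (C i)) M := fun hM =>
    inter_prod_pow k hdim C hcc n hM Finset.univ
  have hPc' : BlowUp.IsEffCartierIdeal (P n) := (hPX TMul.isInvertible_structureModule).1
  have hsupp : ∀ w : W.toScheme, π (W.ι w) ∉ Y.basicOpen f →
      (∃ i, n i ≠ 0 ∧ W.ι w ∈ ((C i).support : Set X)) ∨ w ∈ (A.support : Set W.toScheme) := fun w hw => by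
    have h := (hGs' w).2 hw
    rw [hGn, Scheme.IdealSheafData.support_mul] at h
    rcases h with h | h
    · rw [SetLike.mem_coe, Scheme.IdealSheafData.support_comap] at h
      exact Or.inl (mem_support_prod_pow C n h)
    · exact Or.inr h
  have hpos : ∀ i, 0 < n i := fun i => by
    rcases hsupp (j i (genericPoint (C i).subscheme)) (by
      rw [hjx, hCy i _ ((C i).range_subschemeι ▸ ⟨_, rfl⟩)]; exact hfy) with ⟨l, hl, hm⟩ | hm
    · rw [hjx] at hm
      by_cases hli : i = l
      · exact Nat.pos_of_ne_zero (hli ▸ hl)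
      · refine absurd hm (genericPoint_notMem C hCi hCd ?_ hli)
        intro a b hab
        haveI := hCi a
        haveI := hCi b
        exact hC (by rw [eq_vanishingIdeal_support (C a), eq_vanishingIdeal_support (C b), SetLike.coe_injective hab])
    · exact absurd hm (hout i)
  -- degrees
  obtain ⟨eP⟩ := Nakai.nonempty_pullback_idealMod W.ι hPc' hPc
  obtain ⟨eM⟩ := Nakai.nonempty_idealMod_mul hPc hAc
  let e : CohB1.tensorMod ((Scheme.Modules.pullback W.ι).obj (ClSub.idealMod (P n))) (ClSub.idealMod A) ≅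
      Coh.structureModule W.toScheme :=
    PicGrp.tensorModIso eP (Iso.refl _) ≪≫ eM ≪≫ eqToIso (congrArg ClSub.idealMod hGn.symm) ≪≫ eG'
  have hIP := (Groth.Agent.S8914.result (P n)).2 hPc'
  have hrow : ∀ i, deg k (C i) (ClSub.idealMod (P n)) =
      -∑ l, (n l : ℤ) * FGA.intNum k X 2 ![ClSub.idealMod (C i), ClSub.idealMod (C l)] (Coh.structureModule X) := fun i => by
    haveI := hCi i
    have hIC := (Groth.Agent.S8914.result (C i)).2 (hcc i)
    have h : (deg k (C i) (ClSub.idealMod (P n)) : ℚ) =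
        ((-∑ l, (n l : ℤ) * FGA.intNum k X 2 ![ClSub.idealMod (C i), ClSub.idealMod (C l)] (Coh.structureModule X) : ℤ) : ℚ) := by
      rw [deg_eq_inter k hdim (C i) (hCd i) hIP, Nakai.inter_comm, (hPX hIC).2]
      push_cast [SurfAdj.intNum_inter k hdim]
      exact congrArg Neg.neg (Finset.sum_congr rfl fun l _ => by rw [Nakai.inter_comm k (ClSub.idealMod (C l))])
    exact_mod_cast h
  have hdeg : ∀ i, 0 ≤ deg k (C i) (ClSub.idealMod (P n)) ∧
      (deg k (C i) (ClSub.idealMod (P n)) = 0 → ∀ z, j i z ∉ (A.support : Set W.toScheme)) := fun i =>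
    haveI := hCi i
    deg_nonneg_of_factor k (C i) (hCd i) W.ι (j i) (hjι i) hAc (hout i) hIP e
  refine ⟨n, hpos, fun i => by linarith [(hdeg i).1, hrow i], ?_⟩
  by_contra hcon
  push Not at hcon
  have hz : ∀ i z, j i z ∉ (A.support : Set W.toScheme) := fun i => (hdeg i).2 (by linarith [(hdeg i).1, hrow i, hcon i])
  let Z : Set X := closure (W.ι '' (A.support : Set W.toScheme))
  have hyZ : y ∉ π '' Z := by
    rintro ⟨x, hxZ, hx⟩
    obtain ⟨i, hi⟩ := Set.mem_iUnion.1 (hfib.le (show x ∈ (π.base : X → Y) ⁻¹' {y} from hx))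
    rw [← (C i).range_subschemeι] at hi
    obtain ⟨z, hzx⟩ := hi
    refine hz i z ?_
    have h1 : j i z ∈ W.ι ⁻¹' Z := show W.ι (j i z) ∈ Z by rw [hjx, hzx]; exact hxZ
    rwa [← W.ι.isOpenEmbedding.toIsEmbedding.closure_eq_preimage_closure_image, A.support.isClosed.closure_eq] at h1
  obtain ⟨U, hU, hyU, hUle⟩ := exists_isAffineOpen_mem_and_subset (x := y)
    (U := V ⊓ ⟨(π '' Z)ᶜ, (π.isClosedMap _ isClosed_closure).isOpen_compl⟩) ⟨hyV, hyZ⟩
  have hUV : U ≤ V := fun p hp => (hUle hp).1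
  have hres := Y.basicOpen_res f (homOfLE hUV).op
  obtain ⟨p, hpU, hpy, hpf⟩ := not_only_zero hyd hU hyU (Y.presheaf.map (homOfLE hUV).op f)
    (fun h => hfy (hres.le h).2)
  obtain ⟨x, hx⟩ := hsurj p hpy
  have hxW : x ∈ W := show π x ∈ V from hx ▸ hUV hpU
  rcases hsupp ⟨x, hxW⟩ (fun h => hpf (hres.ge ⟨hpU, hx ▸ h⟩)) with ⟨l, -, hl⟩ | hl
  · exact hpy (hx ▸ hCy l x hl)
  · exact (hUle hpU).2 ⟨x, subset_closure ⟨⟨x, hxW⟩, hl, rfl⟩, hx⟩

include hdim hyd hsurj hC hCi hCd hfib in
/-- The intersection matrix of a connected contracted configuration is negative definite. -/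
theorem negDef_of_contraction (hconn : _root_.IsConnected (⋃ i, ((C i).support : Set X))) (a : Fin r → ℤ) (ha : a ≠ 0) :
    ∑ i, ∑ l, a i * a l * FGA.intNum k X 2 ![ClSub.idealMod (C i), ClSub.idealMod (C l)] (Coh.structureModule X) < 0 := by
  obtain ⟨n, hpos, hrow, i₀, hi₀⟩ := exists_cycle k hdim π hyd hsurj C hC hCi hCd hfib
  let M : Fin r → Fin r → ℤ := fun i l =>
    FGA.intNum k X 2 ![ClSub.idealMod (C i), ClSub.idealMod (C l)] (Coh.structureModule X)
  have hinj : Function.Injective fun i => ((C i).support : Set X) := fun a b hab => by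
    haveI := hCi a
    haveI := hCi b
    exact hC (by rw [eq_vanishingIdeal_support (C a), eq_vanishingIdeal_support (C b), SetLike.coe_injective hab])
  have hpair : ∀ i l, i ≠ l → 0 ≤ M i l ∧ (M i l = 0 → Disjoint ((C i).support : Set X) ((C l).support : Set X)) :=
    fun i l h => by
    haveI := hCi i
    haveI := hCi l
    exact disjoint_of_intNum_zero k hdim (C i) (C l) (hCd i) (Nakai.cartier_of_curve k hdim _ (hCd l))
      (genericPoint_notMem C hCi hCd hinj h)
  obtain ⟨hle, hzero⟩ := Castel.quad_nonpos M (fun i l => SurfAdj.intNum_comm k hdim _ _) (fun i l h => (hpair i l h).1)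
    n hpos hrow a
  refine lt_of_le_of_ne hle fun h0 => ?_
  obtain ⟨hprop, hneg⟩ := hzero h0
  have hai₀ := hneg i₀ hi₀
  obtain ⟨i₁, hi₁⟩ : ∃ i, a i ≠ 0 := not_forall.1 fun h => ha (funext h)
  let S₁ : Set X := ⋃ i : {i : Fin r // a i = 0}, ((C i.1).support : Set X)
  let S₂ : Set X := ⋃ i : {i : Fin r // a i ≠ 0}, ((C i.1).support : Set X)
  have hnon : ∀ i, ((C i).support : Set X).Nonempty := fun i => by
    haveI := hCi i
    rw [← (C i).range_subschemeι]
    exact ⟨_, genericPoint _, rfl⟩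
  obtain ⟨q₁, hq₁⟩ := hnon i₀
  obtain ⟨q₂, hq₂⟩ := hnon i₁
  obtain ⟨q, -, hq, hq'⟩ := isPreconnected_closed_iff.1 hconn.isPreconnected S₁ S₂
    (isClosed_iUnion_of_finite fun i => (C i.1).support.isClosed)
    (isClosed_iUnion_of_finite fun i => (C i.1).support.isClosed)
    (fun x hx => by
      obtain ⟨i, hi⟩ := Set.mem_iUnion.1 hx
      by_cases h : a i = 0
      · exact Or.inl (Set.mem_iUnion.2 ⟨⟨i, h⟩, hi⟩)
      · exact Or.inr (Set.mem_iUnion.2 ⟨⟨i, h⟩, hi⟩))
    ⟨q₁, Set.mem_iUnion.2 ⟨i₀, hq₁⟩, Set.mem_iUnion.2 ⟨⟨i₀, hai₀⟩, hq₁⟩⟩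
    ⟨q₂, Set.mem_iUnion.2 ⟨i₁, hq₂⟩, Set.mem_iUnion.2 ⟨⟨i₁, hi₁⟩, hq₂⟩⟩
  obtain ⟨⟨i, hi⟩, hqi⟩ := Set.mem_iUnion.1 hq
  obtain ⟨⟨l, hl⟩, hql⟩ := Set.mem_iUnion.1 hq'
  have hne : i ≠ l := fun h => hl (h ▸ hi)
  have h1 := hprop i l fun h => Set.disjoint_left.1 ((hpair i l hne).2 h) hqi hql
  rw [hi, zero_mul] at h1
  exact hl ((mul_eq_zero.1 h1.symm).resolve_right (Int.natCast_ne_zero.2 (hpos i).ne'))

end Main

end Groth.Agent.PlaneBlow
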