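import Groth.Agent.PlaneBlow.Basic
import Groth.Agent.StabK3.H1Line

/-!
# Removing a curve of negative degree from a linear system
-/

set_option autoImplicit false
set_option backward.isDefEq.respectTransparency false
set_option backward.isDefEq.respectTransparency.types false
set_option linter.style.haveILetI false
set_option linter.unusedSectionVars false

universe u

open CategoryTheory CategoryTheory.Limits AlgebraicGeometry TopologicalSpace

noncomputable section

namespace Groth.Agent.PlaneBlow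

variable (k : Type u) [Field k] [IsAlgClosed k] {X : Scheme.{u}} [X.Over (Spec (CommRingCat.of k))]
  [IsIntegral X] [IsProper (X ↘ Spec (CommRingCat.of k))] [Smooth (X ↘ Spec (CommRingCat.of k))]
  (hdim : topologicalKrullDim X = 2) (C : X.IdealSheafData) [IsIntegral C.subscheme]
  (hC1 : topologicalKrullDim (C.support : Set X) = 1)

/-- degree of `L` on `C` -/
abbrev deg (L : X.Modules) : ℤ :=
  Curv2.euler k X (CohB1.tensorMod (ClSub.quotMod C) L) - Curv2.euler k X (ClSub.quotMod C)

include hdim hC1 in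
theorem deg_eq_inter {L : X.Modules} (hL : PicF.IsInvertible L) :
    (deg k C L : ℚ) = -Nakai.inter k (ClSub.idealMod C) L := by
  rw [deg, SurfAdj.deg_eq k hdim C hC1 hL, Int.cast_neg, SurfAdj.intNum_inter k hdim]

include hC1 in
theorem h0_quot_eq_zero {J : X.Modules} (hJ : PicF.IsInvertible J) (hneg : deg k C J < 0) :
    CurveRR.h k (CohB1.tensorMod (ClSub.quotMod C) J) 0 = 0 := by
  haveI := CurveRR.isNoetherian_of_proper k X
  letI : C.subscheme.Over (Spec (CommRingCat.of k)) := ⟨C.subschemeι ≫ (X ↘ Spec (CommRingCat.of k))⟩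
  haveI : IsProper (C.subscheme ↘ Spec (CommRingCat.of k)) :=
    inferInstanceAs (IsProper (C.subschemeι ≫ (X ↘ Spec (CommRingCat.of k))))
  haveI : IsNoetherian C.subscheme := CurveRR.isNoetherian_of_proper k C.subscheme
  have hC' : topologicalKrullDim C.subscheme ≤ 1 := by
    rw [← StabK3.dim_support_ker C.subschemeι, Scheme.IdealSheafData.ker_subschemeι]
    exact hC1.le
  have hl := ResDesc.isFinLocFree_of_isInvertible hJ
  let e : CohB1.tensorMod (ClSub.quotMod C) J ≅
      (Scheme.Modules.pushforward C.subschemeι).obj ((Scheme.Modules.pullback C.subschemeι).obj J) :=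
    TMul.commIso _ _ ≪≫ (S0927.projIso C.subschemeι J hl).app (Coh.structureModule C.subscheme) ≪≫
      (Scheme.Modules.pushforward C.subschemeι).mapIso (SecTwist.unitorR ((Scheme.Modules.pullback C.subschemeι).obj J))
  have hP : PicF.IsInvertible ((Scheme.Modules.pullback C.subschemeι).obj J) :=
    PicLoc.isInvertible_pullback _ hJ
  by_contra hne
  rw [CurveRR.h_eq_of_iso e 0, StabK3.h_push k C.subschemeι rfl (CurveRR.isCoh_of_inv hP).1] at hne
  obtain ⟨σ, hσ⟩ := Nakai.exists_section_of_h0 k (Nat.pos_of_ne_zero hne)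
  have hdeg := CurveRR.Easy.deg_nonneg (k := k) hC' hP σ hσ
  rw [Curv2.deg, Nat.cast_one, one_mul, ← StabK3.euler_push k C.subschemeι rfl (CurveRR.isCoh_of_inv hP).1,
    ← StabK3.euler_push k C.subschemeι rfl (RefStalk.isCoh_structureModule (X := C.subscheme)).1,
    ← CurveRR.euler_eq_of_iso e] at hdeg
  change 0 ≤ deg k C J at hdeg
  omega

include hdim hC1 in
theorem h0_sub_eq {J : X.Modules} (hJ : PicF.IsInvertible J) (hneg : deg k C J < 0) :
    CurveRR.h k (CohB1.tensorMod (ClSub.idealMod C) J) 0 = CurveRR.h k J 0 := by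
  haveI := CurveRR.isNoetherian_of_proper k X
  have hS := CohFinite.shortExact_tmap hJ (SerrePn.idealSeq_shortExact C)
  have hc := CurveRR.isCoh_of_inv hJ
  have h₁ : Coh.IsCoh (CohB1.tensorMod (ClSub.idealMod C) J) :=
    CurveRR.isCoh_tensor' (CurveRR.isCoh_idealMod C).1 hc
  have h₂ : Coh.IsCoh (CohB1.tensorMod (Coh.structureModule X) J) :=
    CurveRR.isCoh_tensor' RefStalk.isCoh_structureModule hc
  have h₃ : Coh.IsCoh (CohB1.tensorMod (ClSub.quotMod C) J) :=
    CurveRR.isCoh_tensor' (CurveRR.isCoh_idealMod C).2 hc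
  have hle := Nakai.h0_le_of_mono k hS h₂
  have hge := Nakai.h0_middle k hS h₁ h₂ h₃
  have hz := h0_quot_eq_zero k C hC1 hJ hneg
  have e := CurveRR.h_eq_of_iso (k := k) (TMul.leftUnitIso J) 0
  dsimp only [SerrePn.idealSeq, ClSub.quotMod] at hle hge hz
  omega

include hdim hC1 in
theorem deg_pow_tensor (hCC : FGA.intNum k X 2 ![ClSub.idealMod C, ClSub.idealMod C] (Coh.structureModule X) = -1)
    {L : X.Modules} (hL : PicF.IsInvertible L) (t : ℕ) :
    deg k C (CohB1.tensorMod (CohB1.tensorPow (ClSub.idealMod C) t) L) = t + deg k C L := by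
  have hI := SurfAdj.inv_ideal k hdim C hC1
  have hp := TMul.isInvertible_tensorPow hI t
  have h1 := deg_eq_inter k hdim C hC1 (TMul.isInvertible_tensorMod hp hL)
  have h2 := deg_eq_inter k hdim C hC1 hL
  rw [Nakai.inter_tensor_right k hdim.le hp hL hI, Nakai.inter_pow_right k hdim.le hI hI, ← SurfAdj.intNum_inter k hdim,
    hCC] at h1
  push_cast at h1
  have h3 : (deg k C (CohB1.tensorMod (CohB1.tensorPow (ClSub.idealMod C) t) L) : ℚ) = ((t + deg k C L : ℤ) : ℚ) := by
    simp only [deg] at h1 h2 ⊢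
    push_cast at h1 h2 ⊢
    linarith
  exact_mod_cast h3

include hdim hC1 in
theorem h0_pow_tensor (hCC : FGA.intNum k X 2 ![ClSub.idealMod C, ClSub.idealMod C] (Coh.structureModule X) = -1)
    {L : X.Modules} (hL : PicF.IsInvertible L) :
    ∀ t : ℕ, (t : ℤ) ≤ -deg k C L →
      CurveRR.h k (CohB1.tensorMod (CohB1.tensorPow (ClSub.idealMod C) t) L) 0 = CurveRR.h k L 0
  | 0, _ => CurveRR.h_eq_of_iso (k := k) (TMul.leftUnitIso L) 0
  | t + 1, ht => by
    have hI := SurfAdj.inv_ideal k hdim C hC1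
    have hp := TMul.isInvertible_tensorPow hI t
    have hJ := TMul.isInvertible_tensorMod hp hL
    have hd := deg_pow_tensor k hdim C hC1 hCC hL t
    have hs := h0_sub_eq k hdim C hC1 hJ (by omega)
    rw [h0_pow_tensor hCC hL t (by omega)] at hs
    refine Eq.trans ?_ hs
    exact CurveRR.h_eq_of_iso (k := k)
      (PicGrp.tensorModIso (TMul.commIso _ _) (Iso.refl L) ≪≫ TMul.assocIso (ClSub.idealMod C) _ L) 0

end Groth.Agent.PlaneBlow
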