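import Groth.Agent.PlaneBlow.Contract
import Groth.Agent.DivPart.Sum
import Groth.Agent.CDivNormal.Basic
import Groth.Agent.SurfAmple.Curves
import Groth.Agent.PtPush.Tower
import Groth.Agent.Castel.SurfRes

/-!
# Total and strict transforms of divisors
-/

set_option autoImplicit false
set_option backward.isDefEq.respectTransparency false
set_option backward.isDefEq.respectTransparency.types false
set_option linter.style.haveILetI false
set_option linter.unusedSectionVars false

universe u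

open CategoryTheory CategoryTheory.Limits AlgebraicGeometry TopologicalSpace
open Groth.Agent.DivPart (stI stI_eq ideal_le_of_stI germ_mem_map_iff)

noncomputable section

namespace Groth.Agent.PlaneBlow

/-- On a normal scheme inclusions of effective Cartier ideals are checked in codimension one. -/
theorem le_of_codim_one {X : Scheme.{u}} [IsIntegral X] [IsLocallyNoetherian X] (hn : Pi1.IsNormalScheme X)
    {E P : X.IdealSheafData} (hE : BlowUp.IsEffCartierIdeal E) (hP : BlowUp.IsEffCartierIdeal P)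
    (h : ∀ x : X, Order.coheight x = 1 → ∃ W : X.affineOpens, x ∈ W.1 ∧ E.ideal W ≤ P.ideal W) : E ≤ P := by
  intro W₀
  refine ideal_le_of_stI P E W₀ fun y hy₀ => ?_
  obtain ⟨W₁, hy₁, -, p₁, hp₁, hP₁⟩ := BlowUpLib.exists_small_generator hP (O := W₀.1) hy₀
  obtain ⟨W, hyW, hWle, e, he, hEW⟩ := BlowUpLib.exists_small_generator hE hy₁
  obtain ⟨p, hp, hPW⟩ := BlowUpLib.exists_generator_of_le P (show W ≤ W₁ from hWle) hp₁ hP₁
  haveI : Nonempty W.1 := ⟨⟨y, hyW⟩⟩
  let K := X.functionField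
  let γ := X.germToFunctionField W.1
  have hγ : ∀ (x : X) (hx : x ∈ W.1) (a : Γ(X, W.1)),
      algebraMap (X.presheaf.stalk x) K ((X.presheaf.germ W.1 x hx).hom a) = γ.hom a := fun x hx a =>
    X.algebraMap_germ_eq_germToFunctionField hx a
  have hp0 : γ.hom p ≠ 0 := fun h0 => nonZeroDivisors.ne_zero hp
    (Scheme.germToFunctionField_injective X W.1 (h0.trans (map_zero γ.hom).symm))
  have hcod : ∀ x : X, x ⤳ y → Order.coheight x = 1 →
      ∃ r, algebraMap (X.presheaf.stalk x) K r = γ.hom e / γ.hom p := fun x hxy hx => by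
    have hxW : x ∈ W.1 := hxy.mem_open W.1.2 hyW
    obtain ⟨V, hxV, hle⟩ := h x hx
    have hst : stI E W hxW ≤ stI P W hxW := by
      rw [stI_eq E W V hxW hxV, stI_eq P W V hxW hxV]
      exact Ideal.map_mono hle
    have hmem : (X.presheaf.germ W.1 x hxW).hom e ∈ Ideal.span {(X.presheaf.germ W.1 x hxW).hom p} := by
      have h1 : (X.presheaf.germ W.1 x hxW).hom e ∈ stI P W hxW :=
        hst (Ideal.mem_map_of_mem _ (hEW ▸ Ideal.mem_span_singleton_self e))
      rwa [stI, hPW, Ideal.map_span, Set.image_singleton] at h1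
    obtain ⟨r, hr⟩ := Ideal.mem_span_singleton'.1 hmem
    refine ⟨r, (eq_div_iff hp0).2 ?_⟩
    rw [← hγ x hxW e, ← hr, map_mul, hγ x hxW p]
  obtain ⟨r, hr⟩ := CDivNormal.mem_range_of_codim_one hn (γ.hom e / γ.hom p) y hcod
  refine ⟨W, hyW, ?_⟩
  rw [stI, stI, hEW, hPW, Ideal.map_span, Set.image_singleton, Ideal.map_span, Set.image_singleton,
    Ideal.span_singleton_le_iff_mem, Ideal.mem_span_singleton']
  exact ⟨r, IsFractionRing.injective (X.presheaf.stalk y) K (by
    rw [map_mul, hr, hγ y hyW p, hγ y hyW e, div_mul_cancel₀ _ hp0])⟩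

/-- An invertible module pulls back trivially along a morphism into an open on which it is trivial. -/
theorem nonempty_pullback_trivial {X Y : Scheme.{u}} (ψ : Y ⟶ X) {L : X.Modules} (hL : PicF.IsInvertible L)
    {x : X} (hψ : ∀ z, ψ z = x) : Nonempty (Coh.structureModule Y ≅ (Scheme.Modules.pullback ψ).obj L) := by
  obtain ⟨U, g, hxU, hg⟩ := TMul.exists_isGen hL x
  have hU : ψ ⁻¹ᵁ U = ⊤ := Opens.ext (Set.eq_univ_of_forall fun z => show ψ z ∈ U from (hψ z).symm ▸ hxU)
  let s : Γ((Scheme.Modules.pullback ψ).obj L, ⊤) :=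
    Groth.Agent.QC.res _ hU.ge (OmegaSh.pullSect ψ L U g)
  have hs : TMul.IsGen s := (Nakai.isGen_pullSect ψ hL hg).res hU.ge
  haveI : IsIso (TMul.homOf (L := (Scheme.Modules.pullback ψ).obj L) s) := by
    refine RelTilde.isIso_of_bijective_near _ fun y => ⟨⊤, trivial, fun V hV => ?_⟩
    have h : ⇑((TMul.homOf (L := (Scheme.Modules.pullback ψ).obj L) s).app V) =
        fun c : Γ(Y, V) => c • Groth.Agent.QC.res _ hV s := funext fun c => by
      rw [TMul.app_eq_smul, TMul.val_homOf]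
    rw [h]
    exact hs V hV
  exact ⟨asIso (TMul.homOf (L := (Scheme.Modules.pullback ψ).obj L) s)⟩

variable (k : Type u) [Field k] [IsAlgClosed k] {X Y : Scheme.{u}} [Y.Over (Spec (CommRingCat.of k))]
  [IsProper (Y ↘ Spec (CommRingCat.of k))] [Smooth (Y ↘ Spec (CommRingCat.of k))] [IsIntegral Y]
  (hdimY : topologicalKrullDim Y = 2) [IsIntegral X] [JacobsonSpace X] (hX0 : ∀ p : X, IsClosed ({p} : Set X) → p ≠ genericPoint X)
  (φ : Y ⟶ X) [IsProper φ] (U : X.Opens) (hU : ((U : Set X)ᶜ).Finite) (hiso : IsIso (φ ∣_ U))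
  {s : ℕ} (μ : Fin s → Y.IdealSheafData) (hμint : ∀ j, IsIntegral (μ j).subscheme)
  (hμdim : ∀ j, topologicalKrullDim ((μ j).support : Set Y) = 1)
  (hμpt : ∀ j, ∃ x : X, φ.base '' ((μ j).support : Set Y) = {x})
  (hμall : ∀ E : Y.IdealSheafData, IsIntegral E.subscheme → topologicalKrullDim (E.support : Set Y) = 1 →
    (∃ x : X, φ.base '' (E.support : Set Y) = {x}) → ∃ j, (E.support : Set Y) = (μ j).support)

include hU in
theorem isClosed_of_notMem {p : X} (hp : p ∉ U) : IsClosed ({p} : Set X) := by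
  have hsub : closure ({p} : Set X) ⊆ (U : Set X)ᶜ :=
    closure_minimal (Set.singleton_subset_iff.2 hp) U.2.isClosed_compl
  let C := closure ({p} : Set X) ∩ closedPoints X
  have hfin : C.Finite := hU.subset (Set.inter_subset_left.trans hsub)
  have hC : IsClosed C := by
    rw [← Set.biUnion_of_singleton C]
    exact hfin.isClosed_biUnion fun q hq => hq.2
  have h := closure_inter_closedPoints (isClosed_closure (s := ({p} : Set X)))
  rw [hC.closure_eq] at h
  have hpC : p ∈ C := h.ge (subset_closure rfl)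
  exact hpC.2

include k hdimY hX0 hU hiso hμint hμdim hμpt hμall in
/-- The total transform of a divisor. -/
theorem exists_totalTransform {D : X.IdealSheafData} (hD : BlowUp.IsEffCartierIdeal D) {Dt : Y.IdealSheafData}
    (hDt : BlowUp.IsEffCartierIdeal Dt) (hDtexc : ∀ j, ¬ ((μ j).support : Set Y) ⊆ Dt.support)
    (hDtU : ∀ W : Y.affineOpens, (W : Y.Opens) ≤ φ ⁻¹ᵁ U → Dt.ideal W = (D.comap φ).ideal W) :
    ∃ γ : Fin s → ℕ, D.comap φ = Dt * ∏ j : Fin s, μ j ^ γ j ∧
      ∀ i : Fin s, (∑ j : Fin s, FGA.intNum k Y 2 ![ClSub.idealMod (μ i), ClSub.idealMod (μ j)] (Coh.structureModule Y) * (γ j : ℤ)) =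
        - FGA.intNum k Y 2 ![ClSub.idealMod Dt, ClSub.idealMod (μ i)] (Coh.structureModule Y) := by
  classical
  haveI := CurveRR.isNoetherian_of_proper k Y
  haveI := hiso
  have hηU : genericPoint X ∈ U := by
    by_contra h
    exact hX0 _ (isClosed_of_notMem U hU h) rfl
  obtain ⟨z₀, hz₀⟩ := (φ ∣_ U).surjective ⟨genericPoint X, hηU⟩
  have hφη : φ (genericPoint Y) = genericPoint X := by
    have h0 : φ z₀.1 = genericPoint X := (morphismRestrict_base_coe φ U z₀).symm.trans (congrArg Subtype.val hz₀)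
    have h1 : φ (genericPoint Y) ⤳ genericPoint X := h0 ▸ (genericPoint_specializes z₀.1).map φ.continuous
    exact (h1.antisymm (genericPoint_specializes _)).eq
  have hE : BlowUp.IsEffCartierIdeal (D.comap φ) := cartier_comap_generic φ hD (by
    rw [hφη]
    refine W7Fib.genericPoint_notMem_support fun hbot => ?_
    obtain ⟨V, hV, a, ha, he⟩ := hD (genericPoint X)
    haveI : Nonempty V.1 := ⟨⟨_, hV⟩⟩
    rw [hbot] at he
    have : a = 0 := Ideal.span_singleton_eq_bot.1 (he.symm.trans rfl)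
    exact nonZeroDivisors.ne_zero ha this)
  have hn := PtPush.isNormal_of_regular (X := Y) (SurfAdj.regular k hdimY)
  -- codimension one points outside the isomorphism locus are generic points of exceptional curves
  have houtside : ∀ ξ : Y, topologicalKrullDim (closure {ξ} : Set Y) = ((1 : ℕ) : WithBot ℕ∞) → φ ξ ∉ U →
      ∃ j, ξ = (μ j).subschemeι (genericPoint (μ j).subscheme) := fun ξ hξd hξ => by
    have hcl := isClosed_of_notMem U hU hξ
    obtain ⟨j, hj⟩ := hμall (SurfAmple.curveOf ξ) inferInstance (SurfAmple.support_dim_curveOf hξd) ⟨φ ξ, by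
      rw [SurfAmple.support_curveOf]
      refine Set.Subset.antisymm ?_ (Set.singleton_subset_iff.2 ⟨ξ, subset_closure rfl, rfl⟩)
      exact (image_closure_subset_closure_image φ.continuous).trans (by rw [Set.image_singleton, hcl.closure_eq])⟩
    refine ⟨j, ?_⟩
    haveI := hμint j
    rw [SurfAmple.support_curveOf, ← Nakai.closure_genericPoint_subscheme] at hj
    exact (isGenericPoint_closure (x := ξ)).eq (show IsGenericPoint _ (closure {ξ}) from hj.symm)
  have hcodim : ∀ {A : Y.IdealSheafData}, BlowUp.IsEffCartierIdeal A → ∀ x ∈ (A.support : Set Y), Order.coheight x = 1 →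
      topologicalKrullDim (closure {x} : Set Y) = ((1 : ℕ) : WithBot ℕ∞) := fun {A} hA x hx h1 => by
    obtain ⟨ξ, ⟨hξA, hξd⟩, hξx⟩ := SurfAmple.exists_top_specializes k hdimY hA hx
    suffices ξ = x by rw [← this]; exact hξd
    by_contra hne
    have hlt : x < ξ := lt_iff_le_not_ge.2 ⟨hξx, fun h' => hne (hξx.antisymm h').eq⟩
    have h2 := Order.coheight_add_one_le hlt
    rw [h1] at h2
    have h0 : Order.coheight ξ = 0 := le_antisymm ((WithTop.add_le_add_iff_right ENat.one_ne_top).1 (h2.trans_eq (zero_add 1).symm)) bot_le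
    have hξη : ξ = genericPoint Y := (Specializes.antisymm (Order.coheight_eq_zero.1 h0
      (show ξ ≤ genericPoint Y from genericPoint_specializes ξ) : ξ ⤳ genericPoint Y) (genericPoint_specializes ξ)).eq
    rw [hξη, genericPoint_closure] at hξd
    rw [IsHomeomorph.topologicalKrullDim_eq _ (Homeomorph.Set.univ Y).isHomeomorph, hdimY] at hξd
    exact absurd hξd (by norm_num)
  have hgenμ : ∀ j, (μ j).subschemeι (genericPoint (μ j).subscheme) ∉ (Dt.support : Set Y) := fun j h => hDtexc j (by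
    haveI := hμint j
    rw [← Nakai.closure_genericPoint_subscheme]
    exact closure_minimal (Set.singleton_subset_iff.2 h) Dt.support.isClosed)
  -- the strict transform contains the total transform
  have hle : D.comap φ ≤ Dt := le_of_codim_one hn hE hDt fun x hx => by
    by_cases hxD : x ∈ (Dt.support : Set Y)
    · by_cases hxU : φ x ∈ U
      · obtain ⟨W, hW, hxW, hWle⟩ := exists_isAffineOpen_mem_and_subset (x := x) (U := φ ⁻¹ᵁ U) hxU
        exact ⟨⟨W, hW⟩, hxW, (hDtU ⟨W, hW⟩ hWle).ge⟩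
      · obtain ⟨j, rfl⟩ := houtside x (hcodim hDt x hxD hx) hxU
        exact absurd hxD (hgenμ j)
    · obtain ⟨W, hW, hxW, hWle⟩ := exists_isAffineOpen_mem_and_subset (x := x)
        (U := ⟨(Dt.support : Set Y)ᶜ, Dt.support.isClosed.isOpen_compl⟩) hxD
      exact ⟨⟨W, hW⟩, hxW, le_top.trans_eq (PtBlow.ideal_eq_top fun z hz => hWle hz).symm⟩
  obtain ⟨A, hA, hAtop⟩ := PtPush.exists_mul_of_le hDt hle
  have hAc : BlowUp.IsEffCartierIdeal A := BlowUpLib.cartier_of_mul_left (hA ▸ hE)
  have hAs : (A.support : Set Y) ⊆ ⋃ j, ((μ j).support : Set Y) := fun p hp => by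
    obtain ⟨ξ, ⟨hξA, hξd⟩, hξp⟩ := SurfAmple.exists_top_specializes k hdimY hAc hp
    have hξU : φ ξ ∉ U := fun h => by
      obtain ⟨W, hW, hξW, hWle⟩ := exists_isAffineOpen_mem_and_subset (x := ξ) (U := φ ⁻¹ᵁ U) h
      rw [SetLike.mem_coe, Scheme.IdealSheafData.mem_support_iff_of_mem (U := ⟨W, hW⟩) hξW,
        hAtop ⟨W, hW⟩ (hDtU ⟨W, hW⟩ hWle).symm, Scheme.mem_zeroLocus_iff] at hξA
      exact hξA 1 Submodule.mem_top (by rw [Scheme.basicOpen_of_isUnit _ isUnit_one]; exact hξW)
    obtain ⟨j, rfl⟩ := houtside ξ hξd hξU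
    refine Set.mem_iUnion.2 ⟨j, ?_⟩
    haveI := hμint j
    rw [← Nakai.closure_genericPoint_subscheme]
    exact specializes_iff_mem_closure.1 hξp
  have hμc : ∀ j, BlowUp.IsEffCartierIdeal (μ j) := fun j => haveI := hμint j; Nakai.cartier_of_curve k hdimY _ (hμdim j)
  obtain ⟨γ, hγ⟩ := DivPart.exists_eq_prod A hAc s μ hμc hμint hAs
  refine ⟨γ, by rw [hA, hγ, mul_comm], fun i => ?_⟩
  haveI := hμint i
  have hIi := (Groth.Agent.S8914.result (μ i)).2 (hμc i)
  -- the total transform has degree zero on the exceptional curve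
  letI : (μ i).subscheme.Over (Spec (CommRingCat.of k)) := ⟨(μ i).subschemeι ≫ (Y ↘ Spec (CommRingCat.of k))⟩
  obtain ⟨x, hx⟩ := hμpt i
  have hID := (Groth.Agent.S8914.result D).2 hD
  have hIE := (Groth.Agent.S8914.result _).2 hE
  obtain ⟨eE⟩ := Nakai.nonempty_pullback_idealMod φ hD hE
  obtain ⟨e1⟩ := nonempty_pullback_trivial ((μ i).subschemeι ≫ φ) hID (x := x) fun z => by
    have hz : φ ((μ i).subschemeι z) ∈ φ.base '' ((μ i).support : Set Y) :=
      ⟨_, (μ i).range_subschemeι ▸ ⟨z, rfl⟩, rfl⟩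
    rw [hx] at hz
    exact hz
  let e2 : (Scheme.Modules.pullback (μ i).subschemeι).obj (ClSub.idealMod (D.comap φ)) ≅ Coh.structureModule (μ i).subscheme :=
    (Scheme.Modules.pullback (μ i).subschemeι).mapIso eE.symm ≪≫
      (Scheme.Modules.pullbackComp (μ i).subschemeι φ).app _ ≪≫ e1.symm
  obtain ⟨-, hdeg⟩ := Nakai.deg_quot_eq k (μ i) (hμdim i) hIE
  have h0 : deg k (μ i) (ClSub.idealMod (D.comap φ)) = 0 := by
    refine hdeg.symm.trans ?_
    simp only [Curv2.deg]
    rw [CurveRR.euler_eq_of_iso e2]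
    simp
  obtain ⟨hPc, hPint⟩ := inter_prod_pow k hdimY μ hμc γ hIi Finset.univ
  obtain ⟨eM⟩ := Nakai.nonempty_idealMod_mul hDt hPc
  have hq : (0 : ℚ) = Nakai.inter k (ClSub.idealMod Dt) (ClSub.idealMod (μ i)) +
      ∑ j, (γ j : ℚ) * Nakai.inter k (ClSub.idealMod (μ j)) (ClSub.idealMod (μ i)) := by
    rw [← hPint, ← Nakai.inter_tensor k hdimY.le ((Groth.Agent.S8914.result Dt).2 hDt)
      ((Groth.Agent.S8914.result _).2 hPc) hIi, Nakai.inter_comm]
    have h1 := deg_eq_inter k hdimY (μ i) (hμdim i) hIE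
    rw [h0, Int.cast_zero, zero_eq_neg] at h1
    rw [← h1]
    rw [Nakai.inter_comm, Nakai.inter_comm k (ClSub.idealMod (μ i))]
    refine Nakai.inter_iso k ((PicGrp.cl_eq_cl_iff _ _).2 ⟨eM ≪≫ eqToIso (congrArg ClSub.idealMod ?_)⟩) _ |>.symm
    rw [hA, hγ, mul_comm]
  have hfin : ((∑ j : Fin s, FGA.intNum k Y 2 ![ClSub.idealMod (μ i), ClSub.idealMod (μ j)] (Coh.structureModule Y) * (γ j : ℤ) : ℤ) : ℚ) =
      ((- FGA.intNum k Y 2 ![ClSub.idealMod Dt, ClSub.idealMod (μ i)] (Coh.structureModule Y) : ℤ) : ℚ) := by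
    push_cast [SurfAdj.intNum_inter k hdimY]
    rw [eq_neg_iff_add_eq_zero, add_comm]
    refine Eq.trans ?_ hq.symm
    refine congrArg _ (Finset.sum_congr rfl fun j _ => ?_)
    rw [Nakai.inter_comm k (ClSub.idealMod (μ i)), mul_comm]
  exact_mod_cast hfin

end Groth.Agent.PlaneBlow
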