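import Groth.Agent.PlaneBlow.RationalEuler
import Groth.Agent.PlaneBlow.CurveUnion
import Groth.Agent.CurveRR.SmoothPt
import Groth.Agent.DualGeneric.GenusZero
import Groth.Agent.S14698
import Groth.Agent.S14700
import Groth.Agent.S15544

/-!
# Fibres over rational singularities
-/

set_option autoImplicit false
set_option backward.isDefEq.respectTransparency false
set_option backward.isDefEq.respectTransparency.types false
set_option linter.style.haveILetI false
set_option linter.unusedSectionVars false

universe u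

open CategoryTheory CategoryTheory.Limits AlgebraicGeometry TopologicalSpace Opposite
open Groth.Agent.SiteCoh

noncomputable section

namespace Groth.Agent.PlaneBlow

/-- Fibres of a proper modification of a surface have dimension at most one. -/
theorem fibre_dim_le_one {X Y : Scheme.{u}} [IsIntegral X] [IsIntegral Y] (hdimY : topologicalKrullDim Y = 2) (π : Y ⟶ X)
    (U : X.Opens) [IsIso (π ∣_ U)] (hηU : genericPoint X ∈ U) (x : X) :
    topologicalKrullDim ↥(π.fiber x) ≤ ((1 : ℕ) : WithBot ℕ∞) := by
  obtain ⟨z₀, hz₀⟩ := (π ∣_ U).surjective ⟨genericPoint X, hηU⟩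
  have hπη : π (genericPoint Y) = genericPoint X := by
    have h0 : π z₀.1 = genericPoint X := (morphismRestrict_base_coe π U z₀).symm.trans (congrArg Subtype.val hz₀)
    have h1 : π (genericPoint Y) ⤳ genericPoint X := h0 ▸ (genericPoint_specializes z₀.1).map π.continuous
    exact (h1.antisymm (genericPoint_specializes _)).eq
  rw [IsHomeomorph.topologicalKrullDim_eq _ (π.fiberHomeo x).isHomeomorph]
  by_cases hx : x = genericPoint X
  · haveI : Subsingleton ↥(π ⁻¹' {x}) := ⟨fun a b => Subtype.ext (by
      have ha : π a.1 ∈ U := by rw [show π a.1 = x from a.2, hx]; exact hηU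
      have hb : π b.1 ∈ U := by rw [show π b.1 = x from b.2, hx]; exact hηU
      have h : (π ∣_ U) ⟨a.1, ha⟩ = (π ∣_ U) ⟨b.1, hb⟩ := Subtype.ext
        ((morphismRestrict_base_coe π U ⟨a.1, ha⟩).trans
          (((show π a.1 = x from a.2).trans (show π b.1 = x from b.2).symm).trans
            (morphismRestrict_base_coe π U ⟨b.1, hb⟩).symm))
      have h' := congrArg Subtype.val ((π ∣_ U).homeomorph.injective h)
      exact h')⟩
    haveI : DiscreteTopology ↥(π ⁻¹' {x}) := inferInstance
    exact (topologicalKrullDim_zero_of_discreteTopology _).trans (by norm_num)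
  · let S : Set Y := π ⁻¹' closure {x}
    have hgS : genericPoint Y ∉ S := fun h => hx (by
      have h1 : x ⤳ genericPoint X := specializes_iff_mem_closure.2 (hπη ▸ h)
      exact (h1.antisymm (genericPoint_specializes x)).eq)
    have hd : topologicalKrullDim S < ((2 : ℕ) : WithBot ℕ∞) := FreeJ.dim_lt_of_proper (n := 2)
      (by rw [hdimY]; norm_cast) S (isClosed_closure.preimage π.continuous) fun hu => hgS (hu ▸ Set.mem_univ _)
    refine (Topology.IsEmbedding.inclusion (Set.preimage_mono subset_closure)).topologicalKrullDim_le.trans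
      (Order.le_of_lt_succ (hd.trans_le ?_))
    norm_cast

variable (k : Type u) [Field k] {X Y : Scheme.{u}} [X.Over (Spec (CommRingCat.of k))]
  [IsProper (X ↘ Spec (CommRingCat.of k))] [Y.Over (Spec (CommRingCat.of k))]
  [IsProper (Y ↘ Spec (CommRingCat.of k))] [IsIntegral X] [IsIntegral Y]
  (hdimY : topologicalKrullDim Y = 2) (π : Y ⟶ X)
  (hπk : π ≫ (X ↘ Spec (CommRingCat.of k)) = Y ↘ Spec (CommRingCat.of k)) [IsProper π]
  (U : X.Opens) [IsIso (π ∣_ U)] (hηU : genericPoint X ∈ U)
  (hrat : IsZero ((Coh.RpushAb π 1).obj (Coh.toAb (Coh.structureModule Y))))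

include k hdimY hπk hηU hrat in
/-- Closed subschemes of a fibre over a rational singularity have no first cohomology. -/
theorem h1_quot_fibre {x : X} (hx : IsClosed ({x} : Set X)) (I : Y.IdealSheafData)
    (hI : ∀ p ∈ (I.support : Set Y), π p = x) : CurveRR.h k (ClSub.quotMod I) 1 = 0 := by
  haveI := CurveRR.isNoetherian_of_proper k X
  haveI := CurveRR.isNoetherian_of_proper k Y
  have hfib := fibre_dim_le_one hdimY π U hηU
  obtain ⟨hIc, hQc⟩ := CurveRR.isCoh_idealMod I
  haveI : Coh.IsQCoh (ClSub.idealMod I) := hIc.1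
  haveI : Coh.IsQCoh (Coh.structureModule Y) := QC.isQCoh_unit Y
  have hS := (CurveRR.ideal_shortExact I).map_of_exact (CohQC.toAbF Y)
  have hI2 : ∀ q, LocKilled (Opens.grothendieckTopology X) (Opens.map π.base) (Coh.toAb (ClSub.idealMod I)) (q + 2) :=
    fun q => locKilled_of_isZero (Opens.map π.base) (FibVan.isZero_rpushAb π 1 hfib _ (q + 2) (by omega))
  have hO : DirectAcyclic (Opens.grothendieckTopology X) (Opens.map π.base) (Coh.toAb (Coh.structureModule Y)) := by
    rintro (_ | q)
    · exact locKilled_of_isZero (Opens.map π.base) hrat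
    · exact locKilled_of_isZero (Opens.map π.base) (FibVan.isZero_rpushAb π 1 hfib _ (q + 2) (by omega))
  have hQ : DirectAcyclic (Opens.grothendieckTopology X) (Opens.map π.base) (Coh.toAb (ClSub.quotMod I)) :=
    fun q => locKilled_quotient (Opens.map π.base) hS (hI2 q) (hO q)
  obtain ⟨e⟩ := CohFinite.hh_push_linear k π hπk (ClSub.quotMod I) hQ 1
  show Module.finrank k _ = 0
  rw [e.finrank_eq]
  have hsupp : ∀ z ∉ ({x} : Set X), z ∉ CohB1.support ((Scheme.Modules.pushforward π).obj (ClSub.quotMod I)) := by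
    intro z hz
    rw [QC.notMem_support_iff]
    intro W hzW s
    refine ⟨W ⊓ ⟨({x} : Set X)ᶜ, hx.isOpen_compl⟩, inf_le_left, ⟨hzW, hz⟩, ?_⟩
    refine QC.section_eq_of_locally (M := Coh.structureModule I.subscheme) fun w hw => ?_
    have : I.subschemeι w ∈ (I.support : Set Y) := by rw [← I.range_subschemeι]; exact ⟨w, rfl⟩
    exact absurd (hI _ this) hw.2
  have hd0 : topologicalKrullDim ↥({x} : Set X) ≤ 0 := topologicalKrullDim_zero_of_discreteTopology _
  haveI := SuppZero.subsingleton_hh_of_supported hx hd0 _ hsupp 1 le_rfl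
  exact CurveRR.h_eq_zero ‹_›

/-- Integral curves of genus zero over an algebraically closed field are lines. -/
theorem nonempty_iso_projLine [IsAlgClosed k] {C : Scheme.{u}} [C.Over (Spec (CommRingCat.of k))]
    [IsProper (C ↘ Spec (CommRingCat.of k))] [IsIntegral C] (hdim : topologicalKrullDim C = 1)
    (hg : Curv2.genus k C = 0) : Nonempty (C ≅ CohB1.ProjSpace 1 k) := by
  haveI := CurveRR.isNoetherian_of_proper k C
  obtain ⟨P, hP, -, hreg⟩ := CurveRR.exists_closed_regular_mem (k := k) (⊤ : C.Opens) trivial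
  have hI := CurveRR.isInvertible_pointIdeal hdim.le hP (CurveRR.genericPoint_ne_of_closed (k := k) hdim hP) hreg
  obtain ⟨J, hJ, hJd, -⟩ := CurveRR.exists_point_inverse (k := k) hP hI
  obtain ⟨e, -⟩ := DualGeneric.exists_iso_of_deg_one k hdim hg hJ hJd
  exact ⟨e⟩

end Groth.Agent.PlaneBlow
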