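import Groth.Agent.PlaneBlow.RatDivisor
import Groth.Agent.BlowPn.Points

/-!
# Fundamental cycles
-/

set_option autoImplicit false
set_option backward.isDefEq.respectTransparency false
set_option backward.isDefEq.respectTransparency.types false
set_option linter.style.haveILetI false
set_option linter.unusedSectionVars false
set_option maxHeartbeats 1000000

universe u

open CategoryTheory CategoryTheory.Limits AlgebraicGeometry TopologicalSpace

noncomputable section

namespace Groth.Agent.PlaneBlow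

theorem subsingleton_h_mid {k : Type u} [Field k] {X : Scheme.{u}} [X.Over (Spec (CommRingCat.of k))]
    [IsProper (X ↘ Spec (CommRingCat.of k))]
    {S : ShortComplex X.Modules} (hS : S.ShortExact) (q : ℕ) (h₁ : Subsingleton (Coh.HH X S.X₁ q))
    (h₃ : Subsingleton (Coh.HH X S.X₃ q)) : Subsingleton (Coh.HH X S.X₂ q) :=
  subsingleton_of_forall_eq 0 fun x => by
    have hx : x ∈ LinearMap.range (CohFinite.hhMap k S.f q) := by
      rw [CurveRR.range_f_eq_ker_g (k := k) hS q, LinearMap.mem_ker]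
      exact h₃.elim _ _
    obtain ⟨y, rfl⟩ := hx
    rw [h₁.elim y 0, map_zero]

variable {X : Scheme.{u}} (k : Type u) [Field k] [X.Over (Spec (CommRingCat.of k))] [IsProper (X ↘ Spec (CommRingCat.of k))]
  [IsAlgClosed k] [IsIntegral X] [Smooth (X ↘ Spec (CommRingCat.of k))] (hdim : topologicalKrullDim X = 2)
  {r : ℕ} (C : Fin r → X.IdealSheafData) (hCi : ∀ i, IsIntegral (C i).subscheme)
  (hCd : ∀ i, topologicalKrullDim ((C i).support : Set X) = 1)

include k hdim in
theorem euler_mul {I J : X.IdealSheafData} (hI : BlowUp.IsEffCartierIdeal I) (hJ : BlowUp.IsEffCartierIdeal J) :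
    (Curv2.euler k X (ClSub.quotMod (I * J)) : ℚ) = Curv2.euler k X (ClSub.quotMod I) +
      Curv2.euler k X (ClSub.quotMod J) - Nakai.inter k (ClSub.idealMod I) (ClSub.idealMod J) := by
  haveI := CurveRR.isNoetherian_of_proper k X
  obtain ⟨e⟩ := Nakai.nonempty_idealMod_mul hI hJ
  have h := fun D : X.IdealSheafData => CurveRR.euler_add (k := k) (CurveRR.ideal_shortExact D)
    (CurveRR.isCoh_idealMod D).1 RefStalk.isCoh_structureModule (CurveRR.isCoh_idealMod D).2
  have h1 := h I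
  have h2 := h J
  have h3 := h (I * J)
  have h4 := PtPush.euler_tensor k hdim.le (ClSub.idealMod I) (ClSub.idealMod J)
  rw [CurveRR.euler_eq_of_iso (k := k) e] at h4
  dsimp only [ClSub.quotMod] at h1 h2 h3 ⊢
  rw [← SurfAdj.intNum_inter k hdim]
  have : Curv2.euler k X ((Scheme.Modules.pushforward (I * J).subschemeι).obj (Coh.structureModule (I * J).subscheme)) =
      Curv2.euler k X ((Scheme.Modules.pushforward I.subschemeι).obj (Coh.structureModule I.subscheme)) +
      Curv2.euler k X ((Scheme.Modules.pushforward J.subschemeι).obj (Coh.structureModule J.subscheme)) -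
      FGA.intNum k X 2 ![ClSub.idealMod I, ClSub.idealMod J] (Coh.structureModule X) := by omega
  exact_mod_cast this

include hCi in
theorem le_of_genericPoint_mem {J : X.IdealSheafData} (i : Fin r)
    (h : (C i).subschemeι (genericPoint (C i).subscheme) ∈ (J.support : Set X)) : J ≤ C i := by
  haveI := hCi i
  refine (eq_vanishingIdeal_support' (C i)).symm ▸ Scheme.IdealSheafData.le_support_iff_le_vanishingIdeal.1 ?_
  rw [← SetLike.coe_subset_coe, ← Nakai.closure_genericPoint_subscheme]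
  exact closure_minimal (Set.singleton_subset_iff.2 h) J.support.isClosed
where
  eq_vanishingIdeal_support' (D : X.IdealSheafData) [IsReduced D.subscheme] :
      D = Scheme.IdealSheafData.vanishingIdeal D.support := by
    have h := Nakai.ker_eq_vanishingIdeal D.subschemeι
    rwa [Scheme.IdealSheafData.ker_subschemeι] at h

include hdim hCi hCd in
theorem deg_nonpos_of_not_le {J : X.IdealSheafData} (hJ : BlowUp.IsEffCartierIdeal J) (i : Fin r) (h : ¬ J ≤ C i) :
    deg k (C i) (ClSub.idealMod J) ≤ 0 := by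
  haveI := hCi i
  exact Nakai.deg_ideal_nonpos k hJ (C i) (hCd i) fun hm => h (le_of_genericPoint_mem C hCi i hm)

/-- Computation sequences: add a curve meeting the divisor positively. -/
inductive Reach : X.IdealSheafData → Prop
  | base (i : Fin r) : Reach (C i)
  | step {Y : X.IdealSheafData} (i : Fin r) : Reach Y → deg k (C i) (ClSub.idealMod Y) < 0 → Reach (Y * C i)

include hdim hCi hCd in
theorem Reach.props {Y : X.IdealSheafData} (hY : Reach k C Y) :
    BlowUp.IsEffCartierIdeal Y ∧ Y ≠ ⊤ ∧ CurveRR.h k (ClSub.quotMod Y) 0 ≤ 1 ∧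
      Curv2.euler k X (ClSub.quotMod Y) ≤ 1 ∧
      (Curv2.euler k X (ClSub.quotMod Y) = 1 →
        (∀ i, Y ≤ C i → Subsingleton (Coh.HH X (ClSub.quotMod (C i)) 1)) ∧
        ∀ M : X.Modules, PicF.IsInvertible M → (∀ i, 0 ≤ deg k (C i) M) →
          Subsingleton (Coh.HH X (CohB1.tensorMod (ClSub.quotMod Y) M) 1)) := by
  haveI := CurveRR.isNoetherian_of_proper k X
  have hne : ∀ i, C i ≠ ⊤ := fun i h => by
    have h1 := hCd i
    rw [h, Scheme.IdealSheafData.support_top] at h1
    haveI : IsEmpty (IrreducibleCloseds ((⊥ : Closeds X) : Set X)) :=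
      ⟨fun c => c.isIrreducible.nonempty.elim fun x _ => x.2⟩
    rw [show topologicalKrullDim ((⊥ : Closeds X) : Set X) = ⊥ from Order.krullDim_eq_bot] at h1
    exact WithBot.bot_ne_one h1
  have hq0 : ∀ i, CurveRR.h k (ClSub.quotMod (C i)) 0 = 1 := fun i => by
    haveI := hCi i
    letI : (C i).subscheme.Over (Spec (CommRingCat.of k)) := ⟨(C i).subschemeι ≫ (X ↘ Spec (CommRingCat.of k))⟩
    haveI : IsProper ((C i).subscheme ↘ Spec (CommRingCat.of k)) :=
      inferInstanceAs (IsProper ((C i).subschemeι ≫ (X ↘ Spec (CommRingCat.of k))))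
    exact (ConnDiv.h0_quot (k := k) (C i)).trans ConnDiv.h0_structure
  have hq1 : ∀ i, Curv2.euler k X (ClSub.quotMod (C i)) = 1 → Subsingleton (Coh.HH X (ClSub.quotMod (C i)) 1) :=
    fun i h => by
    haveI := hCi i
    haveI : Module.Finite k (Coh.HH X (ClSub.quotMod (C i)) 1) :=
      CohFinite.finite_proper k X _ (CurveRR.isCoh_idealMod _).2 1
    refine (Module.finrank_zero_iff (R := k)).1 ?_
    have he := SurfAdj.euler_eq3 k hdim (ClSub.quotMod (C i))
    rw [CurveRR.h_eq_zero (subsingleton_h2_quot k hdim (Nakai.cartier_of_curve k hdim (C i) (hCd i))), hq0 i] at he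
    show CurveRR.h k (ClSub.quotMod (C i)) 1 = 0
    omega
  induction hY with
  | base i =>
    haveI := hCi i
    refine ⟨Nakai.cartier_of_curve k hdim (C i) (hCd i), hne i, (hq0 i).le,
      SurfAdj.euler_quot_le k hdim (C i) (hCd i), fun h => ⟨fun j hj => ?_, fun M hM hdeg => ?_⟩⟩
    · haveI := hCi j
      have e : C i = C j := by
        refine Nakai.eq_of_genericPoint (Intersect.eq_of_dim (d := 1) ?_ ?_ ?_)
        · rw [specializes_iff_mem_closure, Nakai.closure_genericPoint_subscheme]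
          refine Scheme.IdealSheafData.support_antitone hj ?_
          rw [← SetLike.mem_coe, ← Nakai.closure_genericPoint_subscheme]
          exact subset_closure rfl
        · rw [Nakai.closure_genericPoint_subscheme, hCd i]
          exact le_rfl
        · rw [Nakai.closure_genericPoint_subscheme, hCd j]
          rfl
      rw [← e]
      exact hq1 i h
    · exact subsingleton_h1_quot_tensor k (C i) (hCd i) (hq1 i h) hM ((by norm_num : (-1 : ℤ) ≤ 0).trans (hdeg i))
  | @step Y i _ hlt ih =>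
    obtain ⟨hc, hYt, h0, hχ, hgood⟩ := ih
    haveI := hCi i
    have hC := Nakai.cartier_of_curve k hdim (C i) (hCd i)
    have hIY := (Groth.Agent.S8914.result Y).2 hc
    have hIC := (Groth.Agent.S8914.result (C i)).2 hC
    have hleC := SurfAdj.euler_quot_le k hdim (C i) (hCd i)
    obtain ⟨S, hS, ⟨a₁⟩, a₂, a₃, -⟩ := Castel.exists_shortExact_restrict hc hC (le_mul_right' Y (C i))
    have e₂ : ClSub.quotMod (Y * C i) ≅ S.X₂ :=
      eqToIso (congrArg (ClSub.quotMod (X := X)) (mul_comm Y (C i))) ≪≫ a₂.symm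
    let b₁ : S.X₁ ≅ CohB1.tensorMod (ClSub.quotMod (C i)) (ClSub.idealMod Y) := a₁ ≪≫ TMul.commIso _ _
    have hχq := euler_mul k hdim hc hC
    have hd := deg_eq_inter k hdim (C i) (hCd i) hIY
    rw [Nakai.inter_comm k (ClSub.idealMod Y)] at hχq
    have hsum : Curv2.euler k X (ClSub.quotMod (Y * C i)) = Curv2.euler k X (ClSub.quotMod Y) +
        Curv2.euler k X (ClSub.quotMod (C i)) + deg k (C i) (ClSub.idealMod Y) := by
      have h : (Curv2.euler k X (ClSub.quotMod (Y * C i)) : ℚ) = ((Curv2.euler k X (ClSub.quotMod Y) +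
        Curv2.euler k X (ClSub.quotMod (C i)) + deg k (C i) (ClSub.idealMod Y) : ℤ) : ℚ) := by
        push_cast at hd ⊢
        linarith
      exact_mod_cast h
    refine ⟨BlowUpLib.cartier_mul hc hC, fun h => hYt (top_le_iff.1 (h.ge.trans (fun U => by
        rw [Scheme.IdealSheafData.ideal_mul, Pi.mul_apply]; exact Ideal.mul_le_left))), ?_, by omega,
      fun h1 => ?_⟩
    · rw [CurveRR.h_eq_of_iso e₂]
      have h₁ : Coh.IsCoh S.X₁ := QuotProj.isCoh_of_iso b₁.symm (CurveRR.isCoh_tensor' (CurveRR.isCoh_idealMod (C i)).2 (CurveRR.isCoh_of_inv hIY))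
      have h₂ : Coh.IsCoh S.X₂ := QuotProj.isCoh_of_iso a₂.symm (CurveRR.isCoh_idealMod _).2
      have h₃ : Coh.IsCoh S.X₃ := QuotProj.isCoh_of_iso a₃.symm (CurveRR.isCoh_idealMod _).2
      refine (Nakai.h0_middle k hS h₁ h₂ h₃).trans ?_
      rw [CurveRR.h_eq_of_iso b₁, h0_quot_eq_zero k (C i) (hCd i) hIY hlt, zero_add, CurveRR.h_eq_of_iso a₃]
      exact h0
    obtain ⟨hcomp, htw⟩ := hgood (by omega)
    have hCi1 : Subsingleton (Coh.HH X (ClSub.quotMod (C i)) 1) := hq1 i (by omega)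
    refine ⟨fun j hj => ?_, fun M hM hdeg => ?_⟩
    · haveI := hCi j
      have hm : (C j).subschemeι (genericPoint (C j).subscheme) ∈ ((Y * C i).support : Set X) := by
        refine Scheme.IdealSheafData.support_antitone hj ?_
        rw [← SetLike.mem_coe, ← Nakai.closure_genericPoint_subscheme]
        exact subset_closure rfl
      rw [Scheme.IdealSheafData.support_mul, TopologicalSpace.Closeds.coe_sup] at hm
      rcases hm with hm | hm
      · exact hcomp j (le_of_genericPoint_mem C hCi j hm)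
      · have e : C i = C j := by
          refine Nakai.eq_of_genericPoint (Intersect.eq_of_dim (d := 1) ?_ ?_ ?_)
          · rw [specializes_iff_mem_closure, Nakai.closure_genericPoint_subscheme]
            exact hm
          · rw [Nakai.closure_genericPoint_subscheme, hCd i]
            exact le_rfl
          · rw [Nakai.closure_genericPoint_subscheme, hCd j]
            rfl
        rw [← e]
        exact hCi1
    · have hT := CohFinite.shortExact_tmap hM hS
      have hJ := TMul.isInvertible_tensorMod hIY hM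
      have hdJ : -1 ≤ deg k (C i) (CohB1.tensorMod (ClSub.idealMod Y) M) := by
        have h2 := deg_eq_inter k hdim (C i) (hCd i) hJ
        rw [Nakai.inter_tensor_right k hdim.le hIY hM hIC] at h2
        have h3 := deg_eq_inter k hdim (C i) (hCd i) hM
        have h4 : deg k (C i) (CohB1.tensorMod (ClSub.idealMod Y) M) = deg k (C i) (ClSub.idealMod Y) + deg k (C i) M := by
          have : (deg k (C i) (CohB1.tensorMod (ClSub.idealMod Y) M) : ℚ) =
              ((deg k (C i) (ClSub.idealMod Y) + deg k (C i) M : ℤ) : ℚ) := by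
            push_cast at hd h2 h3 ⊢
            linarith
          exact_mod_cast this
        have := hdeg i
        omega
      have hq := subsingleton_h1_quot_tensor k (C i) (hCd i) hCi1 hJ hdJ
      have hs₁ : Subsingleton (Coh.HH X (CohB1.tensorMod S.X₁ M) 1) :=
        (ExtShX.hhIso (A := k) (PicGrp.tensorModIso b₁ (Iso.refl M) ≪≫ TMul.assocIso _ _ _) 1).toEquiv.subsingleton
      have hw := htw M hM hdeg
      have hs₃ : Subsingleton (Coh.HH X (CohB1.tensorMod S.X₃ M) 1) :=
        (ExtShX.hhIso (A := k) (PicGrp.tensorModIso a₃ (Iso.refl M)) 1).toEquiv.subsingleton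
      have hs₂ := subsingleton_h_mid (k := k) hT 1 hs₁ hs₃
      exact (ExtShX.hhIso (A := k) (PicGrp.tensorModIso e₂ (Iso.refl M)) 1).toEquiv.subsingleton

variable {Z₀ : X.IdealSheafData} (hZ₀ : BlowUp.IsEffCartierIdeal Z₀) (hZ₀0 : Z₀ ≠ ⊤)
  (hZ₀s : (Z₀.support : Set X) ⊆ ⋃ i, ((C i).support : Set X))
  (hZ₀C : ∀ i, 0 ≤ deg k (C i) (ClSub.idealMod Z₀))
  (hZ₀min : ∀ Z : X.IdealSheafData, BlowUp.IsEffCartierIdeal Z → Z ≠ ⊤ → (Z.support : Set X) ⊆ ⋃ i, ((C i).support : Set X) →
    (∀ i, 0 ≤ deg k (C i) (ClSub.idealMod Z)) → Z ≤ Z₀)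

include k hdim hCi hCd hZ₀ hZ₀0 hZ₀s in
theorem exists_component : ∃ i, Z₀ ≤ C i := by
  obtain ⟨p, hp⟩ : (Z₀.support : Set X).Nonempty := by
    by_contra he
    rw [Set.not_nonempty_iff_eq_empty] at he
    exact hZ₀0 ((Scheme.IdealSheafData.support_eq_bot_iff Z₀).1 (Closeds.ext he))
  obtain ⟨C', hC'i, hC'1, hle, -, -⟩ := exists_curve k hdim hZ₀ hp
  haveI := hC'i
  have hm : C'.subschemeι (genericPoint C'.subscheme) ∈ (C'.support : Set X) := by
    rw [← Nakai.closure_genericPoint_subscheme]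
    exact subset_closure rfl
  obtain ⟨i, hi⟩ := Set.mem_iUnion.1 (hZ₀s (Scheme.IdealSheafData.support_antitone hle hm))
  haveI := hCi i
  refine ⟨i, hle.trans (le_of_eq (Nakai.eq_of_genericPoint (Intersect.eq_of_dim (d := 1)
    (y := (C i).subschemeι (genericPoint (C i).subscheme)) ?_ ?_ ?_).symm))⟩
  · rw [specializes_iff_mem_closure, Nakai.closure_genericPoint_subscheme]
    exact hi
  · rw [Nakai.closure_genericPoint_subscheme, hCd i]
    exact le_rfl
  · rw [Nakai.closure_genericPoint_subscheme, hC'1]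
    rfl

include hdim hCi hCd hZ₀ hZ₀0 hZ₀s hZ₀C hZ₀min in
/-- A computation sequence ends at the fundamental cycle. -/
theorem reach_fundamental : Reach k C Z₀ := by
  haveI := CurveRR.isNoetherian_of_proper k X
  haveI := Groth.Agent.S4362.result X
  obtain ⟨i₀, hi₀⟩ := exists_component k hdim C hCi hCd hZ₀ hZ₀0 hZ₀s
  haveI := hCi i₀
  obtain ⟨J₀, hJ₀, hJ₀c, -⟩ := exists_div k hdim (hCd i₀) hZ₀ (Nakai.cartier_of_curve k hdim (C i₀) (hCd i₀)) hi₀
  let T : Set X.IdealSheafData := {J | BlowUp.IsEffCartierIdeal J ∧ ∃ Y, Reach k C Y ∧ Z₀ = Y * J}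
  have hT : T.Nonempty := ⟨J₀, hJ₀c, C i₀, .base i₀, hJ₀.trans (mul_comm _ _)⟩
  obtain ⟨J, ⟨hJ, Y, hY, hZY⟩, hmax⟩ := (wellFounded_gt (α := X.IdealSheafData)).has_min T hT
  obtain ⟨hYc, hYt, -⟩ := hY.props k hdim C hCi hCd
  have hIY := (Groth.Agent.S8914.result Y).2 hYc
  have hIJ := (Groth.Agent.S8914.result J).2 hJ
  obtain ⟨e⟩ := Nakai.nonempty_idealMod_mul hYc hJ
  have hadd : ∀ i, deg k (C i) (ClSub.idealMod Z₀) = deg k (C i) (ClSub.idealMod Y) + deg k (C i) (ClSub.idealMod J) := by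
    intro i
    haveI := hCi i
    have hIC := SurfAdj.inv_ideal k hdim (C i) (hCd i)
    have h1 := deg_eq_inter k hdim (C i) (hCd i) hIY
    have h2 := deg_eq_inter k hdim (C i) (hCd i) hIJ
    have h3 := deg_eq_inter k hdim (C i) (hCd i) (TMul.isInvertible_tensorMod hIY hIJ)
    rw [Nakai.inter_tensor_right k hdim.le hIY hIJ hIC] at h3
    have h4 : deg k (C i) (CohB1.tensorMod (ClSub.idealMod Y) (ClSub.idealMod J)) = deg k (C i) (ClSub.idealMod Z₀) := by
      simp only [deg, hZY, CurveRR.euler_eq_of_iso (k := k) (PicGrp.tensorModIso (Iso.refl (ClSub.quotMod (C i))) e)]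
    rw [← h4]
    have h5 : (deg k (C i) (CohB1.tensorMod (ClSub.idealMod Y) (ClSub.idealMod J)) : ℚ) =
        ((deg k (C i) (ClSub.idealMod Y) + deg k (C i) (ClSub.idealMod J) : ℤ) : ℚ) := by
      push_cast at h1 h2 h3 ⊢
      linarith
    exact_mod_cast h5
  by_cases hall : ∀ i, 0 ≤ deg k (C i) (ClSub.idealMod Y)
  · have hle : Z₀ ≤ Y := hZY.trans_le (fun U => by
      rw [Scheme.IdealSheafData.ideal_mul, Pi.mul_apply]; exact Ideal.mul_le_left)
    have hle' : Y ≤ Z₀ := hZ₀min Y hYc hYt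
      (subset_trans (SetLike.coe_subset_coe.2 (Scheme.IdealSheafData.support_antitone hle)) hZ₀s) hall
    rwa [le_antisymm hle hle']
  · push Not at hall
    obtain ⟨i, hi⟩ := hall
    haveI := hCi i
    have hJi : J ≤ C i := by
      by_contra h
      have h1 := deg_nonpos_of_not_le k hdim C hCi hCd hJ i h
      have h2 := hadd i
      have h3 := hZ₀C i
      omega
    obtain ⟨J', hJ', hJ'c, hlt⟩ := exists_div k hdim (hCd i) hJ (Nakai.cartier_of_curve k hdim (C i) (hCd i)) hJi
    exact absurd hlt (hmax J' ⟨hJ'c, Y * C i, .step i hY hi, by rw [hZY, hJ', mul_assoc, mul_comm J' (C i)]⟩)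

variable (hconn : ∀ S : Finset (Fin r), S.Nonempty → Sᶜ.Nonempty →
    ∃ i ∈ S, ∃ j ∈ Sᶜ, FGA.intNum k X 2 ![(ClSub.idealMod (C i)), (ClSub.idealMod (C j))] (Coh.structureModule X) ≠ 0)

include hdim hCi hCd hZ₀ hZ₀0 hZ₀s hZ₀C hconn in
/-- The fundamental cycle contains every curve. -/
theorem fundamental_le (i : Fin r) : Z₀ ≤ C i := by
  classical
  let S : Finset (Fin r) := Finset.univ.filter fun i => Z₀ ≤ C i
  by_contra hnot
  obtain ⟨i₀, hi₀⟩ := exists_component k hdim C hCi hCd hZ₀ hZ₀0 hZ₀s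
  obtain ⟨a, ha, b, hb, hab⟩ := hconn S ⟨i₀, Finset.mem_filter.2 ⟨Finset.mem_univ _, hi₀⟩⟩
    ⟨i, by simp [S, hnot]⟩
  have hae : Z₀ ≤ C a := (Finset.mem_filter.1 ha).2
  have hbn : ¬ Z₀ ≤ C b := fun h => Finset.mem_compl.1 hb (Finset.mem_filter.2 ⟨Finset.mem_univ _, h⟩)
  haveI := hCi a
  haveI := hCi b
  have hne : C a ≠ C b := fun h => hbn (h ▸ hae)
  have hpos := Nakai.intNum_off_nonneg k hdim (hCd a) (hCd b) hne
  have hCa := Nakai.cartier_of_curve k hdim (C a) (hCd a)
  obtain ⟨Z', hZ', hZ'c, hlt⟩ := exists_div k hdim (hCd a) hZ₀ hCa hae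
  have h1 := deg_nonpos_of_not_le k hdim C hCi hCd hZ'c b fun h => hbn (hlt.le.trans h)
  obtain ⟨e⟩ := Nakai.nonempty_idealMod_mul hZ'c hCa
  have hI' := (Groth.Agent.S8914.result Z').2 hZ'c
  have hIa := (Groth.Agent.S8914.result (C a)).2 hCa
  have hIb := SurfAdj.inv_ideal k hdim (C b) (hCd b)
  have g0 := deg_eq_inter k hdim (C b) (hCd b) ((Groth.Agent.S8914.result Z₀).2 hZ₀)
  have g1 := deg_eq_inter k hdim (C b) (hCd b) hI'
  rw [Nakai.inter_comm, hZ', Nakai.inter_iso k ((PicGrp.cl_eq_cl_iff _ _).2 ⟨e.symm⟩),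
    Nakai.inter_tensor k hdim.le hI' hIa hIb, Nakai.inter_comm k (ClSub.idealMod Z'), ← hZ',
    ← SurfAdj.intNum_inter k hdim (A := ClSub.idealMod (C a))] at g0
  have g2 : (1 : ℚ) ≤ (FGA.intNum k X 2 ![ClSub.idealMod (C a), ClSub.idealMod (C b)] (Coh.structureModule X) : ℚ) := by
    exact_mod_cast (show (1 : ℤ) ≤ _ from by omega)
  have g3 : (0 : ℚ) ≤ (deg k (C b) (ClSub.idealMod Z₀) : ℚ) := by exact_mod_cast hZ₀C b
  have g4 : (deg k (C b) (ClSub.idealMod Z') : ℚ) ≤ 0 := by exact_mod_cast h1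
  linarith

include hdim hCi hCd hZ₀ hZ₀0 hZ₀s hZ₀C hZ₀min in
/-- `χ = 1` on the fundamental cycle gives `H¹ = 0` on its non-negative twists. -/
theorem subsingleton_h1_twist (h : Curv2.euler k X (ClSub.quotMod Z₀) = 1) {M : X.Modules} (hM : PicF.IsInvertible M)
    (hdeg : ∀ i, 0 ≤ deg k (C i) M) : Subsingleton (Coh.HH X (CohB1.tensorMod (ClSub.quotMod Z₀) M) 1) :=
  (((reach_fundamental k hdim C hCi hCd hZ₀ hZ₀0 hZ₀s hZ₀C hZ₀min).props k hdim C hCi hCd).2.2.2.2 h).2 M hM hdeg

include hdim hCi hCd hZ₀C in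
theorem deg_pow_nonneg (i : Fin r) (n : ℕ) (hZ₀' : BlowUp.IsEffCartierIdeal Z₀) :
    0 ≤ deg k (C i) (CohB1.tensorPow (ClSub.idealMod Z₀) n) := by
  haveI := hCi i
  have hI := (Groth.Agent.S8914.result Z₀).2 hZ₀'
  have h1 := deg_eq_inter k hdim (C i) (hCd i) (TMul.isInvertible_tensorPow hI n)
  rw [Nakai.inter_pow_right k hdim.le hI (SurfAdj.inv_ideal k hdim (C i) (hCd i))] at h1
  have h2 := deg_eq_inter k hdim (C i) (hCd i) hI
  have h3 : (0 : ℚ) ≤ (deg k (C i) (ClSub.idealMod Z₀) : ℚ) := by exact_mod_cast hZ₀C i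
  have h4 : (0 : ℚ) ≤ (n : ℚ) := Nat.cast_nonneg n
  have h5 : (0 : ℚ) ≤ (deg k (C i) (CohB1.tensorPow (ClSub.idealMod Z₀) n) : ℚ) := by
    simp only [deg] at h1 h2 h3 ⊢
    rw [h1]
    rw [h2] at h3
    nlinarith
  exact_mod_cast h5

include k in
theorem exists_pow_le {Z W : X.IdealSheafData} (h : (Z.support : Set X) ⊆ W.support) : ∃ n : ℕ, W ^ n ≤ Z := by
  haveI := CurveRR.isNoetherian_of_proper k X
  have hr : W.radical ≤ Z.radical := by
    rw [← Scheme.IdealSheafData.vanishingIdeal_support, ← Scheme.IdealSheafData.vanishingIdeal_support]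
    exact Scheme.IdealSheafData.vanishingIdeal_antimono h
  have hU : ∀ U : X.affineOpens, ∃ n : ℕ, W.ideal U ^ n ≤ Z.ideal U := fun U => by
    haveI := IsLocallyNoetherian.component_noetherian U
    obtain ⟨n, hn⟩ := Ideal.exists_pow_le_of_le_radical_of_fg ((Ideal.le_radical).trans (hr U))
      (IsNoetherian.noetherian (W.ideal U))
    exact ⟨n, hn⟩
  choose n hn using hU
  obtain ⟨t, ht⟩ := (CompactSpace.isCompact_univ (X := X)).elim_finite_subcover
    (fun U : X.affineOpens => ((U : X.Opens) : Set X)) (fun U => (U : X.Opens).2) fun x _ => by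
      obtain ⟨U, hU, hxU, -⟩ := exists_isAffineOpen_mem_and_subset (x := x) (U := ⊤) trivial
      exact Set.mem_iUnion.2 ⟨⟨U, hU⟩, hxU⟩
  refine ⟨t.sup n, Scheme.IdealSheafData.le_of_iSup_eq_top (fun U : t => U.1) (eq_top_iff.2 fun x _ => ?_) fun U => ?_⟩
  · obtain ⟨U, hUt, hxU⟩ := Set.mem_iUnion₂.1 (ht (Set.mem_univ x))
    exact Opens.mem_iSup.2 ⟨⟨U, hUt⟩, hxU⟩
  · rw [Scheme.IdealSheafData.ideal_pow, Pi.pow_apply]
    exact (Ideal.pow_le_pow_right (Finset.le_sup U.2)).trans (hn _)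

include hdim in
theorem surjective_h1_quotMap {A B : X.IdealSheafData} (hA : BlowUp.IsEffCartierIdeal A) (h : A ≤ B) :
    Function.Surjective (CohFinite.hhMap k (Lef.quotMap h) 1) := by
  haveI := CurveRR.isNoetherian_of_proper k X
  haveI : Epi (ClSub.toSubscheme B) := (CurveRR.ideal_shortExact B).epi_g
  haveI : Epi (ClSub.toSubscheme A ≫ Lef.quotMap h) := by rw [LefFEt.toSub_quotMap]; infer_instance
  haveI : Epi (Lef.quotMap h) := epi_of_epi (ClSub.toSubscheme A) _
  refine H1Triv.surjective_of_h_next k (W7Proj.shortExact_kernel (Lef.quotMap h)) 1 ?_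
  have hgen : genericPoint X ∉ (A.support : Set X) := W7Fib.genericPoint_notMem_support fun hbot => by
    obtain ⟨U, hxU, a, ha, he⟩ := hA (genericPoint X)
    haveI : Nonempty U.1 := ⟨⟨_, hxU⟩⟩
    rw [hbot, Scheme.IdealSheafData.ideal_bot, Pi.bot_apply, eq_comm, Ideal.span_singleton_eq_bot] at he
    exact zero_notMem_nonZeroDivisors (he ▸ ha)
  refine Nakai.subsingleton_of_support_le k 1
    (QC.isCoh_kernel (CurveRR.isCoh_idealMod A).2 (CurveRR.isCoh_idealMod B).2.1 _) ?_ 2 one_lt_two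
  refine (Topology.IsEmbedding.inclusion ((Devissage.support_subset_of_mono (kernel.ι (Lef.quotMap h))).trans
    (CurveRR.support_quotMod A))).topologicalKrullDim_le.trans ?_
  refine Order.le_of_lt_succ ?_
  refine (FreeJ.dim_lt_of_proper (n := 2) (by rw [hdim]; norm_cast) _ A.support.isClosed
    fun hu => hgen (hu ▸ Set.mem_univ _)).trans_le ?_
  norm_cast

include hdim hCi hCd hZ₀ hZ₀0 hZ₀s hZ₀C hZ₀min hconn in
/-- Artin: `χ(O_{Z₀}) = 1` makes the configuration rational. -/
theorem rational_of_euler_one (h : Curv2.euler k X (ClSub.quotMod Z₀) = 1) (Z : X.IdealSheafData)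
    (hZs : (Z.support : Set X) ⊆ ⋃ i, ((C i).support : Set X)) : Subsingleton (Coh.HH X (ClSub.quotMod Z) 1) := by
  haveI := CurveRR.isNoetherian_of_proper k X
  have hpow : ∀ n : ℕ, Subsingleton (Coh.HH X (ClSub.quotMod (Z₀ ^ n)) 1) := by
    intro n
    induction n with
    | zero => rw [pow_zero, Scheme.IdealSheafData.one_eq_top]; exact subsingleton_quot_top k 1 one_pos
    | succ n ih =>
      obtain ⟨hn, ⟨e⟩⟩ := BlowPn.nonempty_pow hZ₀ n
      obtain ⟨S, hS, ⟨a₁⟩, a₂, a₃, -⟩ := Castel.exists_shortExact_restrict hn hZ₀ (le_mul_right' (Z₀ ^ n) Z₀)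
      have hP := TMul.isInvertible_tensorPow ((Groth.Agent.S8914.result Z₀).2 hZ₀) n
      have ht := subsingleton_h1_twist k hdim C hCi hCd hZ₀ hZ₀0 hZ₀s hZ₀C hZ₀min h hP
        fun i => deg_pow_nonneg k hdim C hCi hCd hZ₀C i n hZ₀
      have hs₁ : Subsingleton (Coh.HH X S.X₁ 1) := (ExtShX.hhIso (A := k)
        (a₁ ≪≫ TMul.commIso _ _ ≪≫ PicGrp.tensorModIso (Iso.refl _) e.symm) 1).toEquiv.subsingleton
      have hs₃ : Subsingleton (Coh.HH X S.X₃ 1) := (ExtShX.hhIso (A := k) a₃ 1).toEquiv.subsingleton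
      have hs₂ := subsingleton_h_mid (k := k) hS 1 hs₁ hs₃
      exact (ExtShX.hhIso (A := k)
        (a₂ ≪≫ eqToIso (congrArg (ClSub.quotMod (X := X)) (pow_succ' Z₀ n).symm)) 1).symm.toEquiv.subsingleton
  have hsupp : (Z.support : Set X) ⊆ Z₀.support := fun x hx => by
    obtain ⟨i, hi⟩ := Set.mem_iUnion.1 (hZs hx)
    exact Scheme.IdealSheafData.support_antitone
      (fundamental_le k hdim C hCi hCd hZ₀ hZ₀0 hZ₀s hZ₀C hconn i) hi
  obtain ⟨n, hn⟩ := exists_pow_le k hsupp
  haveI := hpow n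
  exact (surjective_h1_quotMap k hdim (BlowPn.nonempty_pow hZ₀ n).1 hn).subsingleton

include hdim hCi hCd hZ₀ hZ₀0 hZ₀s hZ₀C hZ₀min in
theorem euler_one_of_h1 (h : Subsingleton (Coh.HH X (ClSub.quotMod Z₀) 1)) :
    Curv2.euler k X (ClSub.quotMod Z₀) = 1 :=
  le_antisymm ((reach_fundamental k hdim C hCi hCd hZ₀ hZ₀0 hZ₀s hZ₀C hZ₀min).props k hdim C hCi hCd).2.2.2.1
    (one_le_euler_of_h1 k hdim hZ₀ hZ₀0 h)

include k hdim in
theorem euler_quot_twist' {Z : X.IdealSheafData} (_hZ : BlowUp.IsEffCartierIdeal Z) {M : X.Modules}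
    (hM : PicF.IsInvertible M) : Curv2.euler k X (CohB1.tensorMod (ClSub.quotMod Z) M) =
      Curv2.euler k X (ClSub.quotMod Z) -
        FGA.intNum k X 2 ![ClSub.idealMod Z, M] (Coh.structureModule X) := by
  haveI := CurveRR.isNoetherian_of_proper k X
  have hc := CurveRR.isCoh_of_inv hM
  have h := CurveRR.euler_add (k := k) (CohFinite.shortExact_tmap hM (CurveRR.ideal_shortExact Z))
    (CurveRR.isCoh_tensor' (CurveRR.isCoh_idealMod Z).1 hc) (CurveRR.isCoh_tensor' RefStalk.isCoh_structureModule hc)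
    (CurveRR.isCoh_tensor' (CurveRR.isCoh_idealMod Z).2 hc)
  have h2 := CurveRR.euler_add (k := k) (CurveRR.ideal_shortExact Z) (CurveRR.isCoh_idealMod Z).1
    RefStalk.isCoh_structureModule (CurveRR.isCoh_idealMod Z).2
  have h3 := PtPush.euler_tensor k hdim.le (ClSub.idealMod Z) M
  dsimp only [ClSub.quotMod] at h h2 ⊢
  rw [CurveRR.euler_eq_of_iso (k := k) (TMul.leftUnitIso M)] at h
  omega

include k hdim in
theorem subsingleton_h2_twist {Z : X.IdealSheafData} (hZ : BlowUp.IsEffCartierIdeal Z) {M : X.Modules}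
    (hM : PicF.IsInvertible M) : Subsingleton (Coh.HH X (CohB1.tensorMod (ClSub.quotMod Z) M) 2) := by
  haveI := CurveRR.isNoetherian_of_proper k X
  have hgen : genericPoint X ∉ (Z.support : Set X) := W7Fib.genericPoint_notMem_support fun hbot => by
    obtain ⟨U, hxU, a, ha, he⟩ := hZ (genericPoint X)
    haveI : Nonempty U.1 := ⟨⟨_, hxU⟩⟩
    rw [hbot, Scheme.IdealSheafData.ideal_bot, Pi.bot_apply, eq_comm, Ideal.span_singleton_eq_bot] at he
    exact zero_notMem_nonZeroDivisors (he ▸ ha)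
  refine Nakai.subsingleton_of_support_le k 1 (CurveRR.isCoh_tensor' (CurveRR.isCoh_idealMod Z).2 (CurveRR.isCoh_of_inv hM))
    ((Topology.IsEmbedding.inclusion (Intersect.support_tensor_subset Z.support.isClosed
      (CurveRR.support_quotMod Z) M)).topologicalKrullDim_le.trans ?_) 2 one_lt_two
  refine Order.le_of_lt_succ ?_
  refine (FreeJ.dim_lt_of_proper (n := 2) (by rw [hdim]; norm_cast) _ Z.support.isClosed
    fun hu => hgen (hu ▸ Set.mem_univ _)).trans_le ?_
  norm_cast

end Groth.Agent.PlaneBlow
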