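import Groth.Agent.PlaneBlow.CurveSub
import Groth.Agent.AbelMap.Section
import Groth.Agent.HypSec.SmoothProj
import Groth.Agent.LefZero.Inverse
import Groth.Agent.NegTwist.Connected

/-!
# A smooth connected curve in a very ample system on a surface
-/

set_option autoImplicit false
set_option backward.isDefEq.respectTransparency false
set_option backward.isDefEq.respectTransparency.types false
set_option linter.style.haveILetI false
set_option linter.unusedSectionVars false

universe u

open CategoryTheory CategoryTheory.Limits AlgebraicGeometry TopologicalSpace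

noncomputable section

namespace Groth.Agent.PlaneBlow

variable (k : Type u) [Field k] [IsAlgClosed k] {X : Scheme.{u}} [X.Over (Spec (CommRingCat.of k))]
  [IsIntegral X] [IsProper (X ↘ Spec (CommRingCat.of k))] [Smooth (X ↘ Spec (CommRingCat.of k))]
  (hdim : topologicalKrullDim X = 2)

include k hdim in
theorem two_le_depth (x : X) (hx : IsClosed ({x} : Set X)) :
    2 ≤ LocCoh.depth (X.presheaf.stalk x) (X.presheaf.stalk x) := by
  haveI := SurfAdj.smooth2 k hdim
  obtain ⟨hcm, hd⟩ := ExtFund.cm_dim_of_smooth (X ↘ Spec (CommRingCat.of k)) 2 x hx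
  have h := hcm.supportDim_eq_depth
  rw [Module.supportDim_self_eq_ringKrullDim, hd] at h
  exact (WithBot.coe_le_coe.1 h.le : ((2 : ℕ) : ℕ∞) ≤ _)

include hdim in
theorem exists_integral_curve {D : X.Modules} {N : ℕ} (ι : X ⟶ CohB1.ProjSpace N k) [IsClosedImmersion ι]
    (hι : ι ≫ CohB1.ProjSpace.toSpec N k = X ↘ Spec (CommRingCat.of k))
    (e : (Scheme.Modules.pullback ι).obj (Twist.twistProjSpace N k 1) ≅ D) :
    ∃ C : X.IdealSheafData, IsIntegral C.subscheme ∧ topologicalKrullDim (C.support : Set X) = 1 ∧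
      Nonempty (CohB1.tensorMod (ClSub.idealMod C) D ≅ Coh.structureModule X) := by
  haveI := CurveRR.isNoetherian_of_proper k X
  haveI : Smooth (ι ≫ CohB1.ProjSpace.toSpec N k) := hι ▸ inferInstance
  obtain ⟨s, ⟨x, hx⟩, hsm⟩ := HypSec.exists_smooth_section ι
  have hinv := CohFinite.isInvertible_twist N k 1
  have hP : PicF.IsInvertible ((Scheme.Modules.pullback ι).obj (Twist.twistProjSpace N k 1)) :=
    PicLoc.isInvertible_pullback ι hinv
  have hamp : CohB1.IsAmple ((Scheme.Modules.pullback ι).obj (Twist.twistProjSpace N k 1)) :=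
    TMul.isAmple_pullback_of_isAffineHom ι (Groth.Agent.Intersect.isAmple_twistProj_one N k)
  let t := AbelMap.pullSec ι s
  have hZ := AbelMap.zeroScheme_pullSec ι hinv s
  have hxg : x ∈ CohB1.genLocus ((Scheme.Modules.pullback ι).obj (Twist.twistProjSpace N k 1)) t := by
    by_contra hc
    refine hx ?_
    have h1 : x ∈ ((PicF2.zeroScheme _ t).support : Set X) := by
      rw [NegTwist.coe_support_zeroScheme hP t]; exact hc
    rw [hZ, Scheme.IdealSheafData.support_comap] at h1
    exact h1
  have ht : t ≠ 0 := fun h0 => by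
    rw [h0] at hxg
    obtain ⟨U, g, hxU, hgen⟩ := TMul.exists_isGen hP x
    have hu := (TMul.mem_genLocus_iff_isUnit (0 : Coh.structureModule X ⟶ _) hgen (c := 0)
      ((zero_smul _ g).symm) hxU).1 hxg
    rw [map_zero] at hu
    exact not_isUnit_zero hu
  haveI : Mono t := CurveRR.mono_of_ne_zero TMul.isInvertible_structureModule hP t ht
  obtain ⟨-, ⟨hinvof⟩⟩ := LefZero.isInverseOf_zeroScheme hP t
  let C := PicF2.zeroScheme ((Scheme.Modules.pullback ι).obj (Twist.twistProjSpace N k 1)) t
  haveI : ConnectedSpace C.subscheme :=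
    NegTwist.connectedSpace_zeroScheme k _ hamp t (two_le_depth k hdim)
  letI : C.subscheme.Over (Spec (CommRingCat.of k)) := ⟨C.subschemeι ≫ (X ↘ Spec (CommRingCat.of k))⟩
  haveI : IsProper (C.subscheme ↘ Spec (CommRingCat.of k)) :=
    inferInstanceAs (IsProper (C.subschemeι ≫ (X ↘ Spec (CommRingCat.of k))))
  haveI : Smooth (C.subscheme ↘ Spec (CommRingCat.of k)) := by
    haveI := hsm
    show Smooth (C.subschemeι ≫ (X ↘ Spec (CommRingCat.of k)))
    rw [show C = (PicF2.zeroScheme (Twist.twistProjSpace N k 1) s).comap ι from hZ,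
      ← Scheme.IdealSheafData.comapIso_hom_fst _ ι, Category.assoc, ← hι]
    exact MorphismProperty.comp_mem _ _ _ inferInstance hsm
  haveI : IsIntegral C.subscheme := Nakai.isIntegral_of_smooth_connected k
  refine ⟨C, inferInstance, ?_, ⟨PicGrp.tensorModIso (Iso.refl _) e.symm ≪≫ TMul.commIso _ _ ≪≫ hinvof⟩⟩
  rcases Intersect.coker_section_cases k hdim hP t with h | h
  · exfalso
    haveI := h
    have hpos := Nakai.inter_self_pos k hdim.le hamp (by rw [hdim]; norm_cast)
    rw [Nakai.inter_iso k ((PicGrp.cl_eq_cl_iff _ _).2 ⟨(asIso t).symm⟩), Nakai.inter_one] at hpos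
    exact lt_irrefl _ hpos
  · rwa [Intersect.support_coker_section hP t, ← NegTwist.coe_support_zeroScheme hP t] at h

end Groth.Agent.PlaneBlow
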