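import Groth.Agent.PlaneBlow.CurveSub
import Groth.Agent.Castel.StepDiv
import Groth.Agent.PtPush.StrictIdeal
import Groth.Agent.SurfAmple.Main
import Groth.Agent.CurveRR.Point
import Groth.Agent.S4362
import Groth.Agent.LefFEt.Pair
import Groth.Agent.RatBlow.Modif
import Groth.Agent.QDescent.Adjoint

/-!
# Ramanujam's lemma on numerically connected divisors
-/

set_option autoImplicit false
set_option backward.isDefEq.respectTransparency false
set_option backward.isDefEq.respectTransparency.types false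
set_option linter.style.haveILetI false
set_option linter.unusedSectionVars false
set_option maxHeartbeats 1000000

universe u

open CategoryTheory CategoryTheory.Limits AlgebraicGeometry TopologicalSpace Opposite
open Groth.Agent.CohFinite (tmap tmap_tm tmap_comp)
open Groth.Agent.QC (res res_self app_res res_res)

noncomputable section

namespace Groth.Agent.PlaneBlow

variable {X : Scheme.{u}}

/-- restriction of twisted functions on subschemes -/
def q (L : X.Modules) {I J : X.IdealSheafData} (h : I ≤ J) :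
    CohB1.tensorMod (ClSub.quotMod I) L ⟶ CohB1.tensorMod (ClSub.quotMod J) L :=
  tmap (Lef.quotMap h) L

theorem quotMap_comp {I J K : X.IdealSheafData} (h : I ≤ J) (h' : J ≤ K) :
    Lef.quotMap h ≫ Lef.quotMap h' = Lef.quotMap (h.trans h') := by
  haveI : Epi (ClSub.toSubscheme I) := (CurveRR.ideal_shortExact I).epi_g
  rw [← cancel_epi (ClSub.toSubscheme I), ← Category.assoc, LefFEt.toSub_quotMap, LefFEt.toSub_quotMap,
    LefFEt.toSub_quotMap]

theorem q_comp (L : X.Modules) {I J K : X.IdealSheafData} (h : I ≤ J) (h' : J ≤ K) :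
    q L h ≫ q L h' = q L (h.trans h') := by
  rw [q, q, q, ← tmap_comp, quotMap_comp]

theorem le_mul_right' (I J : X.IdealSheafData) : J * I ≤ I := fun U => by
  rw [Scheme.IdealSheafData.ideal_mul, Pi.mul_apply]; exact Ideal.mul_le_right

theorem hom_ext_of_basis {M N : X.Modules} (φ ψ : M ⟶ N) (B : Set X.Opens)
    (hB : ∀ {V : X.Opens}, ∀ x ∈ V, ∃ W ∈ B, x ∈ W ∧ W ≤ V)
    (h : ∀ W ∈ B, ∀ m : Γ(M, W), φ.app W m = ψ.app W m) : φ = ψ := by
  refine Scheme.Modules.hom_ext _ _ fun U => ?_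
  ext m
  refine QC.section_eq_of_locally fun x hx => ?_
  obtain ⟨W, hW, hxW, hle⟩ := hB x hx
  refine ⟨W, hle, hxW, ?_⟩
  rw [app_res φ hle m, app_res ψ hle m]
  exact h W hW _

/-- A twisted function with no zero trivialises the twist. -/
theorem exists_iso_of_nowhere_zero [JacobsonSpace X] [CompactSpace X] {Z : X.IdealSheafData} {L : X.Modules}
    (hL : PicF.IsInvertible L) (σ : Coh.structureModule X ⟶ CohB1.tensorMod (ClSub.quotMod Z) L)
    (h : ∀ p : X, p ∈ (Z.support : Set X) → ∀ hp : IsClosed ({p} : Set X),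
      ∀ hle : Z ≤ Scheme.IdealSheafData.vanishingIdeal ⟨{p}, hp⟩, σ ≫ q L hle ≠ 0) :
    ∃ φ : ClSub.quotMod Z ≅ CohB1.tensorMod (ClSub.quotMod Z) L, ClSub.toSubscheme Z ≫ φ.hom = σ := by
  -- small affine opens on which `L` is trivial
  let B : Set X.Opens := {W | IsAffineOpen W ∧ ∃ e : Γ(L, W), TMul.IsGen e}
  have hB : ∀ {V : X.Opens}, ∀ x ∈ V, ∃ W ∈ B, x ∈ W ∧ W ≤ V := fun {V} x hx => by
    obtain ⟨U, g, hxU, hg⟩ := TMul.exists_isGen hL x
    obtain ⟨W, hW, hxW, hle⟩ := exists_isAffineOpen_mem_and_subset (x := x) (U := V ⊓ U) ⟨hx, hxU⟩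
    have hWU : W ≤ U := fun z hz => (hle hz).2
    exact ⟨W, ⟨hW, _, hg.res hWU⟩, hxW, fun z hz => (hle hz).1⟩
  have hsurj : ∀ W : X.Opens, IsAffineOpen W → Function.Surjective ((ClSub.toSubscheme Z).app W) := fun W hW =>
    Z.subschemeι.app_surjective _ hW
  have loc : ∀ (W : X.Opens) (hW : IsAffineOpen W) (e : Γ(L, W)), TMul.IsGen e →
      ∃ a : Γ(X, W), TMul.val σ W = TMul.tm ((ClSub.toSubscheme Z).app W a) e := fun W hW e he => by
    obtain ⟨m, hm⟩ := (TMul.tm_bijective (M := ClSub.quotMod Z) he W le_rfl).2 (TMul.val σ W)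
    obtain ⟨a, rfl⟩ := hsurj W hW m
    simp only [res_self] at hm
    exact ⟨a, hm.symm⟩
  have hval : ∀ (W : X.Opens) (hW : IsAffineOpen W) (e : Γ(L, W)) (a r : Γ(X, W)),
      TMul.val σ W = TMul.tm ((ClSub.toSubscheme Z).app W a) e →
        σ.app W r = TMul.tm ((ClSub.toSubscheme Z).app W (r * a)) e := fun W hW e a r ha => by
    rw [TMul.app_eq_smul σ r, ha, ← TMul.smul_tm]
    exact congrArg (fun m => TMul.tm m e) ((TMul.app_smul (ClSub.toSubscheme Z) r a).symm)
  have hunit : ∀ (W : X.Opens) (hW : IsAffineOpen W) (e : Γ(L, W)), TMul.IsGen e → ∀ a : Γ(X, W),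
      TMul.val σ W = TMul.tm ((ClSub.toSubscheme Z).app W a) e → Z.ideal ⟨W, hW⟩ ⊔ Ideal.span {a} = ⊤ := by
    intro W hW e he a ha
    by_contra htop
    have hne : (X.zeroLocus ((Z.ideal ⟨W, hW⟩ : Set Γ(X, W)) ∪ {a}) ∩ (W : Set X)).Nonempty := by
      by_contra hemp
      rw [Set.not_nonempty_iff_eq_empty] at hemp
      apply htop
      have h1 : X.zeroLocus ((Z.ideal ⟨W, hW⟩ ⊔ Ideal.span {a} : Ideal Γ(X, W)) : Set Γ(X, W)) ∩ (W : Set X) = ∅ := by
        rw [show (Z.ideal ⟨W, hW⟩ ⊔ Ideal.span {a} : Ideal Γ(X, W)) =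
          Ideal.span ((Z.ideal ⟨W, hW⟩ : Set Γ(X, W)) ∪ {a}) by rw [Ideal.span_union, Ideal.span_eq],
          Scheme.zeroLocus_span, hemp]
      have h2 := hW.fromSpec_preimage_zeroLocus ((Z.ideal ⟨W, hW⟩ ⊔ Ideal.span {a} : Ideal Γ(X, W)) : Set Γ(X, W))
      rw [← PrimeSpectrum.zeroLocus_empty_iff_eq_top, ← h2, Set.eq_empty_iff_forall_notMem]
      intro z hz
      have hz' := Set.mem_range_self (f := hW.fromSpec) z
      rw [hW.range_fromSpec] at hz'
      exact h1.le ⟨hz, hz'⟩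
    obtain ⟨p, ⟨hp1, hpW⟩, hpc⟩ := nonempty_inter_closedPoints hne
      (show IsLocallyClosed (X.zeroLocus ((Z.ideal ⟨W, hW⟩ : Set Γ(X, W)) ∪ {a}) ∩ (W : Set X)) from
        ⟨W, X.zeroLocus _, W.2, Scheme.zeroLocus_isClosed X _, Set.inter_comm _ _⟩)
    have hp1' : p ∈ X.zeroLocus (Z.ideal ⟨W, hW⟩ : Set Γ(X, W)) ∧ p ∈ X.zeroLocus ({a} : Set Γ(X, W)) := by
      simp only [Scheme.mem_zeroLocus_iff, Set.mem_union] at hp1 ⊢
      exact ⟨fun f hf => hp1 f (Or.inl hf), fun f hf => hp1 f (Or.inr hf)⟩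
    have hpZ : p ∈ (Z.support : Set X) := by
      rw [SetLike.mem_coe, Z.mem_support_iff_of_mem (U := ⟨W, hW⟩) hpW]
      exact hp1'.1
    have hle : Z ≤ Scheme.IdealSheafData.vanishingIdeal ⟨{p}, hpc⟩ :=
      Scheme.IdealSheafData.le_support_iff_le_vanishingIdeal.1 (Set.singleton_subset_iff.2 hpZ)
    refine h p hpZ hpc hle (hom_ext_of_basis _ _ B hB fun W' hW' (r : Γ(X, W')) => ?_)
    obtain ⟨hW'a, e', he'⟩ := hW'
    obtain ⟨a', ha'⟩ := loc W' hW'a e' he'
    show (q L hle).app W' (σ.app W' r) = 0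
    rw [hval W' hW'a e' a' r ha', q, tmap_tm, LefFEt.toSub_quotMap_app hle]
    suffices hm : r * a' ∈ (Scheme.IdealSheafData.vanishingIdeal ⟨{p}, hpc⟩).ideal ⟨W', hW'a⟩ by
      rw [(LefFEt.toSub_eq_zero_iff _ ⟨W', hW'a⟩ _).2 hm]
      exact TMul.zero_tm e'
    refine Ideal.mul_mem_left _ _ ?_
    rw [Scheme.IdealSheafData.vanishingIdeal_ideal, PrimeSpectrum.mem_vanishingIdeal]
    intro z hz
    have hzp : hW'a.fromSpec z = p := hz
    have hpW' : p ∈ W' := by
      have := Set.mem_range_self (f := hW'a.fromSpec) z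
      rw [hW'a.range_fromSpec, hzp] at this
      exact this
    by_contra hnz
    have hbo : p ∈ X.basicOpen a' := by
      rw [← hzp]
      show z ∈ hW'a.fromSpec ⁻¹ᵁ X.basicOpen a'
      rw [hW'a.fromSpec_preimage_basicOpen a']
      exact hnz
    -- compare the two local descriptions near `p`
    obtain ⟨V, hV, hpV, hVle⟩ := exists_isAffineOpen_mem_and_subset (x := p) (U := X.basicOpen a' ⊓ W) ⟨hbo, hpW⟩
    have hVW' : V ≤ W' := fun y hy => X.basicOpen_le a' (hVle hy).1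
    have hVW : V ≤ W := fun y hy => (hVle hy).2
    have hgen := he.res hVW
    have hgen' := he'.res hVW'
    obtain ⟨c, hc⟩ := (hgen V le_rfl).2 (res L hVW' e')
    simp only [res_self] at hc
    have hV1 : TMul.val σ V = TMul.tm ((ClSub.toSubscheme Z).app V (QC.resO X hVW a)) (res L hVW e) := by
      rw [← TMul.res_val σ hVW, ha, TMul.res_tm, app_res]
      rfl
    have hV2 : TMul.val σ V = TMul.tm ((ClSub.toSubscheme Z).app V (c * QC.resO X hVW' a')) (res L hVW e) := by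
      rw [← TMul.res_val σ hVW', ha', TMul.res_tm, app_res, ← hc]
      show TMul.tm ((ClSub.toSubscheme Z).app V (QC.resO X hVW' a')) (c • res L hVW e) = _
      rw [TMul.tm_smul, ← TMul.smul_tm]
      exact congrArg (fun m => TMul.tm m _) ((TMul.app_smul (ClSub.toSubscheme Z) c _).symm)
    have heq : (ClSub.toSubscheme Z).app V (QC.resO X hVW a) =
        (ClSub.toSubscheme Z).app V (c * QC.resO X hVW' a') := by
      refine (TMul.tm_bijective (M := ClSub.quotMod Z) hgen V le_rfl).1 ?_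
      simp only [res_self]
      rw [← hV1, ← hV2]
    have hmem : QC.resO X hVW a - c * QC.resO X hVW' a' ∈ Z.ideal ⟨V, hV⟩ := by
      refine (LefFEt.toSub_eq_zero_iff _ ⟨V, hV⟩ _).1 ?_
      refine (map_sub ((ClSub.toSubscheme Z).app V).hom _ _).trans ?_
      rw [sub_eq_zero]; exact heq
    have hc' : IsUnit c := by
      obtain ⟨c', hc''⟩ := (hgen' V le_rfl).2 (res L hVW e)
      simp only [res_self] at hc''
      refine IsUnit.of_mul_eq_one c' ?_
      refine (hgen' V le_rfl).1 ?_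
      simp only [res_self]
      rw [one_smul, ← smul_smul, hc'', hc]
    have hu : IsUnit (X.presheaf.germ V p hpV (c * QC.resO X hVW' a')) := by
      rw [map_mul]
      refine (hc'.map _).mul ?_
      rw [show (X.presheaf.germ V p hpV) (QC.resO X hVW' a') = X.presheaf.germ W' p hpW' a' from
        TopCat.Presheaf.germ_res_apply X.presheaf (homOfLE hVW') p hpV a']
      exact (X.mem_basicOpen a' p hpW').1 hbo
    have hna : ¬ IsUnit (X.presheaf.germ V p hpV (QC.resO X hVW a)) := by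
      rw [show (X.presheaf.germ V p hpV) (QC.resO X hVW a) = X.presheaf.germ W p hpW a from
        TopCat.Presheaf.germ_res_apply X.presheaf (homOfLE hVW) p hpV a]
      exact fun hua => (Scheme.mem_zeroLocus_iff X _ p).1 hp1'.2 a rfl ((X.mem_basicOpen a p hpW).2 hua)
    have hnd : ¬ IsUnit (X.presheaf.germ V p hpV (QC.resO X hVW a - c * QC.resO X hVW' a')) := by
      have hpZ' : p ∈ X.zeroLocus (Z.ideal ⟨V, hV⟩ : Set Γ(X, V)) :=
        (Z.mem_support_iff_of_mem (U := ⟨V, hV⟩) hpV).1 hpZ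
      exact fun hud => (Scheme.mem_zeroLocus_iff X _ p).1 hpZ' _ hmem ((X.mem_basicOpen _ p hpV).2 hud)
    rw [map_sub] at hnd
    have key := (IsLocalRing.mem_maximalIdeal _).2 hnd
    have key' := (IsLocalRing.mem_maximalIdeal _).2 hna
    have := sub_mem key' key
    rw [sub_sub_cancel] at this
    exact (IsLocalRing.mem_maximalIdeal _).1 this hu
  have hzero : ClSub.idealModι Z ≫ σ = 0 := hom_ext_of_basis _ _ B hB fun W hW i => by
    obtain ⟨hWa, e, he⟩ := hW
    obtain ⟨a, ha⟩ := loc W hWa e he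
    show σ.app W ((ClSub.idealModι Z).app W i) = 0
    rw [hval W hWa e a _ ha, (LefFEt.toSub_eq_zero_iff _ ⟨W, hWa⟩ _).2
      (Ideal.mul_mem_right _ _ ((QC.mem_range_idealModι_affine Z ⟨W, hWa⟩ _).mp ⟨i, rfl⟩))]
    exact TMul.zero_tm e
  let φ : ClSub.quotMod Z ⟶ CohB1.tensorMod (ClSub.quotMod Z) L :=
    (CurveRR.ideal_shortExact Z).gIsCokernel.desc (CokernelCofork.ofπ σ hzero)
  have hφ : ClSub.toSubscheme Z ≫ φ = σ :=
    (CurveRR.ideal_shortExact Z).gIsCokernel.fac (CokernelCofork.ofπ σ hzero) WalkingParallelPair.one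
  have hbij : ∀ W ∈ B, Function.Bijective (φ.app W) := by
    intro W hW
    obtain ⟨hWa, e, he⟩ := hW
    obtain ⟨a, ha⟩ := loc W hWa e he
    have hmul : ∀ r : Γ(X, W), φ.app W ((ClSub.toSubscheme Z).app W r) =
        TMul.tm ((ClSub.toSubscheme Z).app W (r * a)) e := fun r => by
      rw [← ConcreteCategory.comp_apply, ← Scheme.Modules.Hom.comp_app, hφ, hval W hWa e a r ha]
    obtain ⟨z, hz, w, hw, hzw⟩ := Submodule.mem_sup.1 ((hunit W hWa e he a ha).ge (Submodule.mem_top (x := (1 : Γ(X, W)))))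
    obtain ⟨b, rfl⟩ := Ideal.mem_span_singleton'.1 hw
    constructor
    · rw [injective_iff_map_eq_zero]
      intro m hm
      obtain ⟨(r : Γ(X, W)), rfl⟩ := hsurj W hWa m
      rw [hmul r] at hm
      have h0 : (ClSub.toSubscheme Z).app W (r * a) = 0 := by
        refine (TMul.tm_bijective (M := ClSub.quotMod Z) he W le_rfl).1 ?_
        simp only [res_self]
        rw [hm]; exact (TMul.zero_tm e).symm
      refine (LefFEt.toSub_eq_zero_iff _ ⟨W, hWa⟩ _).2 ?_
      have h1 : r = r * z + b * (r * a) := by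
        calc r = r * (z + b * a) := by rw [hzw, mul_one]
          _ = r * z + b * (r * a) := by ring
      rw [h1]
      exact add_mem (Ideal.mul_mem_left _ _ hz) (Ideal.mul_mem_left _ _ ((LefFEt.toSub_eq_zero_iff _ ⟨W, hWa⟩ _).1 h0))
    · intro n
      obtain ⟨m, hm⟩ := (TMul.tm_bijective (M := ClSub.quotMod Z) he W le_rfl).2 n
      obtain ⟨(r : Γ(X, W)), rfl⟩ := hsurj W hWa m
      simp only [res_self] at hm
      refine ⟨(ClSub.toSubscheme Z).app W (r * b), ?_⟩
      rw [hmul, ← hm]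
      refine congrArg (fun m => TMul.tm m e) ?_
      rw [← sub_eq_zero, ← map_sub]
      refine (LefFEt.toSub_eq_zero_iff _ ⟨W, hWa⟩ _).2 ?_
      rw [show r * b * a - r = -(r * z) by
        calc r * b * a - r = r * b * a - r * (z + b * a) := by rw [hzw, mul_one]
          _ = -(r * z) := by ring]
      exact neg_mem (Ideal.mul_mem_left _ _ hz)
  haveI : IsIso φ := QDescent.isIso_of_bijective_basis φ B hB hbij
  exact ⟨asIso φ, hφ⟩

theorem epi_q (L : X.Modules) (hL : PicF.IsInvertible L) {I J : X.IdealSheafData} (h : I ≤ J) : Epi (q L h) := by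
  haveI : Epi (tmap (ClSub.toSubscheme J) L) :=
    (CohFinite.shortExact_tmap hL (CurveRR.ideal_shortExact J)).epi_g
  haveI : Epi (tmap (ClSub.toSubscheme I) L ≫ q L h) := by
    rw [q, ← tmap_comp, LefFEt.toSub_quotMap]; infer_instance
  exact epi_of_epi (tmap (ClSub.toSubscheme I) L) _

theorem not_isZero_quot_tensor {I : X.IdealSheafData} (hne : (I.support : Set X).Nonempty) {L : X.Modules}
    (hL : PicF.IsInvertible L) : ¬ IsZero (CohB1.tensorMod (ClSub.quotMod I) L) := fun hz => by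
  obtain ⟨L', -, ⟨e⟩⟩ := W7Hull.exists_tensor_inverse hL
  have h2 : IsZero (CohB1.tensorMod (CohB1.tensorMod (ClSub.quotMod I) L) L') :=
    (IsZero.iff_id_eq_zero _).2 (by rw [← CohFinite.tmap_id, hz.eq_of_src (𝟙 _) 0, CohFinite.tmap_zero])
  have h3 : IsZero (ClSub.quotMod I) := h2.of_iso
    ((TMul.leftUnitIso _).symm ≪≫ TMul.commIso _ _ ≪≫ PicGrp.tensorModIso (Iso.refl _) e.symm ≪≫
      (TMul.assocIso _ _ _).symm)
  obtain ⟨x, hx⟩ := hne
  have h4 := Intersect.subset_support_quotMod I hx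
  rw [Devissage.support_of_isZero h3] at h4
  exact h4

variable (k : Type u) [Field k] [X.Over (Spec (CommRingCat.of k))] [IsProper (X ↘ Spec (CommRingCat.of k))]

/-- On an integral curve a twisted function of non-positive degree is zero or trivialises. -/
theorem exists_iso_curve (C : X.IdealSheafData) [IsIntegral C.subscheme]
    (hC1 : topologicalKrullDim (C.support : Set X) = 1) {L : X.Modules} (hL : PicF.IsInvertible L)
    (hdeg : deg k C L ≤ 0) (τ : Coh.structureModule X ⟶ CohB1.tensorMod (ClSub.quotMod C) L) (hτ : τ ≠ 0) :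
    ∃ φ : ClSub.quotMod C ≅ CohB1.tensorMod (ClSub.quotMod C) L, ClSub.toSubscheme C ≫ φ.hom = τ := by
  haveI := CurveRR.isNoetherian_of_proper k X
  letI : C.subscheme.Over (Spec (CommRingCat.of k)) := ⟨C.subschemeι ≫ (X ↘ Spec (CommRingCat.of k))⟩
  haveI : IsProper (C.subscheme ↘ Spec (CommRingCat.of k)) :=
    inferInstanceAs (IsProper (C.subschemeι ≫ (X ↘ Spec (CommRingCat.of k))))
  haveI : IsNoetherian C.subscheme := CurveRR.isNoetherian_of_proper k C.subscheme
  have hC' : topologicalKrullDim C.subscheme ≤ 1 := by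
    rw [← StabK3.dim_support_ker C.subschemeι, Scheme.IdealSheafData.ker_subschemeι]
    exact hC1.le
  have hl := ResDesc.isFinLocFree_of_isInvertible hL
  let P := (Scheme.Modules.pullback C.subschemeι).obj L
  let e : CohB1.tensorMod (ClSub.quotMod C) L ≅ (Scheme.Modules.pushforward C.subschemeι).obj P :=
    TMul.commIso _ _ ≪≫ (S0927.projIso C.subschemeι L hl).app (Coh.structureModule C.subscheme) ≪≫
      (Scheme.Modules.pushforward C.subschemeι).mapIso (SecTwist.unitorR P)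
  have hP : PicF.IsInvertible P := PicLoc.isInvertible_pullback _ hL
  let t : Γ(P, ⊤) := e.hom.app ⊤ (TMul.val τ ⊤)
  let σ := TMul.homOf (L := P) t
  have hkey : ClSub.toSubscheme C ≫ (Scheme.Modules.pushforward C.subschemeι).map σ = τ ≫ e.hom := by
    refine Scheme.Modules.hom_ext _ _ fun U => ?_
    ext r
    show σ.app (C.subschemeι ⁻¹ᵁ U) (C.subschemeι.app U r) = e.hom.app U (τ.app U r)
    rw [TMul.app_eq_smul τ r, ← TMul.res_val τ (le_top : U ≤ ⊤), TMul.app_eq_smul σ]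
    refine Eq.trans ?_ (TMul.app_smul e.hom r _).symm
    rw [← app_res e.hom (le_top : U ≤ ⊤) (TMul.val τ ⊤)]
    show C.subschemeι.app U r • TMul.val σ (C.subschemeι ⁻¹ᵁ U) = _
    rw [show TMul.val σ (C.subschemeι ⁻¹ᵁ U) = res P le_top t from TMul.val_homOf t _]
    rfl
  have hσ : σ ≠ 0 := fun h0 => hτ (by
    rw [← cancel_mono e.hom, ← hkey, h0, Functor.map_zero, comp_zero, zero_comp])
  have h1 := CurveRR.Easy.deg_nonneg (k := k) hC' hP σ hσ
  have heq : Curv2.deg k C.subscheme P 1 = deg k C L := by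
    rw [Curv2.deg, Nat.cast_one, one_mul, ← StabK3.euler_push k C.subschemeι rfl (CurveRR.isCoh_of_inv hP).1,
      ← StabK3.euler_push k C.subschemeι rfl (RefStalk.isCoh_structureModule (X := C.subscheme)).1,
      ← CurveRR.euler_eq_of_iso e]
  haveI : IsIso σ := (CurveRR.deg_le_and_isIso (k := k) hC' TMul.isInvertible_structureModule hP σ hσ).2
    (by rw [CurveRR.deg_structure]; omega)
  refine ⟨(Scheme.Modules.pushforward C.subschemeι).mapIso (asIso σ) ≪≫ e.symm, ?_⟩
  rw [Iso.trans_hom, Functor.mapIso_hom, asIso_hom, ← Category.assoc, hkey, Category.assoc, Iso.symm_hom,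
    Iso.hom_inv_id, Category.comp_id]

variable [IsAlgClosed k] [IsIntegral X] [Smooth (X ↘ Spec (CommRingCat.of k))]
  (hdim : topologicalKrullDim X = 2) {Z : X.IdealSheafData}

include k hdim in
theorem exists_curve {Y : X.IdealSheafData} (hY : BlowUp.IsEffCartierIdeal Y) {p : X} (hp : p ∈ (Y.support : Set X)) :
    ∃ C : X.IdealSheafData, IsIntegral C.subscheme ∧ topologicalKrullDim (C.support : Set X) = 1 ∧
      Y ≤ C ∧ p ∈ (C.support : Set X) ∧ BlowUp.IsEffCartierIdeal C := by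
  obtain ⟨ξ, ⟨hξ, hξd⟩, hξp⟩ := SurfAmple.exists_top_specializes k hdim hY hp
  refine ⟨SurfAmple.curveOf ξ, inferInstance, SurfAmple.support_dim_curveOf hξd,
    Scheme.IdealSheafData.le_support_iff_le_vanishingIdeal.1
      (closure_minimal (Set.singleton_subset_iff.2 hξ) Y.support.isClosed), ?_,
    SurfAmple.cartier_curveOf k hdim (SurfAdj.regular k hdim) hξd⟩
  rw [SurfAmple.support_curveOf]
  exact specializes_iff_mem_closure.1 hξp

include k hdim in
/-- Dividing by a curve enlarges the ideal. -/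
theorem exists_div {Y C : X.IdealSheafData} [IsIntegral C.subscheme] (hC1 : topologicalKrullDim (C.support : Set X) = 1)
    (hY : BlowUp.IsEffCartierIdeal Y) (hC : BlowUp.IsEffCartierIdeal C) (h : Y ≤ C) :
    ∃ Y' : X.IdealSheafData, Y = Y' * C ∧ BlowUp.IsEffCartierIdeal Y' ∧ Y < Y' := by
  haveI := CurveRR.isNoetherian_of_proper k X
  obtain ⟨Y', he, -⟩ := PtPush.exists_mul_of_le hC h
  have hY' : BlowUp.IsEffCartierIdeal Y' := BlowUpLib.cartier_of_mul_left (he ▸ hY)
  refine ⟨Y', he, hY', lt_of_le_of_ne (he.trans_le (fun U => by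
      rw [Scheme.IdealSheafData.ideal_mul, Pi.mul_apply]; exact Ideal.mul_le_left)) fun hEq => ?_⟩
  obtain ⟨H, hH⟩ := SurfAdj.exists_ample k hdim
  have h1 := SurfAdj.deg_ample_pos k hdim C hC1 hH
  have hq : (FGA.intNum k X 2 ![ClSub.idealMod C, H] (Coh.structureModule X) : ℚ) < 0 := by exact_mod_cast h1
  rw [SurfAdj.intNum_inter k hdim] at hq
  obtain ⟨e⟩ := Nakai.nonempty_idealMod_mul hY' hC
  have h2 : Nakai.inter k (ClSub.idealMod (Y' * C)) H =
      Nakai.inter k (ClSub.idealMod Y') H + Nakai.inter k (ClSub.idealMod C) H := by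
    rw [← Nakai.inter_tensor k hdim.le ((Groth.Agent.S8914.result Y').2 hY') ((Groth.Agent.S8914.result C).2 hC) hH.1]
    exact Nakai.inter_iso k ((PicGrp.cl_eq_cl_iff _ _).2 ⟨e.symm⟩) H
  rw [← he, hEq] at h2
  linarith

variable (hZ : BlowUp.IsEffCartierIdeal Z)
  (hnc : ∀ Z₁ Z₂ : X.IdealSheafData, BlowUp.IsEffCartierIdeal Z₁ → BlowUp.IsEffCartierIdeal Z₂ → Z₁ ≠ ⊤ → Z₂ ≠ ⊤ →
    Z = Z₁ * Z₂ → 0 < FGA.intNum k X 2 ![(ClSub.idealMod Z₁), (ClSub.idealMod Z₂)] (Coh.structureModule X))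
  {L : X.Modules} (hL : PicF.IsInvertible L)
  (hdeg : ∀ C : X.IdealSheafData, IsIntegral C.subscheme → topologicalKrullDim (C.support : Set X) = 1 → Z ≤ C →
    deg k C L ≤ 0)

include k hdim hZ hnc hL hdeg in
/-- Ramanujam: a nonzero twisted function on a numerically connected divisor has no zero. -/
theorem eq_zero_of_vanish (σ : Coh.structureModule X ⟶ CohB1.tensorMod (ClSub.quotMod Z) L) {p : X}
    (hpZ : p ∈ (Z.support : Set X)) (hp : IsClosed ({p} : Set X))
    (hle : Z ≤ Scheme.IdealSheafData.vanishingIdeal ⟨{p}, hp⟩) (hσp : σ ≫ q L hle = 0) : σ = 0 := by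
  haveI := CurveRR.isNoetherian_of_proper k X
  by_contra hσ
  obtain ⟨C, hCi, hC1, hZC, hpC, hC⟩ := exists_curve k hdim hZ hpZ
  haveI := hCi
  have hCp : C ≤ Scheme.IdealSheafData.vanishingIdeal ⟨{p}, hp⟩ :=
    Scheme.IdealSheafData.le_support_iff_le_vanishingIdeal.1 (Set.singleton_subset_iff.2 hpC)
  have hσC : σ ≫ q L hZC = 0 := by
    by_contra h0
    obtain ⟨φ, hφ⟩ := exists_iso_curve k C hC1 hL (hdeg C hCi hC1 hZC) _ h0
    have h1 : ClSub.toSubscheme C ≫ φ.hom ≫ q L hCp = 0 := by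
      rw [← Category.assoc, hφ, Category.assoc, q_comp]
      exact hσp
    haveI : Epi (ClSub.toSubscheme C) := (CurveRR.ideal_shortExact C).epi_g
    have h2 : q L hCp = 0 := by
      rw [← cancel_epi φ.hom, comp_zero]
      exact (cancel_epi (ClSub.toSubscheme C)).1 (h1.trans comp_zero.symm)
    haveI := epi_q L hL hCp
    exact not_isZero_quot_tensor (I := Scheme.IdealSheafData.vanishingIdeal ⟨{p}, hp⟩)
      ⟨p, by rw [Scheme.IdealSheafData.coe_support_vanishingIdeal]; rfl⟩ hL (IsZero.of_epi_eq_zero _ h2)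
  -- a largest divisor on which the function vanishes
  let S : Set X.IdealSheafData := {Z₂ | BlowUp.IsEffCartierIdeal Z₂ ∧ ∃ Z₁, BlowUp.IsEffCartierIdeal Z₁ ∧
    Z = Z₁ * Z₂ ∧ Z₁ ≤ C ∧ ∀ h : Z ≤ Z₁, σ ≫ q L h = 0}
  obtain ⟨Z', hZ', hZ'c, -⟩ := exists_div k hdim hC1 hZ hC hZC
  have hS : S.Nonempty := ⟨Z', hZ'c, C, hC, hZ'.trans (mul_comm _ _), le_rfl, fun _ => hσC⟩
  haveI := Groth.Agent.S4362.result X
  obtain ⟨Z₂, ⟨hZ₂, Z₁, hZ₁, hZeq, hZ₁C, hvan⟩, hmax⟩ := (wellFounded_gt (α := X.IdealSheafData)).has_min S hS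
  have hZ₁le : Z ≤ Z₁ := hZeq.trans_le (fun U => by
    rw [Scheme.IdealSheafData.ideal_mul, Pi.mul_apply]; exact Ideal.mul_le_left)
  have hZle₂ : Z ≤ Z₂ := hZeq.trans_le (le_mul_right' _ _)
  have hZ₁top : Z₁ ≠ ⊤ := fun h => by
    rw [h, top_le_iff] at hZ₁C
    rw [hZ₁C, Scheme.IdealSheafData.support_top] at hpC
    exact hpC
  have hI₁ := (Groth.Agent.S8914.result Z₁).2 hZ₁
  have hZ₂top : Z₂ ≠ ⊤ := fun h => by
    apply hσ
    have he : Z = Z₁ := by
      rw [hZeq, h, ← Scheme.IdealSheafData.one_eq_top, mul_one]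
    have h3 := hvan hZ₁le
    subst he
    rw [q, show Lef.quotMap hZ₁le = 𝟙 _ from ?_, CohFinite.tmap_id, Category.comp_id] at h3
    · exact h3
    · haveI : Epi (ClSub.toSubscheme Z) := (CurveRR.ideal_shortExact Z).epi_g
      rw [← cancel_epi (ClSub.toSubscheme Z), LefFEt.toSub_quotMap, Category.comp_id]
  have hcurve : ∀ C' : X.IdealSheafData, IsIntegral C'.subscheme →
      topologicalKrullDim (C'.support : Set X) = 1 → Z₂ ≤ C' → BlowUp.IsEffCartierIdeal C' →
      Nakai.inter k (ClSub.idealMod C') (ClSub.idealMod Z₁) ≤ 0 := by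
    intro C' hC'i hC'1 hle' hC'
    haveI := hC'i
    obtain ⟨Z₃, hZ₃, hZ₃c, hlt⟩ := exists_div k hdim hC'1 hZ₂ hC' hle'
    have hCZ : C' * Z₁ ≤ Z₁ := le_mul_right' _ _
    have hZCZ : Z ≤ C' * Z₁ := by
      rw [hZeq, hZ₃, ← mul_assoc, mul_comm Z₁ Z₃, mul_assoc, mul_comm Z₁ C']
      exact le_mul_right' _ _
    have hne : σ ≫ q L hZCZ ≠ 0 := fun h0 => by
      refine hmax Z₃ ⟨hZ₃c, C' * Z₁, BlowUpLib.cartier_mul hC' hZ₁, ?_, hCZ.trans hZ₁C, fun _ => h0⟩ hlt
      rw [hZeq, hZ₃, mul_comm C' Z₁, mul_assoc, mul_comm C' Z₃]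
    obtain ⟨T, hT, ⟨a₁⟩, a₂, a₃, hq⟩ := Castel.exists_shortExact_restrict hZ₁ hC' hCZ
    have hTL := CohFinite.shortExact_tmap hL hT
    let τ : Coh.structureModule X ⟶ CohB1.tensorMod T.X₂ L := σ ≫ q L hZCZ ≫ tmap a₂.inv L
    have hτ : τ ≫ tmap T.g L = 0 := by
      have h1 : tmap a₂.inv L ≫ tmap T.g L ≫ tmap a₃.hom L = q L hCZ := by
        rw [← tmap_comp, ← tmap_comp, hq]; rfl
      haveI : Mono (tmap a₃.hom L) := ⟨fun {W} u v huv => by
        have := congrArg (fun w => w ≫ tmap a₃.inv L) huv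
        simpa [Category.assoc, ← tmap_comp, CohFinite.tmap_id] using this⟩
      rw [← cancel_mono (tmap a₃.hom L), zero_comp]
      simp only [τ, Category.assoc]
      rw [h1, ← Category.assoc, Category.assoc σ, q_comp]
      exact hvan _
    let l : Coh.structureModule X ⟶ CohB1.tensorMod T.X₁ L := hTL.fIsKernel.lift (KernelFork.ofι τ hτ)
    have hl : l ≫ tmap T.f L = τ := hTL.fIsKernel.fac (KernelFork.ofι τ hτ) WalkingParallelPair.zero
    have hl0 : l ≠ 0 := fun h0 => hne (by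
      rw [h0, zero_comp] at hl
      haveI : Mono (tmap a₂.inv L) := ⟨fun {W} u v huv => by
        have := congrArg (fun w => w ≫ tmap a₂.hom L) huv
        simpa [Category.assoc, ← tmap_comp, CohFinite.tmap_id] using this⟩
      rw [← cancel_mono (tmap a₂.inv L), zero_comp, Category.assoc]
      exact hl.symm)
    let ι : CohB1.tensorMod T.X₁ L ≅ CohB1.tensorMod (ClSub.quotMod C') (CohB1.tensorMod (ClSub.idealMod Z₁) L) :=
      PicGrp.tensorModIso (a₁ ≪≫ TMul.commIso _ _) (Iso.refl L) ≪≫ TMul.assocIso _ _ _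
    have hJ := TMul.isInvertible_tensorMod hI₁ hL
    have hne' : l ≫ ι.hom ≠ 0 := fun h0 => hl0 (by rw [← cancel_mono ι.hom, h0, zero_comp])
    have hpos := Nakai.h0_pos_of_section k
      (CurveRR.isCoh_tensor' (CurveRR.isCoh_idealMod C').2 (CurveRR.isCoh_of_inv hJ)) hne'
    have hd : 0 ≤ deg k C' (CohB1.tensorMod (ClSub.idealMod Z₁) L) := by
      by_contra hcon
      rw [h0_quot_eq_zero k C' hC'1 hJ (not_le.1 hcon)] at hpos
      exact lt_irrefl _ hpos
    have hq1 : (0 : ℚ) ≤ (deg k C' (CohB1.tensorMod (ClSub.idealMod Z₁) L) : ℚ) := by exact_mod_cast hd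
    have hq2 : (deg k C' L : ℚ) ≤ 0 := by exact_mod_cast hdeg C' hC'i hC'1 (hZle₂.trans hle')
    rw [deg_eq_inter k hdim C' hC'1 hJ,
      Nakai.inter_tensor_right k hdim.le hI₁ hL ((Groth.Agent.S8914.result C').2 hC')] at hq1
    rw [deg_eq_inter k hdim C' hC'1 hL] at hq2
    linarith
  have key : ∀ Y : X.IdealSheafData, Z₂ ≤ Y → BlowUp.IsEffCartierIdeal Y →
      Nakai.inter k (ClSub.idealMod Y) (ClSub.idealMod Z₁) ≤ 0 := by
    intro Y
    induction Y using (wellFounded_gt (α := X.IdealSheafData)).induction with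
    | h Y ih =>
      intro hY₂ hY
      by_cases hYt : Y = ⊤
      · subst hYt
        obtain ⟨e⟩ := RatBlow.nonempty_idealMod_top (X := X)
        rw [Nakai.inter_iso k ((PicGrp.cl_eq_cl_iff _ _).2 ⟨e⟩), Nakai.inter_one]
      · obtain ⟨y, hy⟩ : (Y.support : Set X).Nonempty := by
          by_contra he
          rw [Set.not_nonempty_iff_eq_empty] at he
          exact hYt ((Scheme.IdealSheafData.support_eq_bot_iff Y).1 (Closeds.ext he))
        obtain ⟨C', hC'i, hC'1, hle', -, hC'⟩ := exists_curve k hdim hY hy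
        haveI := hC'i
        obtain ⟨Y', hY', hY'c, hlt⟩ := exists_div k hdim hC'1 hY hC' hle'
        obtain ⟨e⟩ := Nakai.nonempty_idealMod_mul hY'c hC'
        rw [hY', Nakai.inter_iso k ((PicGrp.cl_eq_cl_iff _ _).2 ⟨e.symm⟩),
          Nakai.inter_tensor k hdim.le ((Groth.Agent.S8914.result Y').2 hY'c) ((Groth.Agent.S8914.result C').2 hC') hI₁]
        have h1 := ih Y' hlt (hY₂.trans hlt.le) hY'c
        have h2 := hcurve C' hC'i hC'1 (hY₂.trans hle') hC'
        linarith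
  have h1 := hnc Z₁ Z₂ hZ₁ hZ₂ hZ₁top hZ₂top hZeq
  have h2 : (0 : ℚ) < (FGA.intNum k X 2 ![(ClSub.idealMod Z₁), (ClSub.idealMod Z₂)] (Coh.structureModule X) : ℚ) := by
    exact_mod_cast h1
  rw [SurfAdj.intNum_inter k hdim, Nakai.inter_comm] at h2
  exact absurd h2 (not_lt.2 (key Z₂ le_rfl hZ₂))

end Groth.Agent.PlaneBlow
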