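import Groth.Agent.PlaneBlow.NumConn

/-!
# Global functions on numerically connected divisors
-/

set_option autoImplicit false
set_option backward.isDefEq.respectTransparency false
set_option backward.isDefEq.respectTransparency.types false
set_option linter.style.haveILetI false
set_option linter.unusedSectionVars false

universe u

open CategoryTheory CategoryTheory.Limits AlgebraicGeometry TopologicalSpace

noncomputable section

namespace Groth.Agent.PlaneBlow

variable {X : Scheme.{u}} (k : Type u) [Field k] [X.Over (Spec (CommRingCat.of k))]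
  [IsProper (X ↘ Spec (CommRingCat.of k))]

include k in
theorem isCoh_quot_tensor (I : X.IdealSheafData) {L : X.Modules} (hL : PicF.IsInvertible L) :
    Coh.IsCoh (CohB1.tensorMod (ClSub.quotMod I) L) := by
  haveI := CurveRR.isNoetherian_of_proper k X
  exact CurveRR.isCoh_tensor' (CurveRR.isCoh_idealMod I).2 (CurveRR.isCoh_of_inv hL)

theorem q_self (L : X.Modules) {I : X.IdealSheafData} (h : I ≤ I) : q L h = 𝟙 _ := by
  haveI : Epi (ClSub.toSubscheme I) := (CurveRR.ideal_shortExact I).epi_g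
  rw [q, show Lef.quotMap h = 𝟙 _ by
    rw [← cancel_epi (ClSub.toSubscheme I), LefFEt.toSub_quotMap, Category.comp_id], CohFinite.tmap_id]

/-- The fibre of a line bundle at a closed point is at most one-dimensional. -/
theorem h0_point_le [IsAlgClosed k] {p : X} (hp : IsClosed ({p} : Set X)) {L : X.Modules} (hL : PicF.IsInvertible L) :
    CurveRR.h k (CohB1.tensorMod (ClSub.quotMod (Scheme.IdealSheafData.vanishingIdeal ⟨{p}, hp⟩)) L) 0 ≤ 1 := by
  haveI := CurveRR.isNoetherian_of_proper k X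
  haveI : JacobsonSpace X := LocallyOfFiniteType.jacobsonSpace (X ↘ Spec (CommRingCat.of k))
  by_contra hcon
  rw [not_le] at hcon
  obtain ⟨s, hs⟩ := Nakai.exists_section_of_h0 (k := k) (zero_lt_one.trans hcon)
  obtain ⟨φ, -⟩ := exists_iso_of_nowhere_zero hL s fun y hy hyc hle => by
    rw [Scheme.IdealSheafData.coe_support_vanishingIdeal] at hy
    obtain rfl : y = p := hy
    rw [q_self]
    simpa using hs
  rw [← CurveRR.h_eq_of_iso φ, CurveRR.h0_quotMod_point hp] at hcon
  exact lt_irrefl _ hcon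

variable [IsAlgClosed k] [IsIntegral X] [Smooth (X ↘ Spec (CommRingCat.of k))]
  (hdim : topologicalKrullDim X = 2) {Z : X.IdealSheafData} (hZ : BlowUp.IsEffCartierIdeal Z) (hZ0 : Z ≠ ⊤)
  (hnc : ∀ Z₁ Z₂ : X.IdealSheafData, BlowUp.IsEffCartierIdeal Z₁ → BlowUp.IsEffCartierIdeal Z₂ → Z₁ ≠ ⊤ → Z₂ ≠ ⊤ →
    Z = Z₁ * Z₂ → 0 < FGA.intNum k X 2 ![(ClSub.idealMod Z₁), (ClSub.idealMod Z₂)] (Coh.structureModule X))
  {L : X.Modules} (hL : PicF.IsInvertible L)
  (hdeg : ∀ C : X.IdealSheafData, IsIntegral C.subscheme → topologicalKrullDim (C.support : Set X) = 1 → Z ≤ C →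
    deg k C L ≤ 0)

include k hdim hZ hZ0 hnc hL hdeg

theorem h0_le_one : CurveRR.h k (CohB1.tensorMod (ClSub.quotMod Z) L) 0 ≤ 1 := by
  haveI := CurveRR.isNoetherian_of_proper k X
  haveI : JacobsonSpace X := LocallyOfFiniteType.jacobsonSpace (X ↘ Spec (CommRingCat.of k))
  have hne : (Z.support : Set X).Nonempty := by
    rw [Set.nonempty_iff_ne_empty]
    exact fun he => hZ0 ((Scheme.IdealSheafData.support_eq_bot_iff Z).1 (Closeds.ext he))
  obtain ⟨p, hpZ, hp⟩ := nonempty_inter_closedPoints hne Z.support.isClosed.isLocallyClosed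
  have hp : IsClosed ({p} : Set X) := hp
  have hle : Z ≤ Scheme.IdealSheafData.vanishingIdeal ⟨{p}, hp⟩ :=
    Scheme.IdealSheafData.le_support_iff_le_vanishingIdeal.1 (Set.singleton_subset_iff.2 hpZ)
  let A := CohB1.tensorMod (ClSub.quotMod Z) L
  let B := CohB1.tensorMod (ClSub.quotMod (Scheme.IdealSheafData.vanishingIdeal ⟨{p}, hp⟩)) L
  letI := CurveRR.secMod k A ⊤
  letI := CurveRR.secMod k B ⊤
  haveI : Module.Finite k (Coh.HH X B 0) := CohFinite.finite_proper k X _ (isCoh_quot_tensor k _ hL) 0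
  haveI : Module.Finite k Γ(B, ⊤) := Module.Finite.equiv (CurveRR.secH0 (k := k) B).symm
  let ev : Γ(A, ⊤) →ₗ[k] Γ(B, ⊤) :=
    { toFun := fun s => (q L hle).app ⊤ s
      map_add' := fun s t => map_add ((q L hle).app ⊤).hom s t
      map_smul' := fun a s => TMul.app_smul (q L hle) (CurveRR.cst k X ⊤ a) s }
  have hinj : Function.Injective ev := by
    rw [injective_iff_map_eq_zero]
    intro s hs
    let σ : Coh.structureModule X ⟶ A := TMul.homOf s
    have hval : TMul.val σ ⊤ = s := (TMul.val_homOf s ⊤).trans (QC.res_self (M := A) _ s)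
    have hσ : σ ≫ q L hle = 0 := by
      rw [← CohFinite.homOf_val (σ ≫ q L hle),
        show TMul.val (σ ≫ q L hle) ⊤ = 0 from (congrArg ((q L hle).app ⊤) hval).trans hs,
        ← CohFinite.homOf_val (0 : Coh.structureModule X ⟶ B)]
      rfl
    rw [← hval, eq_zero_of_vanish k hdim hZ hnc hL hdeg σ hpZ hp hle hσ]
    rfl
  have h1 := LinearMap.finrank_le_finrank_of_injective hinj
  rw [CurveRR.finrank_sec, CurveRR.finrank_sec] at h1
  exact h1.trans (h0_point_le k hp hL)

theorem iso_of_h0_pos (h : 0 < CurveRR.h k (CohB1.tensorMod (ClSub.quotMod Z) L) 0) :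
    Nonempty (CohB1.tensorMod (ClSub.quotMod Z) L ≅ ClSub.quotMod Z) := by
  haveI := CurveRR.isNoetherian_of_proper k X
  haveI : JacobsonSpace X := LocallyOfFiniteType.jacobsonSpace (X ↘ Spec (CommRingCat.of k))
  obtain ⟨s, hs⟩ := Nakai.exists_section_of_h0 (k := k) h
  obtain ⟨φ, -⟩ := exists_iso_of_nowhere_zero hL s fun p hp hpc hle hσ =>
    hs (eq_zero_of_vanish k hdim hZ hnc hL hdeg s hp hpc hle hσ)
  exact ⟨φ.symm⟩

end Groth.Agent.PlaneBlow
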