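import Groth.Agent.PlaneBlow.NumConn
import Groth.Agent.Nakai.CurveConfig
import Groth.Agent.H1Triv.Basic

/-!
# Rationality of negative definite configurations of `(-2)`-lines
-/

set_option autoImplicit false
set_option backward.isDefEq.respectTransparency false
set_option backward.isDefEq.respectTransparency.types false
set_option linter.style.haveILetI false
set_option linter.unusedSectionVars false

universe u

open CategoryTheory CategoryTheory.Limits AlgebraicGeometry TopologicalSpace

noncomputable section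

namespace Groth.Agent.PlaneBlow

variable {X : Scheme.{u}} (k : Type u) [Field k] [X.Over (Spec (CommRingCat.of k))] [IsProper (X ↘ Spec (CommRingCat.of k))]
  [IsAlgClosed k]

/-- On a rational curve degree at least `-1` kills `H¹`. -/
theorem subsingleton_h1_quot_tensor (C : X.IdealSheafData) [IsIntegral C.subscheme]
    (hC1 : topologicalKrullDim (C.support : Set X) = 1) (hg : Subsingleton (Coh.HH X (ClSub.quotMod C) 1))
    {J : X.Modules} (hJ : PicF.IsInvertible J) (hdeg : -1 ≤ deg k C J) :
    Subsingleton (Coh.HH X (CohB1.tensorMod (ClSub.quotMod C) J) 1) := by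
  haveI := CurveRR.isNoetherian_of_proper k X
  letI : C.subscheme.Over (Spec (CommRingCat.of k)) := ⟨C.subschemeι ≫ (X ↘ Spec (CommRingCat.of k))⟩
  haveI : IsProper (C.subscheme ↘ Spec (CommRingCat.of k)) :=
    inferInstanceAs (IsProper (C.subschemeι ≫ (X ↘ Spec (CommRingCat.of k))))
  haveI : IsNoetherian C.subscheme := CurveRR.isNoetherian_of_proper k C.subscheme
  have hC' : topologicalKrullDim C.subscheme ≤ 1 := by
    rw [← StabK3.dim_support_ker C.subschemeι, Scheme.IdealSheafData.ker_subschemeι]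
    exact hC1.le
  have hl := ResDesc.isFinLocFree_of_isInvertible hJ
  let e : CohB1.tensorMod (ClSub.quotMod C) J ≅
      (Scheme.Modules.pushforward C.subschemeι).obj ((Scheme.Modules.pullback C.subschemeι).obj J) :=
    TMul.commIso _ _ ≪≫ (S0927.projIso C.subschemeι J hl).app (Coh.structureModule C.subscheme) ≪≫
      (Scheme.Modules.pushforward C.subschemeι).mapIso (SecTwist.unitorR ((Scheme.Modules.pullback C.subschemeι).obj J))
  have hP : PicF.IsInvertible ((Scheme.Modules.pullback C.subschemeι).obj J) :=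
    PicLoc.isInvertible_pullback _ hJ
  have hg0 : Curv2.genus k C.subscheme = 0 := by
    refine (StabK3.h_push k C.subschemeι rfl (RefStalk.isCoh_structureModule (X := C.subscheme)).1 1).symm.trans ?_
    exact CurveRR.h_eq_zero hg
  have hd : 2 * (Curv2.genus k C.subscheme : ℤ) - 1 ≤ Curv2.deg k C.subscheme ((Scheme.Modules.pullback C.subschemeι).obj J) 1 := by
    rw [hg0, Curv2.deg, Nat.cast_one, one_mul, ← StabK3.euler_push k C.subschemeι rfl (CurveRR.isCoh_of_inv hP).1,
      ← StabK3.euler_push k C.subschemeι rfl (RefStalk.isCoh_structureModule (X := C.subscheme)).1,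
      ← CurveRR.euler_eq_of_iso e]
    change _ ≤ deg k C J
    simpa using hdeg
  have h1 := CurveRR.subsingleton_h1 (k := k) hC' (CurveRR.h0_structure k C.subscheme) hP hd
  haveI : Module.Finite k (Coh.HH X (CohB1.tensorMod (ClSub.quotMod C) J) 1) :=
    CohFinite.finite_proper k X _ (CurveRR.isCoh_tensor' (CurveRR.isCoh_idealMod C).2 (CurveRR.isCoh_of_inv hJ)) 1
  refine (Module.finrank_zero_iff (R := k)).1 ?_
  show CurveRR.h k _ 1 = 0
  rw [CurveRR.h_eq_of_iso e 1, StabK3.h_push k C.subschemeι rfl (CurveRR.isCoh_of_inv hP).1]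
  exact CurveRR.h_eq_zero h1

variable [IsIntegral X] [Smooth (X ↘ Spec (CommRingCat.of k))] (hdim : topologicalKrullDim X = 2)
  {r : ℕ} (C : Fin r → X.IdealSheafData) (hCi : ∀ i, IsIntegral (C i).subscheme)
  (hCd : ∀ i, topologicalKrullDim ((C i).support : Set X) = 1)

include k hdim hCi hCd in
/-- An effective divisor on the configuration is a combination of its curves. -/
theorem exists_combination (Z : X.IdealSheafData) (hZ : BlowUp.IsEffCartierIdeal Z)
    (hZs : (Z.support : Set X) ⊆ ⋃ i, ((C i).support : Set X)) :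
    ∃ a : Fin r → ℕ, (Z ≠ ⊤ → a ≠ 0) ∧ (∀ i, a i ≠ 0 → Z ≤ C i) ∧ ∀ M : X.Modules, PicF.IsInvertible M →
      Nakai.inter k (ClSub.idealMod Z) M = ∑ i, (a i : ℚ) * Nakai.inter k (ClSub.idealMod (C i)) M := by
  haveI := CurveRR.isNoetherian_of_proper k X
  haveI := Groth.Agent.S4362.result X
  induction Z using (wellFounded_gt (α := X.IdealSheafData)).induction with
  | h Z ih =>
    by_cases hZt : Z = ⊤
    · subst hZt
      obtain ⟨e⟩ := RatBlow.nonempty_idealMod_top (X := X)
      refine ⟨0, fun h => absurd rfl h, fun i hi => absurd rfl hi, fun M hM => ?_⟩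
      rw [Nakai.inter_iso k ((PicGrp.cl_eq_cl_iff _ _).2 ⟨e⟩), Nakai.inter_one]
      simp
    obtain ⟨p, hp⟩ : (Z.support : Set X).Nonempty := by
      by_contra he
      rw [Set.not_nonempty_iff_eq_empty] at he
      exact hZt ((Scheme.IdealSheafData.support_eq_bot_iff Z).1 (Closeds.ext he))
    obtain ⟨C', hC'i, hC'1, hle, -, hC'⟩ := exists_curve k hdim hZ hp
    haveI := hC'i
    obtain ⟨i, hi⟩ : ∃ i, C' = C i := by
      have hm : C'.subschemeι (genericPoint C'.subscheme) ∈ (C'.support : Set X) := by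
        rw [← Nakai.closure_genericPoint_subscheme]
        exact subset_closure rfl
      obtain ⟨i, hi⟩ := Set.mem_iUnion.1 (hZs (Scheme.IdealSheafData.support_antitone hle hm))
      haveI := hCi i
      refine ⟨i, Nakai.eq_of_genericPoint (Intersect.eq_of_dim (d := 1)
        (y := (C i).subschemeι (genericPoint (C i).subscheme)) ?_ ?_ ?_).symm⟩
      · rw [specializes_iff_mem_closure, Nakai.closure_genericPoint_subscheme]
        exact hi
      · rw [Nakai.closure_genericPoint_subscheme, hCd i]
        exact le_rfl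
      · rw [Nakai.closure_genericPoint_subscheme, hC'1]
        rfl
    obtain ⟨Z', hZ', hZ'c, hlt⟩ := exists_div k hdim hC'1 hZ hC' hle
    obtain ⟨a, -, ha, hint⟩ := ih Z' hlt hZ'c (subset_trans (SetLike.coe_subset_coe.2 (Scheme.IdealSheafData.support_antitone hlt.le)) hZs)
    classical
    refine ⟨Function.update a i (a i + 1), fun _ h => ?_, fun j hj => ?_, fun M hM => ?_⟩
    · exact absurd (congrFun h i) (by simp)
    · by_cases hji : j = i
      · exact hji ▸ hi ▸ hle
      · rw [Function.update_of_ne hji] at hj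
        exact hlt.le.trans (ha j hj)
    · obtain ⟨e⟩ := Nakai.nonempty_idealMod_mul hZ'c hC'
      rw [hZ', Nakai.inter_iso k ((PicGrp.cl_eq_cl_iff _ _).2 ⟨e.symm⟩),
        Nakai.inter_tensor k hdim.le ((Groth.Agent.S8914.result Z').2 hZ'c) ((Groth.Agent.S8914.result C').2 hC') hM,
        hint M hM, hi]
      have hupd : ∀ j, ((Function.update a i (a i + 1) j : ℕ) : ℚ) * Nakai.inter k (ClSub.idealMod (C j)) M =
          (a j : ℚ) * Nakai.inter k (ClSub.idealMod (C j)) M + if j = i then Nakai.inter k (ClSub.idealMod (C j)) M else 0 := by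
        intro j
        by_cases hji : j = i
        · subst hji; simp; ring
        · simp [hji]
      rw [Finset.sum_congr rfl fun j _ => hupd j, Finset.sum_add_distrib, Finset.sum_ite_eq']
      simp

variable (hCrat : ∀ i, Subsingleton (Coh.HH X (ClSub.quotMod (C i)) 1))
  (hC2 : ∀ i, FGA.intNum k X 2 ![(ClSub.idealMod (C i)), (ClSub.idealMod (C i))] (Coh.structureModule X) = -2)
  (hneg : ∀ a : Fin r → ℤ, a ≠ 0 →
    ∑ i, ∑ j, a i * a j * FGA.intNum k X 2 ![(ClSub.idealMod (C i)), (ClSub.idealMod (C j))] (Coh.structureModule X) < 0)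

include k hdim hCi hCd hCrat hC2 hneg in
theorem subsingleton_h1_config (Z : X.IdealSheafData) (hZ : BlowUp.IsEffCartierIdeal Z)
    (hZs : (Z.support : Set X) ⊆ ⋃ i, ((C i).support : Set X)) :
    Subsingleton (Coh.HH X (ClSub.quotMod Z) 1) := by
  haveI := CurveRR.isNoetherian_of_proper k X
  haveI := Groth.Agent.S4362.result X
  induction Z using (wellFounded_gt (α := X.IdealSheafData)).induction with
  | h Z ih =>
    obtain ⟨a, ha0, hale, hint⟩ := exists_combination k hdim C hCi hCd Z hZ hZs
    by_cases hZt : Z = ⊤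
    · subst hZt
      refine Nakai.subsingleton_of_support_le k 0 (CurveRR.isCoh_idealMod _).2 ?_ 1 one_pos
      have he : CohB1.support (ClSub.quotMod (⊤ : X.IdealSheafData)) ⊆ (∅ : Set X) :=
        (CurveRR.support_quotMod _).trans (by rw [Scheme.IdealSheafData.support_top]; rfl)
      haveI : IsEmpty (CohB1.support (ClSub.quotMod (⊤ : X.IdealSheafData))) := ⟨fun x => he x.2⟩
      haveI : IsEmpty (IrreducibleCloseds (CohB1.support (ClSub.quotMod (⊤ : X.IdealSheafData)))) :=
        ⟨fun c => c.isIrreducible.nonempty.elim fun x _ => IsEmpty.false x⟩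
      exact le_of_eq_of_le Order.krullDim_eq_bot bot_le
    -- a curve meeting the divisor negatively
    have hIZ := (Groth.Agent.S8914.result Z).2 hZ
    have hIC : ∀ i, PicF.IsInvertible (ClSub.idealMod (C i)) := fun i =>
      haveI := hCi i; SurfAdj.inv_ideal k hdim (C i) (hCd i)
    have hneg' : ∑ i, (a i : ℚ) * Nakai.inter k (ClSub.idealMod (C i)) (ClSub.idealMod Z) < 0 := by
      have h1 := hneg (fun i => (a i : ℤ)) fun h => ha0 hZt (funext fun i => Int.natCast_eq_zero.1 (congrFun h i))
      have h2 : ((∑ i, ∑ j, (a i : ℤ) * a j *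
          FGA.intNum k X 2 ![(ClSub.idealMod (C i)), (ClSub.idealMod (C j))] (Coh.structureModule X) : ℤ) : ℚ) < 0 := by
        exact_mod_cast h1
      push_cast [SurfAdj.intNum_inter k hdim] at h2
      refine lt_of_eq_of_lt ?_ h2
      refine Finset.sum_congr rfl fun i _ => ?_
      rw [Nakai.inter_comm, hint _ (hIC i), Finset.mul_sum]
      refine Finset.sum_congr rfl fun j _ => ?_
      rw [Nakai.inter_comm k (ClSub.idealMod (C j))]
      ring
    obtain ⟨i, -, hi⟩ := Finset.exists_lt_of_sum_lt (f := fun i => (a i : ℚ) * Nakai.inter k (ClSub.idealMod (C i)) (ClSub.idealMod Z))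
      (g := fun _ => (0 : ℚ)) (s := Finset.univ) (hneg'.trans_le (le_of_eq Finset.sum_const_zero.symm))
    have hai : a i ≠ 0 := fun h => by simp [h] at hi
    have hlt0 : Nakai.inter k (ClSub.idealMod (C i)) (ClSub.idealMod Z) < 0 :=
      neg_of_mul_neg_right hi (Nat.cast_nonneg _)
    haveI := hCi i
    have hCc := Nakai.cartier_of_curve k hdim (C i) (hCd i)
    obtain ⟨Z', hZ', hZ'c, hlt⟩ := exists_div k hdim (hCd i) hZ hCc (hale i hai)
    obtain ⟨e⟩ := Nakai.nonempty_idealMod_mul hZ'c hCc
    have hI' := (Groth.Agent.S8914.result Z').2 hZ'c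
    have hd : -1 ≤ deg k (C i) (ClSub.idealMod Z') := by
      rw [hZ', Nakai.inter_comm, Nakai.inter_iso k ((PicGrp.cl_eq_cl_iff _ _).2 ⟨e.symm⟩),
        Nakai.inter_tensor k hdim.le hI' (hIC i) (hIC i), Nakai.inter_comm k (ClSub.idealMod Z'),
        ← SurfAdj.intNum_inter k hdim, ← SurfAdj.intNum_inter k hdim, hC2 i] at hlt0
      rw [deg, SurfAdj.deg_eq k hdim (C i) (hCd i) hI']
      have h : FGA.intNum k X 2 ![ClSub.idealMod (C i), ClSub.idealMod Z'] (Coh.structureModule X) < 2 := by
        have h' : (FGA.intNum k X 2 ![ClSub.idealMod (C i), ClSub.idealMod Z'] (Coh.structureModule X) : ℚ) < 2 := by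
          push_cast at hlt0
          linarith
        exact_mod_cast h'
      omega
    obtain ⟨S, hS, ⟨a₁⟩, a₂, a₃, -⟩ := Castel.exists_shortExact_restrict hZ'c hCc (le_mul_right' Z' (C i))
    have hq := subsingleton_h1_quot_tensor k (C i) (hCd i) (hCrat i) hI' hd
    have hs₁ : Subsingleton (Coh.HH X S.X₁ 1) :=
      (ExtShX.hhIso (A := k) (a₁ ≪≫ TMul.commIso _ _) 1).toEquiv.subsingleton
    have hih := ih Z' hlt hZ'c (subset_trans (SetLike.coe_subset_coe.2 (Scheme.IdealSheafData.support_antitone hlt.le)) hZs)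
    have hs₃ : Subsingleton (Coh.HH X S.X₃ 1) := (ExtShX.hhIso (A := k) a₃ 1).toEquiv.subsingleton
    have hs₂ : Subsingleton (Coh.HH X S.X₂ 1) := subsingleton_of_forall_eq 0 fun x => by
      have hx : x ∈ LinearMap.range (CohFinite.hhMap k S.f 1) := by
        rw [CurveRR.range_f_eq_ker_g (k := k) hS 1, LinearMap.mem_ker]
        exact hs₃.elim _ _
      obtain ⟨y, rfl⟩ := hx
      rw [hs₁.elim y 0, map_zero]
    exact (ExtShX.hhIso (A := k) (a₂ ≪≫ eqToIso (congrArg (ClSub.quotMod (X := X))
      (((mul_comm (C i) Z').trans hZ'.symm)))) 1).symm.toEquiv.subsingleton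

end Groth.Agent.PlaneBlow
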