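import Groth.Agent.PlaneBlow.RatConfig

/-!
# Rational effective divisors on a surface
-/

set_option autoImplicit false
set_option backward.isDefEq.respectTransparency false
set_option backward.isDefEq.respectTransparency.types false
set_option linter.style.haveILetI false
set_option linter.unusedSectionVars false

universe u

open CategoryTheory CategoryTheory.Limits AlgebraicGeometry TopologicalSpace

noncomputable section

namespace Groth.Agent.PlaneBlow

variable {X : Scheme.{u}} (k : Type u) [Field k] [X.Over (Spec (CommRingCat.of k))] [IsProper (X ↘ Spec (CommRingCat.of k))]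

include k in
theorem subsingleton_quot_top (q : ℕ) : 0 < q →
    Subsingleton (Coh.HH X (ClSub.quotMod (⊤ : X.IdealSheafData)) q) := fun hq => by
  haveI := CurveRR.isNoetherian_of_proper k X
  refine Nakai.subsingleton_of_support_le k 0 (CurveRR.isCoh_idealMod _).2 ?_ q hq
  have he : CohB1.support (ClSub.quotMod (⊤ : X.IdealSheafData)) ⊆ (∅ : Set X) :=
    (CurveRR.support_quotMod _).trans (by rw [Scheme.IdealSheafData.support_top]; rfl)
  haveI : IsEmpty (CohB1.support (ClSub.quotMod (⊤ : X.IdealSheafData))) := ⟨fun x => he x.2⟩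
  haveI : IsEmpty (IrreducibleCloseds (CohB1.support (ClSub.quotMod (⊤ : X.IdealSheafData)))) :=
    ⟨fun c => c.isIrreducible.nonempty.elim fun x _ => IsEmpty.false x⟩
  exact le_of_eq_of_le Order.krullDim_eq_bot bot_le

include k in
theorem subsingleton_h2_quot [IsIntegral X] (hdim : topologicalKrullDim X = 2) {Z : X.IdealSheafData}
    (hZ : BlowUp.IsEffCartierIdeal Z) : Subsingleton (Coh.HH X (ClSub.quotMod Z) 2) := by
  haveI := CurveRR.isNoetherian_of_proper k X
  have hgen : genericPoint X ∉ (Z.support : Set X) := W7Fib.genericPoint_notMem_support fun hbot => by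
    obtain ⟨U, hxU, a, ha, he⟩ := hZ (genericPoint X)
    haveI : Nonempty U.1 := ⟨⟨_, hxU⟩⟩
    rw [hbot, Scheme.IdealSheafData.ideal_bot, Pi.bot_apply, eq_comm, Ideal.span_singleton_eq_bot] at he
    exact zero_notMem_nonZeroDivisors (he ▸ ha)
  refine Nakai.subsingleton_of_support_le k 1 (CurveRR.isCoh_idealMod _).2
    ((Topology.IsEmbedding.inclusion (CurveRR.support_quotMod _)).topologicalKrullDim_le.trans ?_) 2 one_lt_two
  refine Order.le_of_lt_succ ?_
  refine (FreeJ.dim_lt_of_proper (n := 2) (by rw [hdim]; norm_cast) _ Z.support.isClosed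
    fun hu => hgen (hu ▸ Set.mem_univ _)).trans_le ?_
  norm_cast

include k in
theorem one_le_h0_quot {Z : X.IdealSheafData} (hne : Z ≠ ⊤) : 1 ≤ CurveRR.h k (ClSub.quotMod Z) 0 := by
  haveI := CurveRR.isNoetherian_of_proper k X
  refine Nakai.h0_pos_of_section k (s := ClSub.toSubscheme Z) (CurveRR.isCoh_idealMod Z).2 fun h0 => ?_
  haveI : Epi (ClSub.toSubscheme Z) := (CurveRR.ideal_shortExact Z).epi_g
  refine not_isZero_quot_tensor (I := Z) ?_ TMul.isInvertible_structureModule
    ((IsZero.of_epi_eq_zero _ h0).of_iso (TMul.commIso _ _ ≪≫ TMul.leftUnitIso _))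
  rw [Set.nonempty_iff_ne_empty]
  exact fun he => hne ((Scheme.IdealSheafData.support_eq_bot_iff Z).1 (Closeds.ext he))

variable [IsAlgClosed k] [IsIntegral X] [Smooth (X ↘ Spec (CommRingCat.of k))] (hdim : topologicalKrullDim X = 2)

include hdim in
/-- Adjunction for a divisor. -/
theorem adj_divisor {W : X.Modules} (hW : ExtPow.IsExtPow 2 (Omega.sheaf (X ↘ Spec (CommRingCat.of k))) W)
    {Z : X.IdealSheafData} (hZ : BlowUp.IsEffCartierIdeal Z) :
    FGA.intNum k X 2 ![ClSub.idealMod Z, ClSub.idealMod Z] (Coh.structureModule X) -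
      FGA.intNum k X 2 ![ClSub.idealMod Z, W] (Coh.structureModule X) = -2 * Curv2.euler k X (ClSub.quotMod Z) := by
  haveI := CurveRR.isNoetherian_of_proper k X
  have h := SurfAdj.riemann_roch k hdim hW ((Groth.Agent.S8914.result Z).2 hZ)
  have h2 := CurveRR.euler_add (k := k) (CurveRR.ideal_shortExact Z) (CurveRR.isCoh_idealMod Z).1
    RefStalk.isCoh_structureModule (CurveRR.isCoh_idealMod Z).2
  dsimp only [ClSub.quotMod] at h2 ⊢
  omega

include k hdim in
/-- Artin's criterion. -/
theorem subsingleton_h1_of_euler (Z : X.IdealSheafData) (hZ : BlowUp.IsEffCartierIdeal Z)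
    (h : ∀ Z' J : X.IdealSheafData, BlowUp.IsEffCartierIdeal Z' → BlowUp.IsEffCartierIdeal J → Z' ≠ ⊤ →
      Z = Z' * J → 1 ≤ Curv2.euler k X (ClSub.quotMod Z')) :
    Subsingleton (Coh.HH X (ClSub.quotMod Z) 1) := by
  haveI := CurveRR.isNoetherian_of_proper k X
  haveI := Groth.Agent.S4362.result X
  induction Z using (wellFounded_gt (α := X.IdealSheafData)).induction with
  | h Z ih =>
    by_cases hZt : Z = ⊤
    · exact hZt ▸ subsingleton_quot_top k 1 one_pos
    by_contra hcon
    haveI := SurfAdj.smooth2 k hdim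
    obtain ⟨W, hW⟩ := ExtFund.exists_topPower (k := k) (X := X)
    have hWi := SurfAdj.isInvertible_W k hdim hW
    have hIZ := (Groth.Agent.S8914.result Z).2 hZ
    have hcurve : ∀ C : X.IdealSheafData, IsIntegral C.subscheme → topologicalKrullDim (C.support : Set X) = 1 →
        Z ≤ C → 0 ≤ Nakai.inter k (ClSub.idealMod C) (ClSub.idealMod Z) - Nakai.inter k (ClSub.idealMod C) W := by
      intro C hCi hC1 hle
      haveI := hCi
      have hC := Nakai.cartier_of_curve k hdim C hC1
      obtain ⟨Z', hZ', hZ'c, hlt⟩ := exists_div k hdim hC1 hZ hC hle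
      have hCt : C ≠ ⊤ := fun h => by
        rw [h, Scheme.IdealSheafData.support_top] at hC1
        haveI : IsEmpty (IrreducibleCloseds ((⊥ : Closeds X) : Set X)) :=
          ⟨fun c => c.isIrreducible.nonempty.elim fun x _ => x.2⟩
        rw [show topologicalKrullDim ((⊥ : Closeds X) : Set X) = ⊥ from Order.krullDim_eq_bot] at hC1
        exact WithBot.bot_ne_one hC1
      have hχC := h C Z' hC hZ'c hCt (hZ'.trans (mul_comm _ _))
      have hle1 := SurfAdj.euler_quot_le k hdim C hC1
      have hqC : Subsingleton (Coh.HH X (ClSub.quotMod C) 1) := by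
        haveI : Module.Finite k (Coh.HH X (ClSub.quotMod C) 1) :=
          CohFinite.finite_proper k X _ (CurveRR.isCoh_idealMod C).2 1
        refine (Module.finrank_zero_iff (R := k)).1 ?_
        have he := SurfAdj.euler_eq3 k hdim (ClSub.quotMod C)
        rw [CurveRR.h_eq_zero (subsingleton_h2_quot k hdim hC), (ConnDiv.h0_quot (k := k) C).trans
          (by
            letI : C.subscheme.Over (Spec (CommRingCat.of k)) := ⟨C.subschemeι ≫ (X ↘ Spec (CommRingCat.of k))⟩
            haveI : IsProper (C.subscheme ↘ Spec (CommRingCat.of k)) :=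
              inferInstanceAs (IsProper (C.subschemeι ≫ (X ↘ Spec (CommRingCat.of k))))
            exact ConnDiv.h0_structure)] at he
        show CurveRR.h k (ClSub.quotMod C) 1 = 0
        omega
      have hI' := (Groth.Agent.S8914.result Z').2 hZ'c
      have hIC := SurfAdj.inv_ideal k hdim C hC1
      have hd : deg k C (ClSub.idealMod Z') < -1 := by
        by_contra hd
        rw [not_lt] at hd
        obtain ⟨S, hS, ⟨a₁⟩, a₂, a₃, -⟩ := Castel.exists_shortExact_restrict hZ'c hC (le_mul_right' Z' C)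
        have hq := subsingleton_h1_quot_tensor k C hC1 hqC hI' hd
        have hs₁ : Subsingleton (Coh.HH X S.X₁ 1) :=
          (ExtShX.hhIso (A := k) (a₁ ≪≫ TMul.commIso _ _) 1).toEquiv.subsingleton
        have hih := ih Z' hlt hZ'c fun Z'' J hZ'' hJ hne he => h Z'' (J * C) hZ'' (BlowUpLib.cartier_mul hJ hC) hne
          (by rw [hZ', he, mul_assoc])
        have hs₃ : Subsingleton (Coh.HH X S.X₃ 1) := (ExtShX.hhIso (A := k) a₃ 1).toEquiv.subsingleton
        have hs₂ : Subsingleton (Coh.HH X S.X₂ 1) := subsingleton_of_forall_eq 0 fun x => by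
          have hx : x ∈ LinearMap.range (CohFinite.hhMap k S.f 1) := by
            rw [CurveRR.range_f_eq_ker_g (k := k) hS 1, LinearMap.mem_ker]
            exact hs₃.elim _ _
          obtain ⟨y, rfl⟩ := hx
          rw [hs₁.elim y 0, map_zero]
        exact hcon (ExtShX.hhIso (A := k) (a₂ ≪≫ eqToIso (congrArg (ClSub.quotMod (X := X))
          (((mul_comm C Z').trans hZ'.symm)))) 1).symm.toEquiv.subsingleton
      obtain ⟨e⟩ := Nakai.nonempty_idealMod_mul hZ'c hC
      have h2 := deg_eq_inter k hdim C hC1 hI'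
      have h3 := congrArg (fun z : ℤ => (z : ℚ)) (SurfAdj.adj k hdim hW C hC1)
      push_cast [SurfAdj.intNum_inter k hdim] at h3
      have h4 : Nakai.inter k (ClSub.idealMod C) (ClSub.idealMod Z) =
          Nakai.inter k (ClSub.idealMod C) (ClSub.idealMod Z') + Nakai.inter k (ClSub.idealMod C) (ClSub.idealMod C) := by
        rw [← Nakai.inter_tensor_right k hdim.le hI' hIC hIC, Nakai.inter_comm, hZ',
          Nakai.inter_iso k ((PicGrp.cl_eq_cl_iff _ _).2 ⟨e.symm⟩), Nakai.inter_comm]
      have h5 : (deg k C (ClSub.idealMod Z') : ℚ) ≤ -2 := by exact_mod_cast (show deg k C (ClSub.idealMod Z') ≤ -2 by omega)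
      have h6 : (Curv2.euler k X (ClSub.quotMod C) : ℚ) ≤ 1 := by exact_mod_cast hle1
      linarith
    have key : ∀ Y : X.IdealSheafData, Z ≤ Y → BlowUp.IsEffCartierIdeal Y →
        0 ≤ Nakai.inter k (ClSub.idealMod Y) (ClSub.idealMod Z) - Nakai.inter k (ClSub.idealMod Y) W := by
      intro Y
      induction Y using (wellFounded_gt (α := X.IdealSheafData)).induction with
      | h Y ihY =>
        intro hY₂ hY
        by_cases hYt : Y = ⊤
        · subst hYt
          obtain ⟨e⟩ := RatBlow.nonempty_idealMod_top (X := X)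
          rw [Nakai.inter_iso k ((PicGrp.cl_eq_cl_iff _ _).2 ⟨e⟩), Nakai.inter_iso k ((PicGrp.cl_eq_cl_iff _ _).2 ⟨e⟩),
            Nakai.inter_one, Nakai.inter_one, sub_zero]
        · obtain ⟨y, hy⟩ : (Y.support : Set X).Nonempty := by
            by_contra he
            rw [Set.not_nonempty_iff_eq_empty] at he
            exact hYt ((Scheme.IdealSheafData.support_eq_bot_iff Y).1 (Closeds.ext he))
          obtain ⟨C', hC'i, hC'1, hle', -, hC'⟩ := exists_curve k hdim hY hy
          haveI := hC'i
          obtain ⟨Y', hY', hY'c, hlt⟩ := exists_div k hdim hC'1 hY hC' hle'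
          obtain ⟨e⟩ := Nakai.nonempty_idealMod_mul hY'c hC'
          have hI' := (Groth.Agent.S8914.result Y').2 hY'c
          have hIC := (Groth.Agent.S8914.result C').2 hC'
          rw [hY', Nakai.inter_iso k ((PicGrp.cl_eq_cl_iff _ _).2 ⟨e.symm⟩),
            Nakai.inter_iso k ((PicGrp.cl_eq_cl_iff _ _).2 ⟨e.symm⟩),
            Nakai.inter_tensor k hdim.le hI' hIC hIZ, Nakai.inter_tensor k hdim.le hI' hIC hWi]
          have h1 := ihY Y' hlt (hY₂.trans hlt.le) hY'c
          have h2 := hcurve C' hC'i hC'1 (hY₂.trans hle')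
          linarith
    have h1 := key Z le_rfl hZ
    have h2 := congrArg (fun z : ℤ => (z : ℚ)) (adj_divisor k hdim hW hZ)
    push_cast [SurfAdj.intNum_inter k hdim] at h2
    have h3 : (1 : ℚ) ≤ (Curv2.euler k X (ClSub.quotMod Z) : ℚ) := by
      exact_mod_cast h Z ⊤ hZ BlowUpLib.cartier_top hZt (by rw [← Scheme.IdealSheafData.one_eq_top, mul_one])
    linarith

include k hdim in
theorem one_le_euler_of_h1 {Z : X.IdealSheafData} (hZ : BlowUp.IsEffCartierIdeal Z) (hne : Z ≠ ⊤)
    (h : Subsingleton (Coh.HH X (ClSub.quotMod Z) 1)) : 1 ≤ Curv2.euler k X (ClSub.quotMod Z) := by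
  have he := SurfAdj.euler_eq3 k hdim (ClSub.quotMod Z)
  rw [CurveRR.h_eq_zero h, CurveRR.h_eq_zero (subsingleton_h2_quot k hdim hZ)] at he
  have := one_le_h0_quot k hne
  omega

end Groth.Agent.PlaneBlow
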