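import Groth.Agent.PlaneBlow.TotalTransform
import Groth.Agent.Nakai.FlatEuler
import Groth.Agent.FibVan.Stalk
import Groth.Agent.Intersect.Push
import Groth.Agent.Intersect.Surface
import Groth.Agent.SiteCoh.ClosedPush
import Groth.Agent.CohFinite.PushLinear
import Groth.Agent.PtBlow.Rational
import Groth.Agent.ResDesc.Main

/-!
# The first higher direct image of the structure sheaf and Euler characteristics
-/

set_option autoImplicit false
set_option backward.isDefEq.respectTransparency false
set_option backward.isDefEq.respectTransparency.types false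
set_option linter.style.haveILetI false
set_option linter.unusedSectionVars false

universe u

open CategoryTheory CategoryTheory.Limits AlgebraicGeometry TopologicalSpace Opposite Abelian
open Groth.Agent.SiteCoh

noncomputable section

namespace Groth.Agent.PlaneBlow

section Site

variable {C D : Type u} [SmallCategory C] [SmallCategory D] {J : GrothendieckTopology C}
  {K : GrothendieckTopology D} (u : D ⥤ C) [u.IsContinuous K J]

/-- Local vanishing for the quotient of a short exact sequence. -/
theorem locKilled_quotient {S : ShortComplex (Sheaf J AddCommGrpCat.{u})} (hS : S.ShortExact) {q : ℕ}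
    (h₁ : LocKilled K u S.X₁ (q + 1)) (h₂ : LocKilled K u S.X₂ q) : LocKilled K u S.X₃ q := by
  intro V ξ
  obtain ⟨T, hT, hk⟩ := h₁ V (ξ.comp hS.extClass rfl)
  have hx : ∀ ⦃W : D⦄ (g : W ⟶ V), T.arrows g → ∃ T' ∈ K W, ∀ ⦃W' : D⦄ (g' : W' ⟶ W), T'.arrows g' →
      (Ext.mk₀ (CohCx.freeSheafMap J (u.map g'))).comp
        ((Ext.mk₀ (CohCx.freeSheafMap J (u.map g))).comp ξ (zero_add q)) (zero_add q) = 0 := fun W g hg => by
    obtain ⟨x₂, hx₂⟩ := Ext.covariant_sequence_exact₃ _ hS
      ((Ext.mk₀ (CohCx.freeSheafMap J (u.map g))).comp ξ (zero_add q)) rfl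
      ((Ext.comp_assoc _ _ _ (zero_add q) rfl (by omega)).trans (hk g hg))
    obtain ⟨T', hT', hk'⟩ := h₂ W x₂
    refine ⟨T', hT', fun W' g' hg' => ?_⟩
    rw [← hx₂, ← Ext.comp_assoc _ _ _ (zero_add q) (add_zero q) (by omega), hk' g' hg', Ext.zero_comp]
  choose T' hT' hk' using hx
  refine ⟨_, K.bind_covering hT (fun {W} g hg => hT' g hg), ?_⟩
  rintro W' _ ⟨W, g', g, hg, hg', rfl⟩
  have h := hk' g hg g' hg'
  rw [← Ext.comp_assoc _ _ _ (zero_add 0) (zero_add q) (by omega), Ext.mk₀_comp_mk₀] at h
  have e : CohCx.freeSheafMap J (u.map (g' ≫ g)) = CohCx.freeSheafMap J (u.map g') ≫ CohCx.freeSheafMap J (u.map g) := by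
    simp [CohCx.freeSheafMap]
  rw [e]
  exact h

/-- A surjection of direct images kills the first higher direct image of the kernel. -/
theorem locKilled_one_of_epi {S : ShortComplex (Sheaf J AddCommGrpCat.{u})} (hS : S.ShortExact)
    (h₂ : LocKilled K u S.X₂ 1) (he : Epi ((CohSite.push J K u).map S.g)) : LocKilled K u S.X₁ 1 := by
  intro V ξ
  obtain ⟨T, hT, hk⟩ := h₂ V (ξ.comp (Ext.mk₀ S.f) (add_zero 1))
  have hloc := (Sheaf.isLocallySurjective_iff_epi' AddCommGrpCat.{u} ((CohSite.push J K u).map S.g)).mpr he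
  have hx : ∀ ⦃W : D⦄ (g : W ⟶ V), T.arrows g → ∃ T' ∈ K W, ∀ ⦃W' : D⦄ (g' : W' ⟶ W), T'.arrows g' →
      (Ext.mk₀ (CohCx.freeSheafMap J (u.map g'))).comp
        ((Ext.mk₀ (CohCx.freeSheafMap J (u.map g))).comp ξ (zero_add 1)) (zero_add 1) = 0 := fun W g hg => by
    obtain ⟨x₃, hx₃⟩ := Ext.covariant_sequence_exact₁ _ hS
      ((Ext.mk₀ (CohCx.freeSheafMap J (u.map g))).comp ξ (zero_add 1))
      ((Ext.comp_assoc _ _ _ (zero_add 1) (add_zero 1) (by omega)).trans (hk g hg)) (zero_add 1)
    obtain ⟨φ, rfl⟩ := (Ext.mk₀_bijective _ _).2 x₃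
    let s : ((CohSite.push J K u).obj S.X₃).obj.obj (op W) := secEquiv (u.obj W) S.X₃ φ
    refine ⟨Presheaf.imageSieve ((CohSite.push J K u).map S.g).hom s, hloc.imageSieve_mem s, fun W' g' hg' => ?_⟩
    obtain ⟨t, ht⟩ := hg'
    rw [← hx₃, ← Ext.comp_assoc _ _ _ (zero_add 0) (zero_add 1) (by omega), Ext.mk₀_comp_mk₀]
    have hψ : CohCx.freeSheafMap J (u.map g') ≫ φ = (secEquiv (u.obj W') S.X₂).symm t ≫ S.g := by
      refine (secEquiv (u.obj W') S.X₃).injective ?_
      rw [secEquiv_freeSheafMap, secEquiv_comp, AddEquiv.apply_symm_apply]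
      exact ht.symm
    rw [hψ, ← Ext.mk₀_comp_mk₀, Ext.comp_assoc _ _ _ (zero_add 0) (zero_add 1) (by omega),
      ShortComplex.ShortExact.comp_extClass, Ext.comp_zero]
  choose T' hT' hk' using hx
  refine ⟨_, K.bind_covering hT (fun {W} g hg => hT' g hg), ?_⟩
  rintro W' _ ⟨W, g', g, hg, hg', rfl⟩
  have h := hk' g hg g' hg'
  rw [← Ext.comp_assoc _ _ _ (zero_add 0) (zero_add 1) (by omega), Ext.mk₀_comp_mk₀] at h
  have e : CohCx.freeSheafMap J (u.map (g' ≫ g)) = CohCx.freeSheafMap J (u.map g') ≫ CohCx.freeSheafMap J (u.map g) := by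
    simp [CohCx.freeSheafMap]
  rw [e]
  exact h

end Site

variable (k : Type u) [Field k] {X Y : Scheme.{u}} [X.Over (Spec (CommRingCat.of k))]
  [IsProper (X ↘ Spec (CommRingCat.of k))] [Y.Over (Spec (CommRingCat.of k))]
  [IsProper (Y ↘ Spec (CommRingCat.of k))] [IsIntegral X] [IsIntegral Y]
  (hdimY : topologicalKrullDim Y = 2) (π : Y ⟶ X)
  (hπk : π ≫ (X ↘ Spec (CommRingCat.of k)) = Y ↘ Spec (CommRingCat.of k)) [IsProper π]
  {H : Y.Modules} (hH : CohB1.IsAmple H) (U : X.Opens) (hU : ((U : Set X)ᶜ).Finite) [IsIso (π ∣_ U)]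
  (hηU : genericPoint X ∈ U) (hO : ∀ W : X.Opens, Function.Bijective (π.app W))

include k hdimY hπk hH hU hηU hO in
/-- `R¹π_*O = 0` exactly when the Euler characteristic is preserved. -/
theorem isZero_r1_iff :
    IsZero ((Coh.RpushAb π 1).obj (Coh.toAb (Coh.structureModule Y))) ↔
      Curv2.euler k Y (Coh.structureModule Y) = Curv2.euler k X (Coh.structureModule X) := by
  classical
  haveI := CurveRR.isNoetherian_of_proper k X
  haveI := CurveRR.isNoetherian_of_proper k Y
  haveI : JacobsonSpace X := LocallyOfFiniteType.jacobsonSpace (X ↘ Spec (CommRingCat.of k))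
  obtain ⟨z₀, hz₀⟩ := (π ∣_ U).surjective ⟨genericPoint X, hηU⟩
  have hπη : π (genericPoint Y) = genericPoint X := by
    have h0 : π z₀.1 = genericPoint X := (morphismRestrict_base_coe π U z₀).symm.trans (congrArg Subtype.val hz₀)
    have h1 : π (genericPoint Y) ⤳ genericPoint X := h0 ▸ (genericPoint_specializes z₀.1).map π.continuous
    exact (h1.antisymm (genericPoint_specializes _)).eq
  -- fibres have dimension at most one
  have hfib : ∀ x : X, topologicalKrullDim ↥(π.fiber x) ≤ ((1 : ℕ) : WithBot ℕ∞) := fun x => by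
    rw [IsHomeomorph.topologicalKrullDim_eq _ (π.fiberHomeo x).isHomeomorph]
    by_cases hx : x = genericPoint X
    · haveI : Subsingleton ↥(π ⁻¹' {x}) := ⟨fun a b => Subtype.ext (by
        have ha : π a.1 ∈ U := by rw [show π a.1 = x from a.2, hx]; exact hηU
        have hb : π b.1 ∈ U := by rw [show π b.1 = x from b.2, hx]; exact hηU
        have h : (π ∣_ U) ⟨a.1, ha⟩ = (π ∣_ U) ⟨b.1, hb⟩ := Subtype.ext
          ((morphismRestrict_base_coe π U ⟨a.1, ha⟩).trans
            (((show π a.1 = x from a.2).trans (show π b.1 = x from b.2).symm).trans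
              (morphismRestrict_base_coe π U ⟨b.1, hb⟩).symm))
        have h' := congrArg Subtype.val ((π ∣_ U).homeomorph.injective h)
        exact h')⟩
      haveI : DiscreteTopology ↥(π ⁻¹' {x}) := inferInstance
      exact (topologicalKrullDim_zero_of_discreteTopology _).trans (by norm_num)
    · let S : Set Y := π ⁻¹' closure {x}
      have hgS : genericPoint Y ∉ S := fun h => hx (by
        have h1 : x ⤳ genericPoint X := specializes_iff_mem_closure.2 (hπη ▸ h)
        exact (h1.antisymm (genericPoint_specializes x)).eq)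
      have hd : topologicalKrullDim S < ((2 : ℕ) : WithBot ℕ∞) := FreeJ.dim_lt_of_proper (n := 2)
        (by rw [hdimY]; norm_cast) S (isClosed_closure.preimage π.continuous) fun hu => hgS (hu ▸ Set.mem_univ _)
      refine (Topology.IsEmbedding.inclusion (Set.preimage_mono subset_closure)).topologicalKrullDim_le.trans
        (Order.le_of_lt_succ (hd.trans_le ?_))
      norm_cast
  -- an acyclic invertible module with a section
  have hOY : Coh.IsCoh (Coh.structureModule Y) := RefStalk.isCoh_structureModule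
  obtain ⟨n₀, hn₀⟩ := Nakai.exists_directAcyclic_twist π hH hOY
  haveI : (Coh.structureModule Y).IsQuasicoherent := hOY.1
  obtain ⟨n₁, hn₁⟩ := TMul.exists_forall_genOn hH (F := Coh.structureModule Y) hOY.2
  let A := CohB1.tensorMod (Coh.structureModule Y) (CohB1.tensorPow H (n₀ + n₁))
  have hAi : PicF.IsInvertible A :=
    TMul.isInvertible_tensorMod TMul.isInvertible_structureModule (TMul.isInvertible_tensorPow hH.1 _)
  have hAc := CurveRR.isCoh_of_inv hAi
  have hAa : DirectAcyclic (Opens.grothendieckTopology X) (Opens.map π.base) (Coh.toAb A) :=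
    hn₀ _ (Nat.le_add_right _ _)
  obtain ⟨D, hD, hηD, hgen⟩ := hn₁ (n₀ + n₁) (Nat.le_add_left _ _) (genericPoint Y)
  obtain ⟨s, hs⟩ := TMul.exists_mem_genLocus_of_genOn hAi hD hgen hηD
  haveI : Mono s := NegTwist.mono_of_app_injective s
    (NegTwist.app_injective_of_ass hAi s fun w hw => (SurfAdj.eq_genericPoint_of_isAssPoint hw) ▸ hs)
  let Q := cokernel s
  have hQ : Coh.IsCoh Q := QC.isCoh_cokernel hOY.1 hAc s
  let S := ShortComplex.mk s (cokernel.π s) (cokernel.condition s)
  have hS : S.ShortExact :=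
    { exact := ShortComplex.exact_cokernel s, mono_f := inferInstance, epi_g := inferInstance }
  have hSab := hS.map_of_exact (CohQC.toAbF Y)
  have hO2 : ∀ q, LocKilled (Opens.grothendieckTopology X) (Opens.map π.base) (Coh.toAb (Coh.structureModule Y)) (q + 2) :=
    fun q => locKilled_of_isZero (Opens.map π.base) (FibVan.isZero_rpushAb π 1 hfib _ (q + 2) (by omega))
  have hQa : DirectAcyclic (Opens.grothendieckTopology X) (Opens.map π.base) (Coh.toAb Q) :=
    fun q => locKilled_quotient (Opens.map π.base) hSab (hO2 q) (hAa q)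
  -- vanishing is surjectivity after direct image
  let P := Scheme.Modules.pushforward π
  have hiff : IsZero ((Coh.RpushAb π 1).obj (Coh.toAb (Coh.structureModule Y))) ↔ Epi (P.map S.g) := by
    constructor
    · intro h
      haveI : Epi ((CohQC.toAbF X).map (P.map S.g)) :=
        push_epi_of_locKilled (Opens.map π.base) hSab (locKilled_of_isZero (Opens.map π.base) h)
      haveI : (CohQC.toAbF X).Faithful := inferInstanceAs (SheafOfModules.toSheaf X.ringCatSheaf).Faithful
      exact (CohQC.toAbF X).epi_of_epi_map inferInstance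
    · intro h
      haveI := h
      refine isZero_rpush_of_locKilled (u := Opens.map π.base) (locKilled_one_of_epi (Opens.map π.base) hSab (hAa 0) ?_)
      exact inferInstanceAs (Epi ((CohQC.toAbF X).map (P.map S.g)))
  rw [hiff]
  haveI : PreservesLimitsOfSize.{0, 0} P := (Scheme.Modules.pullbackPushforwardAdjunction π).rightAdjoint_preservesLimits
  haveI : Mono (P.map S.f) := inferInstance
  let g' := P.map S.g
  let C := cokernel g'
  let I := kernel (cokernel.π g')
  let τ : P.obj S.X₂ ⟶ I := kernel.lift (cokernel.π g') g' (cokernel.condition g')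
  haveI : Epi τ := inferInstanceAs (Epi (Abelian.factorThruImage g'))
  have hfk : IsLimit (KernelFork.ofι (P.map S.f) (show P.map S.f ≫ g' = 0 by
      rw [← P.map_comp, S.zero, P.map_zero])) := KernelFork.mapIsLimit _ hS.fIsKernel P
  let T₁ := ShortComplex.mk (P.map S.f) τ (by
    rw [← cancel_mono (kernel.ι (cokernel.π g')), Category.assoc, kernel.lift_ι, zero_comp, ← P.map_comp, S.zero,
      P.map_zero])
  have hT₁ : T₁.ShortExact :=
    { exact := by
        have h : (ShortComplex.mk (P.map S.f) g' (show P.map S.f ≫ g' = 0 by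
          rw [← P.map_comp, S.zero, P.map_zero])).Exact := ShortComplex.exact_of_f_is_kernel _ hfk
        let φ : T₁ ⟶ ShortComplex.mk (P.map S.f) g' (show P.map S.f ≫ g' = 0 by
            rw [← P.map_comp, S.zero, P.map_zero]) :=
          { τ₁ := 𝟙 _, τ₂ := 𝟙 _, τ₃ := kernel.ι (cokernel.π g'), comm₂₃ := by simp [T₁, τ] }
        haveI : Epi φ.τ₁ := inferInstanceAs (Epi (𝟙 _))
        haveI : IsIso φ.τ₂ := inferInstanceAs (IsIso (𝟙 _))
        haveI : Mono φ.τ₃ := inferInstanceAs (Mono (kernel.ι (cokernel.π g')))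
        exact (ShortComplex.exact_iff_of_epi_of_isIso_of_mono φ).2 h
      mono_f := inferInstanceAs (Mono (P.map S.f)), epi_g := inferInstance }
  let T₂ := ShortComplex.mk (kernel.ι (cokernel.π g')) (cokernel.π g') (kernel.condition _)
  have hT₂ : T₂.ShortExact :=
    { exact := ShortComplex.exact_of_f_is_kernel _ (kernelIsKernel _)
      mono_f := inferInstance, epi_g := inferInstance }
  have hPO := Intersect.isCoh_push' π hOY
  have hPA := Intersect.isCoh_push' π hAc
  have hPQ := Intersect.isCoh_push' π hQ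
  have hC : Coh.IsCoh C := QC.isCoh_cokernel hPA.1 hPQ g'
  have hI : Coh.IsCoh I := QC.isCoh_kernel hPQ hC.1 (cokernel.π g')
  obtain ⟨eO⟩ := PtPush.nonempty_push_structure π hO
  -- the cokernel lives on finitely many points
  have hsupp : CohB1.support C ⊆ (U : Set X)ᶜ := fun x hx hxU => by
    refine CurveRR.notMem_support_coker g' x (fun w => ?_) hx
    obtain ⟨W, hW, a, rfl⟩ := (P.obj S.X₃).presheaf.exists_germ_eq (x := x) w
    obtain ⟨V, hV, hxV, hVle⟩ := exists_isAffineOpen_mem_and_subset (x := x) (U := W ⊓ U) ⟨hW, hxU⟩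
    have hVW : V ≤ W := fun z hz => (hVle hz).1
    have haff : IsAffineOpen (π ⁻¹ᵁ V) := by
      haveI : IsAffineHom (π ∣_ U) := inferInstance
      haveI : IsAffine (V : Scheme.{u}) := hV
      have h1 : IsAffineOpen ((π ∣_ U) ⁻¹ᵁ (U.ι ⁻¹ᵁ V)) :=
        (hV.preimage_of_isOpenImmersion U.ι (fun z hz => by
          rw [Scheme.Opens.opensRange_ι]; exact (hVle hz).2)).preimage _
      have h2 := h1.image_of_isOpenImmersion (π ⁻¹ᵁ U).ι
      rwa [image_morphismRestrict_preimage, Scheme.Hom.image_preimage_eq_opensRange_inf, Scheme.Opens.opensRange_ι,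
        inf_eq_right.2 (fun z hz => (hVle hz).2)] at h2
    obtain ⟨t, ht⟩ := QC.app_surjective_of_epi haff hAc.1 hQ.1 (cokernel.π s) (Groth.Agent.QC.res _ hVW a)
    refine ⟨WeakAssLib.mgerm (P.obj S.X₂) hxV t, ?_⟩
    rw [WeakAssLib.stalkHom_germ]
    refine Eq.trans (congrArg (WeakAssLib.mgerm (P.obj S.X₃) hxV) (show g'.app V t = Groth.Agent.QC.res _ hVW a from ht)) ?_
    exact WeakAssLib.mgerm_res (P.obj S.X₃) hVW hxV a
  have hd0 : topologicalKrullDim ↥((U : Set X)ᶜ) ≤ 0 := by
    haveI := hU.to_subtype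
    haveI : T1Space ↥((U : Set X)ᶜ) := ⟨fun a => by
      have h := (isClosed_of_notMem U hU a.2).preimage (continuous_subtype_val (p := fun z => z ∈ ((U : Set X)ᶜ)))
      convert h using 1
      ext b
      exact ⟨fun e => congrArg Subtype.val e, fun e => Subtype.ext e⟩⟩
    exact topologicalKrullDim_zero_of_discreteTopology _
  have hEC : Curv2.euler k X C = (CurveRR.h k C 0 : ℤ) := CurveRR.euler_eq_h0 fun i hi =>
    SuppZero.subsingleton_hh_of_supported U.2.isClosed_compl hd0 _ (fun _ hy h => hy (hsupp h)) i hi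
  -- bookkeeping of Euler characteristics
  have hpush : ∀ M : Y.Modules, DirectAcyclic (Opens.grothendieckTopology X) (Opens.map π.base) (Coh.toAb M) →
      Curv2.euler k Y M = Curv2.euler k X (P.obj M) := fun M hM => finsum_congr fun n => by
    obtain ⟨e⟩ := CohFinite.hh_push_linear k π hπk M hM n
    rw [e.finrank_eq]
  have e1 := CurveRR.euler_add (k := k) hS hOY hAc hQ
  have e2 := CurveRR.euler_add (k := k) hT₁ hPO hPA hI
  have e3 := CurveRR.euler_add (k := k) hT₂ hI hPQ hC
  have e4 := hpush A hAa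
  have e5 := hpush Q hQa
  change Curv2.euler k Y A = Curv2.euler k Y (Coh.structureModule Y) + Curv2.euler k Y Q at e1
  change Curv2.euler k X (P.obj A) = Curv2.euler k X (P.obj (Coh.structureModule Y)) + Curv2.euler k X I at e2
  change Curv2.euler k X (P.obj Q) = Curv2.euler k X I + Curv2.euler k X C at e3
  rw [CurveRR.euler_eq_of_iso (k := k) eO] at e2
  constructor
  · intro h
    haveI : Epi g' := h
    have hz : IsZero C := isZero_cokernel_of_epi g'
    have h0 : Curv2.euler k X C = 0 := by
      rw [hEC, CurveRR.h_eq_zero (W7Hull.hh_subsingleton_of_isZero hz 0)]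
      rfl
    omega
  · intro h
    have h0 : CurveRR.h k C 0 = 0 := by omega
    haveI : Module.Finite k (Coh.HH X C 0) := CohFinite.finite_proper k X _ hC 0
    haveI := (Module.finrank_zero_iff (R := k) (M := Coh.HH X C 0)).1 h0
    obtain ⟨ev, -⟩ := CohFinite.exists_zero_equiv (X := X) k C
    have hz : IsZero C := CurveRR.isZero_of_h0 (k := k) U.2.isClosed_compl hd0 hsupp ev.symm.toEquiv.subsingleton
    exact Abelian.epi_of_cokernel_π_eq_zero g' (hz.eq_of_tgt _ _)

end Groth.Agent.PlaneBlow

namespace Groth.Agent.PlaneBlow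

variable (k : Type u) [Field k] {X : Scheme.{u}} [X.Over (Spec (CommRingCat.of k))]
  [IsProper (X ↘ Spec (CommRingCat.of k))] [IsIntegral X]

include k in
/-- On a surface a closed point is not the generic point. -/
theorem ne_genericPoint_of_isClosed (hdim : topologicalKrullDim X = 2) {p : X} (hp : IsClosed ({p} : Set X)) :
    p ≠ genericPoint X := fun he => by
  subst he
  haveI : Subsingleton X := ⟨fun a b => by
    have h : ∀ c : X, c = genericPoint X := fun c =>
      Set.mem_singleton_iff.1 (hp.closure_eq ▸ ((genericPoint_closure (α := X)).ge trivial))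
    rw [h a, h b]⟩
  have h0 := topologicalKrullDim_zero_of_discreteTopology (X := X)
  rw [hdim] at h0
  exact absurd h0 (by norm_num)

include k in
/-- A normal surface has finitely many singular points. -/
theorem finite_singular (hdim : topologicalKrullDim X = 2) (hn : Pi1.IsNormalScheme X) (U : X.Opens)
    (hU : ∀ x : X, x ∈ U ↔ IsRegularLocalRing (X.presheaf.stalk x)) : ((U : Set X)ᶜ).Finite := by
  haveI := CurveRR.isNoetherian_of_proper k X
  have hclosed : ∀ p : X, p ∉ U → IsClosed ({p} : Set X) := fun p hp => by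
    obtain ⟨q, hq, hqc⟩ := (isClosed_closure (s := ({p} : Set X))).exists_closed_singleton ⟨p, subset_closure rfl⟩
    by_cases hpq : p = q
    · exact hpq ▸ hqc
    exfalso
    refine hp ((hU p).2 ?_)
    haveI := (hn p).1
    haveI := (hn p).2
    have hlt : q < p := lt_iff_le_not_ge.2 ⟨specializes_iff_mem_closure.2 hq, fun h =>
      hpq ((Specializes.antisymm (specializes_iff_mem_closure.2 hq) h).eq)⟩
    have h2 := GrpAct.dim_stalk_closed_eq (k := k) (X ↘ Spec (CommRingCat.of k)) q hqc
    rw [hdim, ringKrullDim_stalk_eq_coheight] at h2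
    have h2' : Order.coheight q = (2 : ℕ∞) := WithBot.coe_inj.1 h2
    have h1 := Order.coheight_add_one_le hlt
    rw [h2', show (2 : ℕ∞) = 1 + 1 from rfl] at h1
    refine Catenary.isRegularLocalRing_of_normal ?_
    rw [ringKrullDim_stalk_eq_coheight]
    exact WithBot.coe_le_coe.2 ((WithTop.add_le_add_iff_right ENat.one_ne_top).1 h1)
  let Z : Set X := (U : Set X)ᶜ
  haveI : NoetherianSpace Z := Topology.IsEmbedding.subtypeVal.isInducing.noetherianSpace
  have hfin := NoetherianSpace.finite_irreducibleComponents (α := Z)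
  have hsub : ∀ S ∈ irreducibleComponents Z, S.Subsingleton := fun S hS a ha b hb => by
    have key : ∀ c : Z, IsClosed ({c} : Set Z) := fun c => by
      have h := (hclosed c.1 c.2).preimage (continuous_subtype_val (p := fun z => z ∈ Z))
      convert h using 1
      ext d
      exact ⟨fun e => congrArg Subtype.val e, fun e => Subtype.ext e⟩
    haveI : T1Space Z := ⟨key⟩
    haveI : QuasiSober Z := (U.2.isClosed_compl.isClosedEmbedding_subtypeVal).quasiSober
    obtain ⟨η, hη⟩ := QuasiSober.sober hS.1 (isClosed_of_mem_irreducibleComponents S hS)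
    have h1 : S = {η} := hη.def.symm.trans (key η).closure_eq
    rw [h1] at ha hb
    exact ha.trans hb.symm
  refine Set.Finite.subset ((hfin.biUnion fun S hS => (hsub S hS).finite).image Subtype.val) fun p hp => ?_
  exact ⟨⟨p, hp⟩, Set.mem_biUnion (irreducibleComponent_mem_irreducibleComponents _) mem_irreducibleComponent, rfl⟩

end Groth.Agent.PlaneBlow
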