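import Groth.Agent.PlaneBlow.TotalTransform
import Groth.Agent.Castel.PicModel
import Groth.Agent.Castel.CanonContract
import Groth.Agent.DivPart.Sum
import Groth.Agent.NegTwist.Sections
import Groth.Agent.ExtFund.CanonOpen

/-!
# Invertible modules trivial off a prime divisor; top differentials on common opens
-/

set_option autoImplicit false
set_option backward.isDefEq.respectTransparency false
set_option backward.isDefEq.respectTransparency.types false
set_option linter.style.haveILetI false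
set_option linter.unusedSectionVars false

universe u

open CategoryTheory CategoryTheory.Limits AlgebraicGeometry TopologicalSpace
open Groth.Agent.QC (res res_self res_res)
open TMul (IsGen homOf val_homOf val)

noncomputable section

namespace Groth.Agent.PlaneBlow

attribute [local instance] W7Cube.law

/-- An invertible module trivial off a prime divisor is a multiple of it. -/
theorem exists_zpow_of_trivial_off {X : Scheme.{u}} [IsIntegral X] [IsNoetherian X] {E : X.IdealSheafData}
    (hE : BlowUp.IsEffCartierIdeal E) [IsIntegral E.subscheme] {G : X.Modules} (hG : PicF.IsInvertible G)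
    (U : X.Opens) (hU : (U : Set X) = (E.support : Set X)ᶜ)
    (e : (Scheme.Modules.pullback U.ι).obj G ≅ Coh.structureModule (U : Scheme.{u})) :
    ∃ a : ℤ, PicGrp.cls G hG = Castel.clsD E ^ a := by
  classical
  let e' : G.restrict U.ι ≅ Coh.structureModule (U : Scheme.{u}) :=
    (Scheme.Modules.restrictFunctorIsoPullback U.ι).app G ≪≫ e
  have hg0 : IsGen (N := G.restrict U.ι) (U := (⊤ : (U : Scheme.{u}).Opens))
      (e'.inv.app ⊤ (1 : Γ((U : Scheme.{u}), ⊤))) :=
    AbelMap.isGen_app e'.symm (TMul.isGen_one ⊤)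
  obtain ⟨D, hDi, hD⟩ := Castel.exists_inverse_module ((Groth.Agent.S8914.result _).2 hE)
  obtain ⟨χ, hχ⟩ := AbelMap.exists_section hE hDi hD
  have hloc : CohB1.genLocus D χ = U := by
    refine TopologicalSpace.Opens.ext ?_
    have h1 := NegTwist.coe_support_zeroScheme hDi χ
    rw [hχ] at h1
    rw [hU, h1, compl_compl]
  have himg : U.ι ''ᵁ (⊤ : (U : Scheme.{u}).Opens) = U := U.ι_image_top
  have hg : IsGen (X := X) (N := G) (U := U.ι ''ᵁ (⊤ : (U : Scheme.{u}).Opens))
      (e'.inv.app ⊤ (1 : Γ((U : Scheme.{u}), ⊤))) := by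
    intro W hW
    obtain ⟨W', rfl⟩ : ∃ W' : (U : Scheme.{u}).Opens, U.ι ''ᵁ W' = W :=
      ⟨U.ι ⁻¹ᵁ W, by rw [Scheme.Hom.image_preimage_eq_opensRange_inf, Scheme.Opens.opensRange_ι, inf_eq_right]
                     exact hW.trans himg.le⟩
    have h2 := hg0 W' le_top
    exact (Function.Bijective.of_comp_iff _ (ConcreteCategory.bijective_of_isIso (U.ι.appIso W').inv)).1 h2
  have hle : CohB1.genLocus D χ ≤ U.ι ''ᵁ (⊤ : (U : Scheme.{u}).Opens) := by rw [hloc, himg]
  have hgU := hg.res hle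
  haveI : G.IsQuasicoherent := TMul.isQCoh_of_isInvertible hG
  obtain ⟨n, -, t', ht'⟩ := TMul.exists_twist_extends hDi χ
    (res G hle (e'.inv.app ⊤ (1 : Γ((U : Scheme.{u}), ⊤))))
  let G' := CohB1.tensorMod G (CohB1.tensorPow D n)
  have hG' : PicF.IsInvertible G' := TMul.isInvertible_tensorMod hG (TMul.isInvertible_tensorPow hDi n)
  have hsec : U ≤ CohB1.genLocus G' (homOf t') := by
    rw [← hloc]
    refine TMul.le_genLocus _ ?_
    rw [val_homOf, ht', TMul.twist_eq_tm χ (e := val χ (CohB1.genLocus D χ)) (c := 1) (one_smul _ _).symm,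
      one_pow, one_smul]
    exact TMul.isGen_tm hgU (TMul.isGen_pw (TMul.isGen_genLocus χ) n)
  have hEη : genericPoint X ∉ (E.support : Set X) := fun hη => by
    obtain ⟨W, hηW, g, hgz, hge⟩ := hE (genericPoint X)
    haveI : Nonempty W.1 := ⟨⟨_, hηW⟩⟩
    have h1 : genericPoint X ∉ (E.support : Set X) := fun h => by
      rw [SetLike.mem_coe, E.mem_support_iff_of_mem hηW, hge, Scheme.zeroLocus_span, Scheme.mem_zeroLocus_iff] at h
      refine h g rfl ?_
      have hb : X.basicOpen g ≠ ⊥ := fun hb => nonZeroDivisors.ne_zero hgz ((basicOpen_eq_bot_iff g).1 hb)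
      exact ((genericPoint_spec X).mem_open_set_iff (X.basicOpen g).2).2
        (by simpa using (Opens.ne_bot_iff_nonempty _).1 hb)
    exact h1 hη
  obtain ⟨F, hF, hFs, ⟨eF⟩⟩ := NegTwist.exists_cartier_of_section_support hG' (homOf t')
    fun y hy => hsec (by
      rw [SurfAdj.eq_genericPoint_of_isAssPoint hy, ← SetLike.mem_coe, hU]
      exact hEη)
  obtain ⟨b, hb⟩ := DivPart.exists_eq_prod F hF 1 (fun _ => E) (fun _ => hE) (fun _ => inferInstance) (by
    rw [hFs, Set.iUnion_const, Set.compl_subset_comm, ← hU]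
    exact hsec)
  have hFi := (Groth.Agent.S8914.result F).2 hF
  have h1 : PicGrp.cls G' hG' = (Castel.clsD F)⁻¹ := by
    rw [Castel.clsD_eq hFi]
    exact Castel.cls_eq_inv hG' hFi ⟨TMul.commIso G' (ClSub.idealMod F) ≪≫ eF⟩
  obtain ⟨hDi', hDc⟩ := Castel.cls_inverse hE hD
  have h2 : PicGrp.cls G' hG' = PicGrp.cls G hG * PicGrp.cls D hDi ^ n := by
    rw [← Castel.cls_tensorPow hDi n]
    rfl
  rw [h2, hDc, hb, Castel.clsD_prod _ _ (fun _ => hE), Fin.prod_univ_one, ← zpow_natCast,
    ← zpow_natCast (Castel.clsD E), inv_zpow, ← eq_div_iff_mul_eq', ← zpow_neg, ← zpow_neg, div_eq_mul_inv,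
    ← zpow_neg, ← zpow_add] at h1
  exact ⟨_, h1⟩

/-- Top differentials agree on common open subschemes. -/
theorem nonempty_topPower_pullback_iso {X X' S : Scheme.{u}} (f : X ⟶ S) (f' : X' ⟶ S) (n : ℕ)
    [SmoothOfRelativeDimension n f] [SmoothOfRelativeDimension n f'] [QuasiSeparated f] [QuasiSeparated f']
    {ω : X.Modules} {ω' : X'.Modules} (hω : ExtPow.IsExtPow n (Omega.sheaf f) ω)
    (hω' : ExtPow.IsExtPow n (Omega.sheaf f') ω') {U : Scheme.{u}} (j : U ⟶ X) (j' : U ⟶ X')
    [IsOpenImmersion j] [IsOpenImmersion j'] [QuasiSeparated (j ≫ f)] (h : j ≫ f = j' ≫ f') :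
    Nonempty ((Scheme.Modules.pullback j).obj ω ≅ (Scheme.Modules.pullback j').obj ω') := by
  haveI : SmoothOfRelativeDimension n (j ≫ f) := by
    simpa using (inferInstance : SmoothOfRelativeDimension (0 + n) (j ≫ f))
  obtain ⟨b⟩ := ExtFund.nonempty_omega_etale j f (j ≫ f) rfl
  obtain ⟨b'⟩ := ExtFund.nonempty_omega_etale j' f' (j ≫ f) h.symm
  exact ExtFund.nonempty_canon_iso_det (𝟙 U) (j ≫ f) (𝟙 U) (j ≫ f) rfl
    (ExtFund.hasDet_conormal_id U) (ExtFund.hasDet_conormal_id U)
    (ExtFund.hasDet_congr b ((ExtFund.hasDet_omega f n hω).pullback j))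
    (ExtFund.hasDet_congr b' ((ExtFund.hasDet_omega f' n hω').pullback j'))
    ⟨SecTwist.unitorR _ ≪≫ ((Scheme.Modules.pullbackId U).app _).symm⟩
    ⟨SecTwist.unitorR _ ≪≫ ((Scheme.Modules.pullbackId U).app _).symm⟩

end Groth.Agent.PlaneBlow
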